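import Cfsg.Agent.Lib.PMinimalLie.Family
import Cfsg.Agent.Lib.SylowOver.SplitBN

/-!
The maximal overgroups of `U` in a simple group with a split (B, N)-pair, and two invariants
separating them.
-/

set_option autoImplicit false

namespace CfsgLib.PMinimalLie

open CfsgLib.BN CfsgLib.SylowOver

variable {G : Type*} [Group G]

/-- The elements of `U` all of whose conjugates under `Q` stay in `U`. -/
def coreIn (U Q : Subgroup G) : Subgroup G where
  carrier := {x | x ∈ U ∧ ∀ g ∈ Q, g * x * g⁻¹ ∈ U}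
  one_mem' := ⟨one_mem U, fun g _ => by simp⟩
  mul_mem' {a b} ha hb := ⟨mul_mem ha.1 hb.1, fun g hg => by
    rw [show g * (a * b) * g⁻¹ = g * a * g⁻¹ * (g * b * g⁻¹) by group]
    exact mul_mem (ha.2 g hg) (hb.2 g hg)⟩
  inv_mem' {a} ha := ⟨inv_mem ha.1, fun g hg => by
    rw [show g * a⁻¹ * g⁻¹ = (g * a * g⁻¹)⁻¹ by group]
    exact inv_mem (ha.2 g hg)⟩

theorem mem_coreIn {U Q : Subgroup G} {x : G} :
    x ∈ coreIn U Q ↔ x ∈ U ∧ ∀ g ∈ Q, g * x * g⁻¹ ∈ U := Iff.rfl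

theorem coreIn_map (α : MulAut G) (U Q : Subgroup G) :
    (coreIn U Q).map α.toMonoidHom = coreIn (U.map α.toMonoidHom) (Q.map α.toMonoidHom) := by
  ext y
  constructor
  · rintro ⟨x, ⟨hx, hxQ⟩, rfl⟩
    refine ⟨⟨x, hx, rfl⟩, ?_⟩
    rintro _ ⟨g, hg, rfl⟩
    exact ⟨g * x * g⁻¹, hxQ g hg, by simp⟩
  · rintro ⟨⟨x, hx, rfl⟩, h⟩
    refine ⟨x, ⟨hx, fun g hg => ?_⟩, rfl⟩
    have h1 := h (α g) ⟨g, hg, rfl⟩
    rw [show α g * α.toMonoidHom x * (α g)⁻¹ = α.toMonoidHom (g * x * g⁻¹) by simp,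
      Subgroup.mem_map_iff_mem α.injective] at h1
    exact h1

variable {p : ℕ} {P : Cfsg.BNPair G} {U : Subgroup G}

/-- The maximal parabolic subgroup omitting `s`. -/
def maxPar (P : Cfsg.BNPair G) (s : P.S) : Subgroup G := P.parabolic (P.S \ {(s : G)})

theorem not_mem_maxPar (s : P.S) : (s : G) ∉ maxPar P s := fun h =>
  (mem_parabolic_S P Set.sdiff_subset s.2 h).2 rfl

theorem mem_maxPar {s t : P.S} (h : (t : G) ≠ s) : (t : G) ∈ maxPar P s :=
  subset_parabolic P ⟨t.2, h⟩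

theorem mem_B_of_forall {x : G} (hx : ∀ s : P.S, x ∈ maxPar P s) : x ∈ P.B := by
  let M : Subgroup G := ⨅ s : P.S, maxPar P s
  have hM : P.B ≤ M := le_iInf fun s => B_le_parabolic P _
  have h1 := eq_parabolic P hM
  have hJ : {s | s ∈ P.S ∧ s ∈ M} = (∅ : Set G) := by
    ext s
    simp only [Set.mem_ofPred_eq, Set.mem_empty_iff_false, iff_false, not_and]
    exact fun hs hm => not_mem_maxPar ⟨s, hs⟩ (Subgroup.mem_iInf.1 hm ⟨s, hs⟩)
  rw [hJ, Cfsg.BNPair.parabolic, Subgroup.closure_empty, sup_bot_eq] at h1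
  exact h1 ▸ Subgroup.mem_iInf.2 hx

variable [Finite G] [Fact p.Prime] (hS : IsSplit p P U)
include hS

omit [Finite G] [Fact p.Prime] in
theorem le_maxPar (s : P.S) : U ≤ maxPar P s := hS.le.trans (B_le_parabolic P _)

theorem bnFamily (hG : IsSimpleGroup G) (hne : P.S.Nonempty) : Family U (maxPar P) := by
  refine ⟨le_maxPar hS, fun M hM hUM => ?_,
    fun s => ⟨s, not_mem_maxPar s, fun t ht => mem_maxPar fun e => ht (Subtype.ext e.symm)⟩⟩
  obtain ⟨J, hJ, hJS, hMJ⟩ := hS.exists_le_parabolic hG hne hUM hM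
  obtain ⟨s, hs, hsJ⟩ := Set.exists_of_ssubset (hJ.ssubset_of_ne hJS)
  exact ⟨⟨s, hs⟩, hMJ.trans (parabolic_mono P fun t ht => ⟨hJ ht, fun e => hsJ ((Set.mem_singleton_iff.1 e : t = s) ▸ ht)⟩)⟩

theorem exists_sylow_U : ∃ V : Sylow p G, (V : Subgroup G) = U :=
  ⟨hS.isPGroup.toSylow hS.not_dvd_index, rfl⟩

theorem bn_sep (hG : IsSimpleGroup G) (hne : P.S.Nonempty) : Sep U :=
  have : Nonempty P.S := hne.to_subtype
  (bnFamily hS hG hne).sep

theorem bn_infLe (hG : IsSimpleGroup G) (hne : P.S.Nonempty) : InfLe U :=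
  (bnFamily hS hG hne).infLe fun _ hx => hS.normalizer_eq.symm ▸ mem_B_of_forall hx

theorem geo_of_apart (hG : IsSimpleGroup G) (hne : P.S.Nonempty) (hap : Apart U) (rk exc : Prop) :
    Geo p G rk exc := by
  obtain ⟨V, hV⟩ := exists_sylow_U hS
  exact ⟨V, hV.symm ▸ bn_sep hS hG hne, Or.inl (hV.symm ▸ hap)⟩

theorem geo_of_rankOne (hG : IsSimpleGroup G) (hne : P.S.Nonempty) {rk : Prop} (hrk : rk)
    (exc : Prop) : Geo p G rk exc := by
  obtain ⟨V, hV⟩ := exists_sylow_U hS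
  exact ⟨V, hV.symm ▸ bn_sep hS hG hne, Or.inr ⟨hV.symm ▸ bn_infLe hS hG hne, Or.inl hrk⟩⟩

theorem geo_of_rankTwo (hG : IsSimpleGroup G) {a b : P.S} (hab : a ≠ b)
    (hall : ∀ s : P.S, s = a ∨ s = b) (rk : Prop) {exc : Prop} (hexc : p = 2 → exc) :
    Geo p G rk exc := by
  obtain ⟨V, hV⟩ := exists_sylow_U hS
  have hne : P.S.Nonempty := ⟨a, a.2⟩
  exact ⟨V, hV.symm ▸ bn_sep hS hG hne, Or.inr ⟨hV.symm ▸ bn_infLe hS hG hne,
    Or.inr ⟨hV.symm ▸ (bnFamily hS hG hne).twoOver hab hall, hexc⟩⟩⟩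

/-- Two maximal overgroups whose cores in `U` are not isomorphic. -/
theorem apart_of_coreIn (hG : IsSimpleGroup G) {s t : P.S}
    (h : IsEmpty (↥(coreIn U (maxPar P s)) ≃* ↥(coreIn U (maxPar P t)))) : Apart U := by
  have hF := bnFamily hS hG ⟨s, s.2⟩
  refine ⟨_, _, hF.isMaxOver s, hF.isMaxOver t, fun α hU hQ => h.false ?_⟩
  refine ((coreIn U (maxPar P s)).equivMapOfInjective α.toMonoidHom α.injective).trans
    (MulEquiv.subgroupCongr ?_)
  rw [coreIn_map, hU, hQ]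

/-- Two nodes whose reflections move `U` by different amounts. -/
theorem apart_of_node (hG : IsSimpleGroup G) {s t : P.S}
    (h : Nat.card {u : U // (s : G)⁻¹ * u * s ∈ U} ≠ Nat.card {u : U // (t : G)⁻¹ * u * t ∈ U}) :
    Apart U := by
  have hF := bnFamily hS hG ⟨s, s.2⟩
  refine ⟨_, _, hF.isMaxOver s, hF.isMaxOver t, fun α hU hQ => h ?_⟩
  have hαB : P.B.map α.toMonoidHom = P.B := by
    rw [← hS.normalizer_eq, Subgroup.map_equiv_normalizer_eq, hU]
  -- the image of the minimal parabolic subgroup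
  set M := (P.parabolic {(s : G)}).map α.toMonoidHom with hM
  have hBM : P.B ≤ M := by
    conv_lhs => rw [← hαB]
    exact Subgroup.map_mono (B_le_parabolic P _)
  have hsS : ({(s : G)} : Set G) ⊆ P.S := Set.singleton_subset_iff.2 s.2
  have hmin : ∀ x ∈ P.parabolic {(s : G)}, x ∈ maxPar P s → x ∈ P.B := by
    intro x hx hx'
    refine mem_B_of_forall fun u => ?_
    by_cases e : (s : G) = u
    · exact (Subtype.ext e : s = u) ▸ hx'
    · exact parabolic_mono P (Set.singleton_subset_iff.2 (show (s : G) ∈ P.S \ {(u : G)} from ⟨s.2, e⟩)) hx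
  have hJ : ∀ u : P.S, (u : G) ∈ M → u = t := by
    intro u hu
    by_contra hne
    obtain ⟨x, hx, hxu⟩ := hu
    have hxQ : x ∈ maxPar P s := by
      have h1 : (u : G) ∈ maxPar P t := mem_maxPar fun e => hne (Subtype.ext e)
      rw [← hQ] at h1
      obtain ⟨y, hy, hyu⟩ := h1
      exact α.injective (hyu.trans hxu.symm) ▸ hy
    refine S_not_mem_B P u.2 ?_
    rw [← hαB]
    exact ⟨x, hmin x hx hxQ, hxu⟩
  have hMle : M ≤ P.parabolic {(t : G)} := by
    conv_lhs => rw [eq_parabolic P hBM]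
    refine parabolic_mono P ?_
    rintro u ⟨hu, huM⟩
    exact congrArg Subtype.val (hJ ⟨u, hu⟩ huM)
  have hαs : α (s : G) ∈ P.parabolic {(t : G)} :=
    hMle ⟨s, subset_parabolic P rfl, rfl⟩
  obtain ⟨w, hw, hcell⟩ :=
    (mem_parabolic P (Set.singleton_subset_iff.2 t.2)).1 hαs
  have hwt : w = 1 ∨ w = sgen P t := by
    obtain ⟨l, hl, rfl⟩ := hw
    clear hcell
    induction l with
    | nil => exact Or.inl rfl
    | cons a l ih =>
      have ha : a = t := Subtype.ext (hl a List.mem_cons_self)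
      subst ha
      rw [List.map_cons, List.prod_cons]
      rcases ih (fun i hi => hl i (List.mem_cons_of_mem _ hi)) with e | e <;> rw [e]
      · exact Or.inr (mul_one _)
      · exact Or.inl (sgen_sq P a)
  rcases hwt with rfl | rfl
  · exfalso
    have h1 := (mem_cell_one P).1 hcell
    rw [← hαB] at h1
    obtain ⟨y, hy, e⟩ := h1
    exact S_not_mem_B P s.2 (α.injective e ▸ hy)
  obtain ⟨b, hb, b', hb', e⟩ := (mem_cell_wk P (P.subset t.2)).1 hcell
  have hmem : ∀ x : G, α x ∈ U ↔ x ∈ U := fun x => by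
    conv_lhs => rw [← hU]
    exact Subgroup.mem_map_iff_mem (f := α.toMonoidHom) α.injective
  have hnorm : ∀ c ∈ P.B, ∀ x : G, c * x * c⁻¹ ∈ U ↔ x ∈ U := fun c hc x => by
    rw [← hS.normalizer_eq] at hc
    exact ((Subgroup.mem_normalizer_iff.1 hc) x).symm
  refine Nat.card_congr ⟨fun x => ⟨⟨b⁻¹ * α x.1.1 * b, ?_⟩, ?_⟩,
    fun y => ⟨⟨α.symm (b * y.1.1 * b⁻¹), ?_⟩, ?_⟩, fun x => ?_, fun y => ?_⟩
  · rw [show b⁻¹ * α x.1.1 * b = b⁻¹ * α x.1.1 * b⁻¹⁻¹ by group, hnorm _ (inv_mem hb)]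
    exact (hmem _).2 x.1.2
  · show (t : G)⁻¹ * (b⁻¹ * α x.1.1 * b) * t ∈ U
    have h1 := (hmem _).2 x.2
    rw [map_mul, map_mul, map_inv, e] at h1
    rw [← hnorm _ (inv_mem hb')]
    convert h1 using 1
    group
  · rw [← hmem, MulEquiv.apply_symm_apply, hnorm _ hb]
    exact y.1.2
  · show (s : G)⁻¹ * α.symm (b * y.1.1 * b⁻¹) * s ∈ U
    rw [← hmem, map_mul, map_mul, map_inv, MulEquiv.apply_symm_apply, e]
    have h1 := y.2
    rw [← hnorm _ (inv_mem hb')] at h1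
    convert h1 using 1
    group
  · refine Subtype.ext (Subtype.ext ?_)
    show α.symm (b * (b⁻¹ * α x.1.1 * b) * b⁻¹) = x.1.1
    rw [show b * (b⁻¹ * α x.1.1 * b) * b⁻¹ = α x.1.1 by group, MulEquiv.symm_apply_apply]
  · refine Subtype.ext (Subtype.ext ?_)
    show b⁻¹ * α (α.symm (b * y.1.1 * b⁻¹)) * b = y.1.1
    rw [MulEquiv.apply_symm_apply]
    group

end CfsgLib.PMinimalLie
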