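import Cfsg.Agent.Lib.PMinimalLie.BN
import Cfsg.Agent.Lib.SylowOver.Chev
import Cfsg.Agent.Lib.Chev.UnipCount

/-!
The Chevalley groups of rank at least two: two maximal parabolic subgroups are told apart by their
unipotent radicals, except in `G₂` in odd characteristic, which is of rank two.
-/

set_option autoImplicit false

namespace CfsgLib.PMinimalLie

open scoped commutatorElement
open Cfsg.Lie CfsgLib.Chev CfsgLib.SylowOver

variable {F : Type*} [Field F] [Fintype F] {p : ℕ} [Fact p.Prime] [CharP F p]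
variable {D : ChevalleyDatum} {T : Tabs}

/-- The roots of the radical of the maximal parabolic subgroup omitting the `i`-th node. -/
abbrev OutAt (D : ChevalleyDatum) (i : ℕ) (r : ℕ) : Prop :=
  D.nroots / 2 ≤ r ∧ (D.coroot.getD r #[]).getD i 0 ≠ 0

omit [Fintype F] in
theorem outRoot_node {i r : ℕ} (hi : i < D.rank) (hr : r < D.nroots) :
    OutRoot D {j | j ≠ i} r ↔ OutAt D i r := by
  simp only [OutRoot, OutAt, ChevalleyDatum.InRootSub, Set.mem_ofPred_eq, not_not, hr, true_and]
  refine and_congr_right fun _ => not_congr ⟨fun h => h i hi rfl, fun h j _ e => e ▸ h⟩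

theorem closedPos_outAt (hc : Checked D T) {i : ℕ} (hi : i < D.rank) :
    ClosedPos D T (OutAt D i) := by
  refine ⟨fun r _ h => h.1, fun r s v hr hs hPr hPs hv => ?_⟩
  exact (outRoot_node hi hv.1).1
    (outRoot_comb hc hr hPr.1 hs ((outRoot_node hi hs).2 hPs) hv)

theorem card_radical (hc : Checked D T) (hcomm : CommOne D T) {i : ℕ} (hi : i < D.rank) :
    Nat.card (uGen D F (OutRoot D {j | j ≠ i})) =
      Fintype.card F ^ (Finset.univ.filter fun r : Fin D.nroots => OutAt D i r.val).card := by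
  classical
  rw [uGen_congr fun r hr => outRoot_node hi hr, card_uGen hc hcomm (closedPos_outAt hc hi)]

section

variable (hc : Checked D T) (hcomm : CommOne D T)

omit [Fintype F] in
include hc in
theorem simple_ne {i j : Fin D.rank} (h : i ≠ j) : D.simple i.val ≠ D.simple j.val := fun e => h (by
  have h1 := congrFun (((congrArg (rv D T) e).symm.trans (rv_simple hc i)).symm.trans (rv_simple hc j)) i
  by_contra hne
  rw [Pi.single_eq_same, Pi.single_eq_of_ne hne] at h1
  exact one_ne_zero h1)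

omit [Fintype F] in
include hc in
theorem elN_ne {i j : Fin D.rank} (h : i ≠ j) :
    elN D F (D.simple i.val) 1 ≠ elN D F (D.simple j.val) 1 := by
  intro e
  have hmem : nProd D F [i] * (nProd D F [j])⁻¹ ∈ D.diagonalSubgroup F := by
    rw [show nProd D F [i] = elN D F (D.simple i.val) 1 from by simp [nProd],
      show nProd D F [j] = elN D F (D.simple j.val) 1 from by simp [nProd], e, mul_inv_cancel]
    exact one_mem _
  have hp := simple_lt hc i.2
  have h1 := sigs_eq_of_mem hc hmem hp
  have h2 : sigs D T [i] (D.simple i.val) = sig D T i (D.simple i.val) := rfl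
  have h3 : sigs D T [j] (D.simple i.val) = sig D T j (D.simple i.val) := rfl
  rw [h2, h3, sig_simple hc, neg_eq hc hp] at h1
  have h4 := (sig_pos hc j hp (half_le_simple hc i.2) (simple_ne hc h)).1
  have := half_le_simple hc i.2
  have := nroots_eq_two_mul hc
  omega

section

variable {P : Cfsg.BNPair ↥(D.group F)}
  (hPB : P.B = (D.borelSubgroup F).subgroupOf (D.group F))
  (hPS : P.S = {x : ↥(D.group F) | ∃ i < D.rank,
    ((x : GL D.Idx F) : Matrix D.Idx D.Idx F) = D.nMat F (D.simple i) 1})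

/-- The reflection of a node. -/
noncomputable def node (hc : Checked D T) (i : Fin D.rank) : ↥(D.group F) :=
  ⟨elN D F (D.simple i.val) 1, elN_mem_group hc (simple_lt hc i.2) 1⟩

omit [Fintype F] in
include hPS in
theorem node_mem (i : Fin D.rank) : node (F := F) hc i ∈ P.S := by
  rw [hPS]
  exact ⟨i, i.2, coe_elN hc (simple_lt hc i.2) 1⟩

omit [Fintype F] in
include hc hPS in
theorem eq_node (s : P.S) : ∃ i : Fin D.rank, (s : ↥(D.group F)) = node hc i := by
  obtain ⟨s, hs⟩ := s
  rw [hPS] at hs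
  obtain ⟨i, hi, e⟩ := hs
  exact ⟨⟨i, hi⟩, Subtype.ext (Units.ext (e.trans (coe_elN hc (simple_lt hc hi) 1).symm))⟩

omit [Fintype F] in
include hPB hPS hcomm in
/-- The core of `U` in a maximal parabolic subgroup is its unipotent radical. -/
theorem coreIn_node (i : Fin D.rank) :
    (coreIn ((uGen D F fun r => D.nroots / 2 ≤ r).subgroupOf (D.group F))
      (maxPar P ⟨node hc i, node_mem hc hPS i⟩)).map (D.group F).subtype =
      uGen D F (OutRoot D {j | j ≠ i.val}) := by
  have hle : maxPar P ⟨node hc i, node_mem hc hPS i⟩ ≤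
      (D.parabolicSubgroup F {j | j ≠ i.val}).subgroupOf (D.group F) := by
    refine sup_le ?_ ((Subgroup.closure_le _).2 ?_)
    · rw [hPB]
      exact fun x hx => (le_sup_left : D.borelSubgroup F ≤ D.parabolicSubgroup F _) hx
    · rintro s ⟨hs, hsne⟩
      obtain ⟨j, rfl⟩ := eq_node hc hPS ⟨s, hs⟩ |>.imp fun j e => show s = node hc j from e
      exact elN_mem_parabolic hc (J := {j | j ≠ i.val})
        (show j.val ≠ i.val from fun e => hsne (by rw [Fin.ext e]; rfl))
  refine le_antisymm ?_ ?_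
  · rintro _ ⟨x, ⟨hx, hxQ⟩, rfl⟩
    refine mem_radical_of_conj hc hcomm hx fun L hL => ?_
    have hn : nProd D F L ∈ D.group F := monomial_le_group hc (nProd_mem_monomial hc L)
    refine pos_le_borel hc (hxQ ⟨_, hn⟩ ?_)
    have e : (⟨_, hn⟩ : ↥(D.group F)) = (L.map fun j => node hc j).prod := by
      refine Subtype.ext ?_
      rw [SubmonoidClass.coe_list_prod, List.map_map]
      rfl
    rw [e]
    refine Subgroup.list_prod_mem _ fun y hy => ?_
    obtain ⟨j, hj, rfl⟩ := List.mem_map.1 hy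
    exact mem_maxPar (t := ⟨node hc j, node_mem hc hPS j⟩) fun h =>
      elN_ne hc (F := F) (fun e => hL j hj (congrArg Fin.val e)) (congrArg Subtype.val h)
  · intro x hx
    have hpos : x ∈ uGen D F (fun r => D.nroots / 2 ≤ r) := uGen_mono (fun r _ h => h.1) hx
    refine ⟨⟨x, pos_le_group hc hpos⟩, ⟨hpos, fun g hg => ?_⟩, rfl⟩
    exact uGen_mono (fun r _ h => h.1)
      ((Subgroup.mem_normalizer_iff.1 (parabolic_normalizes_radical hc hcomm _ (hle hg)) x).1 hx)

omit [CharP F p] in
include hc hPB hPS hcomm in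
theorem apart_of_radical (hS : IsSplit p P
      ((uGen D F fun r => D.nroots / 2 ≤ r).subgroupOf (D.group F)))
    (hs : IsSimpleGroup ↥(D.group F)) (i j : Fin D.rank)
    (h : IsEmpty (↥(uGen D F (OutRoot D {k | k ≠ i.val})) ≃* ↥(uGen D F (OutRoot D {k | k ≠ j.val})))) :
    Apart ((uGen D F fun r => D.nroots / 2 ≤ r).subgroupOf (D.group F)) := by
  have : Finite (GL D.Idx F) := inferInstance
  refine apart_of_coreIn hS hs (s := ⟨node hc i, node_mem hc hPS i⟩)
    (t := ⟨node hc j, node_mem hc hPS j⟩) ⟨fun e => h.false ?_⟩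
  exact ((MulEquiv.subgroupCongr (coreIn_node hc hcomm hPB hPS i).symm).trans
    ((Subgroup.equivMapOfInjective _ _ Subtype.val_injective).symm)).trans
    (e.trans ((Subgroup.equivMapOfInjective _ _ Subtype.val_injective).trans
      (MulEquiv.subgroupCongr (coreIn_node hc hcomm hPB hPS j))))

end

include hc hcomm in
theorem geo_chev_of_count (hs : IsSimpleGroup ↥(D.group F)) (i j : Fin D.rank)
    (h : (Finset.univ.filter fun r : Fin D.nroots => OutAt D i.val r.val).card ≠
      (Finset.univ.filter fun r : Fin D.nroots => OutAt D j.val r.val).card) (rk exc : Prop) :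
    Geo p ↥(D.group F) rk exc := by
  have : Finite (GL D.Idx F) := inferInstance
  obtain ⟨P, hS, hB, -, hPS⟩ := exists_isSplit_chev (F := F) (p := p) hc hcomm
  refine geo_of_apart hS hs ⟨_, node_mem hc hPS i⟩
    (apart_of_radical hc hcomm hB hPS hS hs i j ⟨fun e => ?_⟩) rk exc
  have h1 := Nat.card_congr e.toEquiv
  rw [card_radical hc hcomm i.2, card_radical hc hcomm j.2] at h1
  exact h (Nat.pow_right_injective Fintype.one_lt_card h1)

end

/-! ### `G₂` -/

theorem g2_terms : ∀ r ∈ [6, 8, 9, 10, 11], ∀ s ∈ [6, 8, 9, 10, 11],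
    ∀ c ∈ chevG2.commTerms r s, c.1 = 11 := by
  decide +kernel

theorem g2_terms' : chevG2.commTerms 7 9 = [(10, 3, 1, 1)] ∧
    chevG2.commTerms 8 9 = [(11, 3, 1, 1)] := by
  decide +kernel

theorem g2_cen : ∀ r ∈ [6, 8, 9, 10, 11], chevG2.commTerms r 11 = [] := by
  decide +kernel

theorem g2_out : ∀ r : Fin chevG2.nroots, (OutAt chevG2 1 r.val → r.val ∈ [6, 8, 9, 10, 11]) ∧
    (r.val ∈ [7, 8, 9] → OutAt chevG2 0 r.val) := by
  decide +kernel

theorem g2_sizes : chevG2.nroots = 12 ∧ chevG2.rank = 2 := by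
  decide +kernel

section

variable (h12 : D.nroots = 12) (h2 : D.rank = 2)
  (hterms : ∀ r ∈ [6, 8, 9, 10, 11], ∀ s ∈ [6, 8, 9, 10, 11], ∀ c ∈ D.commTerms r s, c.1 = 11)
  (hterms' : D.commTerms 7 9 = [(10, 3, 1, 1)] ∧ D.commTerms 8 9 = [(11, 3, 1, 1)])
  (hcen11 : ∀ r ∈ [6, 8, 9, 10, 11], D.commTerms r 11 = [])
  (hout : ∀ r : Fin D.nroots, (OutAt D 1 r.val → r.val ∈ [6, 8, 9, 10, 11]) ∧
    (r.val ∈ [7, 8, 9] → OutAt D 0 r.val))
  (hc : Checked D T) (hcomm : CommOne D T)
include h12 h2 hterms hout hc hcomm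

omit [Fintype F] in
include hcen11 in
theorem g2_radical_one :
    ⁅uGen D F (OutRoot D {k | k ≠ 1}), uGen D F (OutRoot D {k | k ≠ 1})⁆ ≤
      uGen D F (fun r => r = 11) := by
  set R := uGen D F (OutRoot D {k | k ≠ 1})
  set C := uGen D F (fun r => r = 11)
  have hR : ∀ r, r < D.nroots → OutRoot D {k | k ≠ 1} r → r ∈ [6, 8, 9, 10, 11] := fun r hr h =>
    (hout ⟨r, hr⟩).1 ((outRoot_node (by rw [h2]; norm_num) hr).1 h)
  have hgen : ∀ r ∈ [6, 8, 9, 10, 11], ∀ s ∈ [6, 8, 9, 10, 11], ∀ t u : F,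
      ⁅(elX D F s u)⁻¹, (elX D F r t)⁻¹⁆ ∈ C := by
    intro r hr s hs t u
    have hr' : r < D.nroots ∧ D.nroots / 2 ≤ r := by rw [h12]; fin_cases hr <;> omega
    have hs' : s < D.nroots ∧ D.nroots / 2 ≤ s := by rw [h12]; fin_cases hs <;> omega
    by_cases hsr : s = r
    · subst hsr
      rw [commutatorElement_eq_one_iff_mul_comm.2 (by
        rw [elX_inv hc F hr'.1, elX_inv hc F hr'.1, elX_add hc F hr'.1, elX_add hc F hr'.1, add_comm])]
      exact one_mem _
    · have e := elX_comm hc hcomm hr'.1 hs'.1 hsr (ne_neg_of_pos hc hr'.1 hr'.2 hs'.2) t u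
      have e' : ⁅(elX D F s u)⁻¹, (elX D F r t)⁻¹⁆ =
          wordGL D F (D.commWord F r s t u) := by
        rw [commutatorElement_def, inv_inv, inv_inv,
          mul_assoc _ (elX D F s u) (elX D F r t), e]
        group
      rw [e']
      refine Subgroup.list_prod_mem _ fun g hg => ?_
      obtain ⟨q, hq, rfl⟩ := List.mem_map.1 hg
      obtain ⟨c, hcm, rfl⟩ := List.mem_map.1 hq
      exact elX_mem_uGen (r := c.1) (P := fun r => r = 11)
        (by rw [hterms r hr s hs c hcm, h12]; norm_num) (hterms r hr s hs c hcm) _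
  have hgen' : ∀ r, r < D.nroots → OutRoot D {k | k ≠ 1} r → ∀ s, s < D.nroots →
      OutRoot D {k | k ≠ 1} s → ∀ t u : F, ⁅elX D F r t, elX D F s u⁆ ∈ C := by
    intro r hr hPr s hs hPs t u
    have h := hgen s (hR s hs hPs) r (hR r hr hPr) (-u) (-t)
    rwa [← elX_inv hc F hr, ← elX_inv hc F hs, inv_inv, inv_inv] at h
  -- `C` is central in `R`
  have hcen : ∀ g ∈ R, ∀ z ∈ C, g * z = z * g := by
    intro g hg z hz
    have hR' : R ≤ Subgroup.centralizer (C : Set (GL D.Idx F)) := by
      refine uGen_le_iff.2 fun r hr hPr t => Subgroup.mem_centralizer_iff.2 fun z hz => ?_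
      induction hz using Subgroup.closure_induction with
      | mem x hx =>
          obtain ⟨s, u, hs, rfl, rfl⟩ := hx
          have hr' := hR r hr hPr
          have hT : D.commTerms r 11 = [] := hcen11 r hr'
          by_cases h11 : (11 : ℕ) = r
          · subst h11; rw [elX_add hc F hs, elX_add hc F hs, add_comm]
          · have e := elX_comm hc hcomm hr hs h11
              (ne_neg_of_pos hc hr hPr.1 (by rw [h12]; norm_num)) t u
            rw [e, ChevalleyDatum.commWord, hT]
            simp [wordGL]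
      | one => simp
      | mul a b _ _ ha hb => rw [mul_assoc, hb, ← mul_assoc, ha, mul_assoc]
      | inv a _ ha => exact ((Commute.inv_left (ha : Commute a _))).eq
    exact (Subgroup.mem_centralizer_iff.1 (hR' hg) z hz).symm
  rw [Subgroup.commutator_le]
  intro g hg h hh
  induction hg using Subgroup.closure_induction generalizing h with
  | mem x hx =>
      obtain ⟨r, t, hr, hPr, rfl⟩ := hx
      induction hh using Subgroup.closure_induction with
      | mem y hy =>
          obtain ⟨s, u, hs, hPs, rfl⟩ := hy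
          exact hgen' r hr hPr s hs hPs t u
      | one => rw [commutatorElement_one_right]; exact one_mem _
      | mul a b ha _ iha ihb =>
          rw [show ⁅elX D F r t, a * b⁆ = ⁅elX D F r t, a⁆ *
            (a * ⁅elX D F r t, b⁆ * a⁻¹) by simp only [commutatorElement_def]; group,
            hcen a ha _ ihb, mul_inv_cancel_right]
          exact mul_mem iha ihb
      | inv a ha iha =>
          rw [show ⁅elX D F r t, a⁻¹⁆ = a⁻¹ * ⁅elX D F r t, a⁆⁻¹ * a⁻¹⁻¹ by
            simp only [commutatorElement_def]; group,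
            hcen _ (inv_mem ha) _ (inv_mem iha), mul_inv_cancel_right]
          exact inv_mem iha
  | one => rw [commutatorElement_one_left]; exact one_mem _
  | mul a b ha _ iha ihb =>
      rw [show ⁅a * b, h⁆ = (a * ⁅b, h⁆ * a⁻¹) * ⁅a, h⁆ by simp only [commutatorElement_def]; group,
        hcen a ha _ (ihb h hh), mul_inv_cancel_right]
      exact mul_mem (ihb h hh) (iha h hh)
  | inv a ha iha =>
      rw [show ⁅a⁻¹, h⁆ = a⁻¹ * ⁅a, h⁆⁻¹ * a⁻¹⁻¹ by simp only [commutatorElement_def]; group,
        hcen _ (inv_mem ha) _ (inv_mem (iha h hh)), mul_inv_cancel_right]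
      exact inv_mem (iha h hh)

include hterms' hcen11 in
theorem g2_apart_iso [CharP F 2] :
    IsEmpty (↥(uGen D F (OutRoot D {k | k ≠ 0})) ≃*
      ↥(uGen D F (OutRoot D {k | k ≠ 1}))) := by
  classical
  refine ⟨fun e => ?_⟩
  have : Finite (GL D.Idx F) := inferInstance
  set R₀ := uGen D F (OutRoot D {k | k ≠ 0})
  set R₁ := uGen D F (OutRoot D {k | k ≠ 1})
  have hlow : uGen D F (fun r => r = 10 ∨ r = 11) ≤ ⁅R₀, R₀⁆ := by
    have h3 : (3 : F) = 1 := by
      rw [show (3 : F) = 2 + 1 by norm_num, CharTwo.two_eq_zero, zero_add]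
    have hin : ∀ r, r ∈ [7, 8, 9] → r < D.nroots ∧ D.nroots / 2 ≤ r ∧
        ∀ t : F, (elX D F r t)⁻¹ ∈ R₀ := by
      intro r hr
      have hr' : r < D.nroots := by rw [h12]; fin_cases hr <;> omega
      refine ⟨hr', by rw [h12]; fin_cases hr <;> omega, fun t => ?_⟩
      exact inv_mem (elX_mem_uGen hr'
        ((outRoot_node (by rw [h2]; norm_num) hr').2 ((hout ⟨r, hr'⟩).2 hr)) t)
    have key : ∀ a b v : ℕ, a ∈ [7, 8, 9] → b ∈ [7, 8, 9] → b ≠ a →
        D.commTerms a b = [(v, 3, 1, 1)] → ∀ t : F, elX D F v t ∈ ⁅R₀, R₀⁆ := by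
      intro a b v ha hb hab hT t
      obtain ⟨ha', hap, ha''⟩ := hin a ha
      obtain ⟨hb', hbp, hb''⟩ := hin b hb
      have e := elX_comm hc hcomm ha' hb' hab (ne_neg_of_pos hc ha' hap hbp) (-t) (1 : F)
      have e' : ⁅(elX D F b 1)⁻¹, (elX D F a (-t))⁻¹⁆ =
          wordGL D F (D.commWord F a b (-t) 1) := by
        rw [commutatorElement_def, inv_inv, inv_inv,
          mul_assoc _ (elX D F b 1) (elX D F a (-t)), e]
        group
      have e2 : wordGL D F (D.commWord F a b (-t) 1) = elX D F v t := by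
        simp [ChevalleyDatum.commWord, hT, wordGL, h3]
      exact e2 ▸ e' ▸ Subgroup.commutator_mem_commutator (hb'' 1) (ha'' (-t))
    refine uGen_le_iff.2 fun r hr h t => ?_
    rcases h with rfl | rfl
    · exact key 7 9 10 (by simp) (by simp) (by norm_num) hterms'.1 t
    · exact key 8 9 11 (by simp) (by simp) (by norm_num) hterms'.2 t
  have hcl : ∀ S : Finset ℕ, (S = {10, 11} ∨ S = {11}) → ClosedPos D T (fun r => r ∈ S) := by
    intro S hS
    refine ⟨fun r _ h => ?_, fun r s v hr hs hPr hPs hv => ?_⟩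
    · rw [h12]; rcases hS with rfl | rfl <;> simp at h <;> omega
    · have hr10 : 10 ≤ r ∧ 11 ≤ r ∨ r = 10 := by rcases hS with rfl | rfl <;> simp at hPr <;> omega
      have hs10 : 10 ≤ s := by rcases hS with rfl | rfl <;> simp at hPs <;> omega
      have := combRoot_gt hc hr hs (by rw [h12]; omega) (by rw [h12]; omega) hv
      have := hv.1
      rcases hS with rfl | rfl <;> simp at hPr hPs ⊢ <;> omega
  have hc0 : Nat.card (uGen D F (fun r => r = 10 ∨ r = 11)) = Fintype.card F ^ 2 := by
    rw [uGen_congr (Q := fun r => r ∈ ({10, 11} : Finset ℕ)) (fun r _ => by simp),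
      card_uGen hc hcomm (hcl _ (Or.inl rfl))]
    congr 1
    rw [← Finset.card_map Fin.valEmbedding, show (Finset.univ.filter fun r : Fin D.nroots => r.val ∈ ({10, 11} : Finset ℕ)).map Fin.valEmbedding = {10, 11} from ?_]
    · rfl
    ext v
    simp only [Finset.mem_map, Finset.mem_filter, Finset.mem_univ, true_and, Fin.valEmbedding_apply]
    refine ⟨by rintro ⟨x, hx, rfl⟩; exact hx, fun h => ⟨⟨v, ?_⟩, h, rfl⟩⟩
    simp at h; omega
  have hc1 : Nat.card (uGen D F (fun r => r = 11)) = Fintype.card F ^ 1 := by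
    rw [uGen_congr (Q := fun r => r ∈ ({11} : Finset ℕ)) (fun r _ => by simp),
      card_uGen hc hcomm (hcl _ (Or.inr rfl))]
    congr 1
    rw [← Finset.card_map Fin.valEmbedding, show (Finset.univ.filter fun r : Fin D.nroots => r.val ∈ ({11} : Finset ℕ)).map Fin.valEmbedding = {11} from ?_]
    · rfl
    ext v
    simp only [Finset.mem_map, Finset.mem_filter, Finset.mem_univ, true_and, Fin.valEmbedding_apply]
    refine ⟨by rintro ⟨x, hx, rfl⟩; exact hx, fun h => ⟨⟨v, ?_⟩, h, rfl⟩⟩
    simp at h; omega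
  have h0 : Nat.card ↥(commutator ↥R₀) = Nat.card ↥⁅R₀, R₀⁆ := by
    rw [← Subgroup.map_subtype_commutator, Subgroup.card_map_of_injective R₀.subtype_injective]
  have h1 : Nat.card ↥(commutator ↥R₁) = Nat.card ↥⁅R₁, R₁⁆ := by
    rw [← Subgroup.map_subtype_commutator, Subgroup.card_map_of_injective R₁.subtype_injective]
  have h01 : Nat.card ↥(commutator ↥R₀) = Nat.card ↥(commutator ↥R₁) := by
    have hm : (commutator ↥R₀).map e.toMonoidHom = commutator ↥R₁ := by
      rw [commutator_def, Subgroup.map_commutator, Subgroup.map_top_of_surjective _ e.surjective, ← commutator_def]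
    rw [← hm, Subgroup.card_map_of_injective e.injective]
  have a1 := Subgroup.card_le_of_le hlow
  have a2 := Subgroup.card_le_of_le (g2_radical_one (F := F) h12 h2 hterms hcen11 hout hc hcomm)
  rw [hc0, ← h0, h01, h1] at a1
  rw [hc1] at a2
  exact absurd (a1.trans a2) (not_le.2 (Nat.pow_lt_pow_right Fintype.one_lt_card one_lt_two))

include hterms' hcen11 in
theorem geo_g2_of_data (hs : IsSimpleGroup ↥(D.group F)) (rk exc : Prop) :
    Geo p ↥(D.group F) rk exc := by
  have : Finite (GL D.Idx F) := inferInstance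
  obtain ⟨P, hS, hB, -, hPS⟩ := exists_isSplit_chev (F := F) (p := p) hc hcomm
  let a : Fin D.rank := ⟨0, by omega⟩
  let b : Fin D.rank := ⟨1, by omega⟩
  by_cases hp : p = 2
  · subst hp
    exact geo_of_apart hS hs ⟨_, node_mem hc hPS a⟩
      (apart_of_radical hc hcomm hB hPS hS hs a b (g2_apart_iso h12 h2 hterms hterms' hcen11 hout hc hcomm)) rk exc
  · refine geo_of_rankTwo hS hs (a := ⟨node hc a, node_mem hc hPS a⟩)
      (b := ⟨node hc b, node_mem hc hPS b⟩)
      (fun e => elN_ne hc (F := F) (i := a) (j := b) (by simp [a, b, Fin.ext_iff])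
        (congrArg (fun x : P.S => ((x : ↥(D.group F)) : GL D.Idx F)) e))
      (fun s => ?_) rk (fun h => absurd h hp)
    obtain ⟨i, e⟩ := eq_node hc hPS s
    have hi := i.2
    rcases (show i.val = 0 ∨ i.val = 1 by omega) with h | h
    · exact Or.inl (Subtype.ext (e.trans (by rw [Fin.ext (a := i) (b := a) h])))
    · exact Or.inr (Subtype.ext (e.trans (by rw [Fin.ext (a := i) (b := b) h])))

end

theorem geo_g2 {T : Tabs} (hc : Checked chevG2 T) (hcomm : CommOne chevG2 T)
    (hs : IsSimpleGroup ↥(chevG2.group F)) (rk exc : Prop) :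
    Geo p ↥(chevG2.group F) rk exc :=
  geo_g2_of_data g2_sizes.1 g2_sizes.2 g2_terms g2_terms' g2_cen g2_out hc hcomm hs rk exc

end CfsgLib.PMinimalLie
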