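import Cfsg.Prelude.Def_LocalEven
import Mathlib.GroupTheory.Sylow
import Mathlib.GroupTheory.Subgroup.Simple
import Mathlib.Order.Atoms.Finite

/-!
`p`-minimal groups with a simple normal subgroup: the permutation action of a Sylow `p`-subgroup on
the maximal overgroups of a Sylow `p`-subgroup of the normal subgroup.
-/

set_option autoImplicit false

open scoped Pointwise

namespace CfsgLib.PMinimalLie

variable {K H : Type*} [Group K] [Group H]

/-- A maximal overgroup. -/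
def IsMaxOver (U Q : Subgroup K) : Prop := IsCoatom Q ∧ U ≤ Q

/-- Each maximal overgroup is avoided by an element of all the others. -/
def Sep (U : Subgroup K) : Prop :=
  (∃ Q, IsMaxOver U Q) ∧
    ∀ Q, IsMaxOver U Q → ∃ x, x ∉ Q ∧ ∀ Q', IsMaxOver U Q' → Q' ≠ Q → x ∈ Q'

/-- Two maximal overgroups not exchanged by an automorphism fixing `U`. -/
def Apart (U : Subgroup K) : Prop :=
  ∃ Q Q', IsMaxOver U Q ∧ IsMaxOver U Q' ∧
    ∀ α : MulAut K, U.map α.toMonoidHom = U → Q.map α.toMonoidHom ≠ Q'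

/-- The maximal overgroups meet in the normalizer. -/
def InfLe (U : Subgroup K) : Prop :=
  ∀ x, (∀ Q, IsMaxOver U Q → x ∈ Q) → x ∈ Subgroup.normalizer (U : Set K)

/-- Exactly two maximal overgroups. -/
def TwoOver (U : Subgroup K) : Prop :=
  ∃ Q₁ Q₂, Q₁ ≠ Q₂ ∧ ∀ Q, IsMaxOver U Q ↔ Q = Q₁ ∨ Q = Q₂

theorem isMaxOver_map (e : K ≃* H) {U Q : Subgroup K} :
    IsMaxOver (U.map e.toMonoidHom) (Q.map e.toMonoidHom) ↔ IsMaxOver U Q := by
  rw [IsMaxOver, IsMaxOver, Subgroup.map_le_map_iff_of_injective e.injective]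
  exact and_congr_left fun _ => (OrderIso.isCoatom_iff e.mapSubgroup Q)

theorem exists_map_eq (e : K ≃* H) (Q : Subgroup H) :
    ∃ Q₀ : Subgroup K, Q₀.map e.toMonoidHom = Q :=
  ⟨Q.comap e.toMonoidHom, Subgroup.map_comap_eq_self_of_surjective e.surjective Q⟩

theorem Sep.map (e : K ≃* H) {U : Subgroup K} (h : Sep U) : Sep (U.map e.toMonoidHom) := by
  obtain ⟨⟨Q₀, hQ₀⟩, h⟩ := h
  refine ⟨⟨_, (isMaxOver_map e).2 hQ₀⟩, fun Q hQ => ?_⟩
  obtain ⟨Q, rfl⟩ := exists_map_eq e Q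
  obtain ⟨x, hx, hx'⟩ := h Q ((isMaxOver_map e).1 hQ)
  refine ⟨e x, fun hmem => hx ?_, fun Q' hQ' hne => ?_⟩
  · obtain ⟨y, hy, hyx⟩ := hmem
    rwa [← e.injective hyx]
  · obtain ⟨Q', rfl⟩ := exists_map_eq e Q'
    exact ⟨x, hx' Q' ((isMaxOver_map e).1 hQ') (fun h' => hne (by rw [h'])), rfl⟩

theorem Apart.map (e : K ≃* H) {U : Subgroup K} (h : Apart U) : Apart (U.map e.toMonoidHom) := by
  obtain ⟨Q, Q', hQ, hQ', hne⟩ := h
  refine ⟨_, _, (isMaxOver_map e).2 hQ, (isMaxOver_map e).2 hQ', fun α hU hQQ => ?_⟩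
  let β : MulAut K := e.trans (α.trans e.symm)
  have key : ∀ A : Subgroup K,
      A.map β.toMonoidHom = ((A.map e.toMonoidHom).map α.toMonoidHom).map e.symm.toMonoidHom :=
    fun A => by rw [Subgroup.map_map, Subgroup.map_map]; rfl
  have back : ∀ A : Subgroup K, (A.map e.toMonoidHom).map e.symm.toMonoidHom = A := fun A => by
    rw [Subgroup.map_map]
    convert Subgroup.map_id A
    ext x
    exact e.symm_apply_apply x
  exact hne β (by rw [key, hU, back]) (by rw [key, hQQ, back])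

theorem InfLe.map (e : K ≃* H) {U : Subgroup K} (h : InfLe U) : InfLe (U.map e.toMonoidHom) := by
  intro y hy
  obtain ⟨x, rfl⟩ := e.surjective y
  have hx : x ∈ Subgroup.normalizer (U : Set K) := h x fun Q hQ => by
    obtain ⟨z, hz, hzx⟩ := hy _ ((isMaxOver_map e).2 hQ)
    rwa [← e.injective hzx]
  exact Subgroup.le_normalizer_map e.toMonoidHom ⟨x, hx, rfl⟩

theorem TwoOver.map (e : K ≃* H) {U : Subgroup K} (h : TwoOver U) :
    TwoOver (U.map e.toMonoidHom) := by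
  obtain ⟨Q₁, Q₂, hne, h⟩ := h
  refine ⟨_, _, fun h' => hne (Subgroup.map_injective (f := e.toMonoidHom) e.injective h'),
    fun Q => ?_⟩
  obtain ⟨Q, rfl⟩ := exists_map_eq e Q
  have hi : Function.Injective (Subgroup.map e.toMonoidHom) :=
    Subgroup.map_injective (f := e.toMonoidHom) e.injective
  rw [isMaxOver_map, h, hi.eq_iff, hi.eq_iff]

/-- The data needed from a simple group of Lie type in characteristic `p`. -/
def Geo (p : ℕ) (K : Type*) [Group K] (r exc : Prop) : Prop :=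
  ∃ U : Sylow p K, Sep (U : Subgroup K) ∧
    (Apart (U : Subgroup K) ∨
      (InfLe (U : Subgroup K) ∧ (r ∨ (TwoOver (U : Subgroup K) ∧ (p = 2 → exc)))))

theorem Geo.forall_sylow [Finite K] {p : ℕ} [Fact p.Prime] {r exc : Prop} (h : Geo p K r exc)
    (e : K ≃* H) [Finite H] (U : Sylow p H) :
    Sep (U : Subgroup H) ∧
      (Apart (U : Subgroup H) ∨
        (InfLe (U : Subgroup H) ∧ (r ∨ (TwoOver (U : Subgroup H) ∧ (p = 2 → exc))))) := by
  obtain ⟨U₀, hsep, h⟩ := h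
  let U₁ : Sylow p H := U₀.mapSurjective (f := e.toMonoidHom) e.surjective
  obtain ⟨g, hg⟩ := MulAction.exists_smul_eq H U₁ U
  have hU : (U₀ : Subgroup K).map (e.trans (MulAut.conj g)).toMonoidHom = (U : Subgroup H) := by
    rw [← hg, Sylow.coe_subgroup_smul, Subgroup.pointwise_smul_def]
    show _ = ((U₀ : Subgroup K).map e.toMonoidHom).map (MulAut.conj g).toMonoidHom
    rw [Subgroup.map_map]
    rfl
  rw [← hU]
  exact ⟨hsep.map _, h.imp (fun a => a.map _)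
    (fun a => ⟨a.1.map _, a.2.imp id (fun b => ⟨b.1.map _, b.2⟩)⟩)⟩

/-- `Geo` along an isomorphism. -/
theorem Geo.of_mulEquiv {p : ℕ} [Fact p.Prime] {K H : Type*} [Group K] [Finite K] [Group H] [Finite H]
    {r exc : Prop} (h : Geo p K r exc) (e : K ≃* H) : Geo p H r exc := by
  obtain ⟨U⟩ := (inferInstance : Nonempty (Sylow p H))
  exact ⟨U, h.forall_sylow e U⟩

variable {X : Type*} [Group X] [Finite X] {p : ℕ} [Fact p.Prime]

omit [Finite X] in
theorem map_conjNormal_eq_self_of_mem {N : Subgroup X} [N.Normal] {Q : Subgroup N} {x : X}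
    (hx : x ∈ N) (hxQ : (⟨x, hx⟩ : N) ∈ Q) :
    Q.map (MulAut.conjNormal x : MulAut N).toMonoidHom = Q := by
  have key : ∀ q : N, (MulAut.conjNormal x : MulAut N) q = ⟨x, hx⟩ * q * (⟨x, hx⟩ : N)⁻¹ :=
    fun q => Subtype.ext (by simp)
  ext y
  constructor
  · rintro ⟨q, hq, rfl⟩
    show (MulAut.conjNormal x : MulAut N) q ∈ Q
    rw [key]
    exact mul_mem (mul_mem hxQ hq) (inv_mem hxQ)
  · intro hy
    refine ⟨(⟨x, hx⟩ : N)⁻¹ * y * ⟨x, hx⟩, mul_mem (mul_mem (inv_mem hxQ) hy) hxQ, ?_⟩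
    show (MulAut.conjNormal x : MulAut N) _ = y
    rw [key]
    group

/-- A proper overgroup of `U` invariant under a Sylow subgroup lies in the maximal subgroup over
it. -/
theorem overgroup_le {N : Subgroup X} [N.Normal] {U : Subgroup N} {S : Subgroup X}
    (hSU : ∀ (x : X) (hx : x ∈ N), x ∈ S → (⟨x, hx⟩ : N) ∈ U) {M : Subgroup X}
    (hMu : ∀ C : Subgroup X, IsCoatom C ∧ S ≤ C → C = M) {A : Subgroup N} (hA : A ≠ ⊤) (hUA : U ≤ A)
    (hinv : ∀ s ∈ S, A.map (MulAut.conjNormal s : MulAut N).toMonoidHom = A) :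
    A ≤ M.subgroupOf N := by
  set A' : Subgroup X := A.map N.subtype with hA'
  have hn : S ≤ Subgroup.normalizer (A' : Set X) := by
    intro s hs
    rw [Subgroup.mem_normalizer_iff]
    have key : ∀ t ∈ S, ∀ x ∈ A', t * x * t⁻¹ ∈ A' := by
      rintro t ht _ ⟨u, hu, rfl⟩
      refine ⟨(MulAut.conjNormal t : MulAut N) u, ?_, by simp⟩
      rw [← hinv t ht]
      exact ⟨u, hu, rfl⟩
    refine fun x => ⟨key s hs x, fun hx => ?_⟩
    simpa [mul_assoc] using key s⁻¹ (inv_mem hs) _ hx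
  have hT : S ⊔ A' ≠ ⊤ := by
    intro htop
    refine hA (top_le_iff.1 fun k _ => ?_)
    have hk : (k : X) ∈ (S : Set X) * (A' : Set X) := by
      rw [← Subgroup.coe_mul_of_left_le_normalizer_right _ _ hn, htop]
      trivial
    obtain ⟨s, hs, a, ⟨a₀, ha₀, rfl⟩, hsa⟩ := Set.mem_mul.1 hk
    have hsN : s ∈ N := by
      have : s = k * (a₀ : X)⁻¹ := eq_mul_inv_of_mul_eq hsa
      rw [this]
      exact mul_mem k.2 (inv_mem a₀.2)
    have hk' : k = ⟨s, hsN⟩ * a₀ := Subtype.ext hsa.symm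
    rw [hk']
    exact mul_mem (hUA (hSU s hsN hs)) ha₀
  rcases eq_top_or_exists_le_coatom (S ⊔ A') with h0 | ⟨C, hC, hle⟩
  · exact absurd h0 hT
  · have hCM := hMu C ⟨hC, le_sup_left.trans hle⟩
    intro a ha
    rw [Subgroup.mem_subgroupOf, ← hCM]
    exact hle (Subgroup.mem_sup_right (⟨a, ha, rfl⟩ : (a : X) ∈ A'))

theorem main (hX : Cfsg.IsPMinimal p X) (N : Subgroup X) [N.Normal] (hs : IsSimpleGroup N)
    (hp : p ∣ Nat.card N) (U : Sylow p N) {r exc : Prop} (hsep : Sep (U : Subgroup N))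
    (h : Apart (U : Subgroup N) ∨
      (InfLe (U : Subgroup N) ∧ (r ∨ (TwoOver (U : Subgroup N) ∧ (p = 2 → exc))))) :
    IsCoatom (Subgroup.normalizer (((U : Subgroup N).map N.subtype : Subgroup X) : Set X)) ∧
      (r ∨ (p = 2 ∧ N ≠ ⊤ ∧ exc)) := by
  classical
  set U' : Subgroup X := (U : Subgroup N).map N.subtype with hU'
  have hU'p : IsPGroup p U' := U.isPGroup'.map _
  obtain ⟨S, hS⟩ := hU'p.exists_le_sylow
  have hSU : ∀ (x : X) (hx : x ∈ N), x ∈ (S : Subgroup X) → (⟨x, hx⟩ : N) ∈ (U : Subgroup N) := by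
    intro x hx hxS
    have h1 : IsPGroup p ((S : Subgroup X).subgroupOf N) :=
      S.isPGroup'.comap_of_injective _ N.subtype_injective
    have h2 : (U : Subgroup N) ≤ (S : Subgroup X).subgroupOf N :=
      fun u hu => hS ⟨u, hu, rfl⟩
    rw [← U.is_maximal' h1 h2]
    exact hxS
  have hconjU : ∀ s ∈ (S : Subgroup X), ∀ u : N, u ∈ (U : Subgroup N) →
      (MulAut.conjNormal s : MulAut N) u ∈ (U : Subgroup N) := by
    intro s hs u hu
    refine hSU _ ((MulAut.conjNormal s : MulAut N) u).2 ?_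
    rw [MulAut.conjNormal_apply]
    exact mul_mem (mul_mem hs (hS ⟨u, hu, rfl⟩)) (inv_mem hs)
  let c : X → Subgroup N → Subgroup N := fun s A => A.map (MulAut.conjNormal s : MulAut N).toMonoidHom
  have c_mul : ∀ s t A, c s (c t A) = c (s * t) A := by
    intro s t A
    simp only [c, Subgroup.map_map, map_mul]
    rfl
  have c_one : ∀ A, c 1 A = A := by
    intro A
    simp only [c, map_one]
    exact Subgroup.map_id A
  have c_U : ∀ s ∈ (S : Subgroup X), c s U = (U : Subgroup N) := by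
    intro s hs
    refine le_antisymm ?_ ?_
    · rintro _ ⟨u, hu, rfl⟩
      exact hconjU s hs u hu
    · intro u hu
      refine ⟨(MulAut.conjNormal s⁻¹ : MulAut N) u, hconjU _ (inv_mem hs) u hu, ?_⟩
      show (MulAut.conjNormal s : MulAut N) ((MulAut.conjNormal s⁻¹ : MulAut N) u) = u
      rw [← MulAut.mul_apply, ← map_mul, mul_inv_cancel, map_one]
      rfl
  have c_max : ∀ s ∈ (S : Subgroup X), ∀ Q, IsMaxOver (U : Subgroup N) Q →
      IsMaxOver (U : Subgroup N) (c s Q) := by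
    intro s hs Q hQ
    rw [← c_U s hs]
    exact (isMaxOver_map _).2 hQ
  -- the maximal subgroup over `S`
  obtain ⟨hSn, M, ⟨hMc, hSM⟩, hMu⟩ := hX S
  have hUne : (U : Subgroup N) ≠ ⊥ := fun h0 => by
    have h1 := U.not_dvd_index
    rw [h0, Subgroup.index_bot] at h1
    exact h1 hp
  set Nm := Subgroup.normalizer (U' : Set X) with hNm
  have hSNm : (S : Subgroup X) ≤ Nm := by
    intro s hs
    rw [hNm, Subgroup.mem_normalizer_iff]
    have key : ∀ t ∈ (S : Subgroup X), ∀ x ∈ U', t * x * t⁻¹ ∈ U' := by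
      rintro t ht _ ⟨u, hu, rfl⟩
      exact ⟨_, hconjU t ht u hu, by simp⟩
    refine fun x => ⟨key s hs x, fun hx => ?_⟩
    simpa [mul_assoc] using key s⁻¹ (inv_mem hs) _ hx
  have hNtop : Nm ≠ ⊤ := by
    intro htop
    have hn : (U : Subgroup N).Normal := by
      refine ⟨fun u hu k => ?_⟩
      have hk : (k : X) ∈ Nm := htop ▸ Subgroup.mem_top _
      obtain ⟨v, hv, hve⟩ := (Subgroup.mem_normalizer_iff.1 hk _).1 ⟨u, hu, rfl⟩
      have : v = k * u * k⁻¹ := N.subtype_injective (by simpa using hve)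
      exact this ▸ hv
    obtain ⟨Q, hQc, hQU⟩ := hsep.1
    rcases hs.eq_bot_or_eq_top_of_normal _ hn with h0 | h0
    · exact hUne h0
    · exact hQc.1 (top_le_iff.1 (h0 ▸ hQU))
  have hNmM : Nm ≤ M := by
    rcases eq_top_or_exists_le_coatom Nm with h0 | ⟨C, hC, hle⟩
    · exact absurd h0 hNtop
    · exact (hMu C ⟨hC, hSNm.trans hle⟩) ▸ hle
  have hfrat : Nm ⊔ N = ⊤ := Sylow.normalizer_sup_eq_top U
  set R := M.subgroupOf N with hR
  have hRtop : R ≠ ⊤ := fun h0 => hMc.1 (top_le_iff.1 (hfrat ▸ sup_le hNmM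
    (Subgroup.subgroupOf_eq_top.1 h0)))
  have hA : ∀ A : Subgroup N, A ≠ ⊤ → (U : Subgroup N) ≤ A →
      (∀ s ∈ (S : Subgroup X), c s A = A) → A ≤ R :=
    fun A hA hUA hinv => overgroup_le hSU hMu hA hUA hinv
  have hRinv : ∀ s ∈ (S : Subgroup X), c s R = R := by
    intro s hs
    have key : ∀ t ∈ (S : Subgroup X), ∀ x ∈ R, (MulAut.conjNormal t : MulAut N) x ∈ R := by
      intro t ht x hx
      rw [hR, Subgroup.mem_subgroupOf, MulAut.conjNormal_apply]
      exact mul_mem (mul_mem (hSM ht) hx) (inv_mem (hSM ht))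
    refine le_antisymm (fun y ⟨x, hx, e⟩ => e ▸ key s hs x hx) fun x hx => ?_
    refine ⟨_, key s⁻¹ (inv_mem hs) x hx, ?_⟩
    show (MulAut.conjNormal s : MulAut N) ((MulAut.conjNormal s⁻¹ : MulAut N) x) = x
    rw [← MulAut.mul_apply, ← map_mul, mul_inv_cancel, map_one]
    rfl
  have hUR : (U : Subgroup N) ≤ R := fun u hu => hSM (hS ⟨u, hu, rfl⟩)
  obtain ⟨Q₀, hQ₀c, hRQ₀⟩ : ∃ Q, IsCoatom Q ∧ R ≤ Q := by
    rcases eq_top_or_exists_le_coatom R with h0 | h0
    · exact absurd h0 hRtop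
    · exact h0
  have hQ₀ : IsMaxOver (U : Subgroup N) Q₀ := ⟨hQ₀c, hUR.trans hRQ₀⟩
  -- one orbit
  have htrans : ∀ Q, IsMaxOver (U : Subgroup N) Q → ∀ Q', IsMaxOver (U : Subgroup N) Q' →
      ∃ s ∈ (S : Subgroup X), c s Q = Q' := by
    intro Q hQ Q' hQ'
    by_contra hno
    push Not at hno
    let O : Set (Subgroup N) := {A | ∃ s ∈ (S : Subgroup X), c s Q = A}
    let O' : Set (Subgroup N) := {A | IsMaxOver (U : Subgroup N) A ∧ A ∉ O}
    have hOmax : ∀ A ∈ O, IsMaxOver (U : Subgroup N) A := by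
      rintro _ ⟨s, hs, rfl⟩
      exact c_max s hs Q hQ
    have hQO : Q ∈ O := ⟨1, one_mem _, c_one Q⟩
    have hQ'O : Q' ∈ O' := ⟨hQ', fun ⟨s, hs, e⟩ => hno s hs e⟩
    have hOinv : ∀ s ∈ (S : Subgroup X), ∀ A ∈ O, c s A ∈ O := by
      rintro s hs _ ⟨t, ht, rfl⟩
      exact ⟨s * t, mul_mem hs ht, (c_mul s t Q).symm⟩
    have hO'inv : ∀ s ∈ (S : Subgroup X), ∀ A ∈ O', c s A ∈ O' := by
      rintro s hs A ⟨hA1, hA2⟩
      refine ⟨c_max s hs A hA1, fun h' => hA2 ?_⟩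
      have := hOinv s⁻¹ (inv_mem hs) _ h'
      rwa [c_mul, inv_mul_cancel, c_one] at this
    have hinvI : ∀ P : Set (Subgroup N), (∀ s ∈ (S : Subgroup X), ∀ A ∈ P, c s A ∈ P) →
        ∀ s ∈ (S : Subgroup X), c s (sInf P) = sInf P := by
      intro P hP
      have key : ∀ s ∈ (S : Subgroup X), c s (sInf P) ≤ sInf P := by
        intro s hs
        refine le_sInf fun A hA => ?_
        calc c s (sInf P) ≤ c s (c s⁻¹ A) := Subgroup.map_mono (sInf_le (hP _ (inv_mem hs) A hA))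
          _ = A := by rw [c_mul, mul_inv_cancel, c_one]
      refine fun s hs => le_antisymm (key s hs) ?_
      calc sInf P = c s (c s⁻¹ (sInf P)) := by rw [c_mul, mul_inv_cancel, c_one]
        _ ≤ c s (sInf P) := Subgroup.map_mono (key _ (inv_mem hs))
    have h1 : sInf O ≤ R := hA _ (fun h0 => hQ.1.1 (top_le_iff.1 (h0 ▸ sInf_le hQO)))
      (le_sInf fun A hA => (hOmax A hA).2) (hinvI O hOinv)
    have h2 : sInf O' ≤ R := hA _ (fun h0 => hQ'.1.1 (top_le_iff.1 (h0 ▸ sInf_le hQ'O)))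
      (le_sInf fun A hA => hA.1.2) (hinvI O' hO'inv)
    obtain ⟨x, hx, hx'⟩ := hsep.2 Q₀ hQ₀
    by_cases h0 : Q₀ ∈ O
    · exact hx (hRQ₀ (h2 (Subgroup.mem_sInf.2 fun A hA =>
        hx' A hA.1 fun e => hA.2 (e ▸ h0))))
    · exact hx (hRQ₀ (h1 (Subgroup.mem_sInf.2 fun A hA =>
        hx' A (hOmax A hA) fun e => h0 (e ▸ hA))))
  rcases h with hap | ⟨hinf, h⟩
  · exfalso
    obtain ⟨Q, Q', hQ, hQ', hne⟩ := hap
    obtain ⟨s, hs, e⟩ := htrans Q hQ Q' hQ'
    exact hne _ (c_U s hs) e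
  have hRall : ∀ Q, IsMaxOver (U : Subgroup N) Q → R ≤ Q := by
    intro Q hQ
    obtain ⟨s, hs, e⟩ := htrans Q₀ hQ₀ Q hQ
    rw [← hRinv s hs, ← e]
    exact Subgroup.map_mono hRQ₀
  have hMN : M = Nm := by
    refine le_antisymm (fun m hm => ?_) hNmM
    have htop : m ∈ Nm ⊔ N := hfrat ▸ Subgroup.mem_top m
    obtain ⟨n, hn, k, hk, rfl⟩ := Subgroup.mem_sup_of_normal_right.1 htop
    have hkM : k ∈ M := by simpa using mul_mem (inv_mem (hNmM hn)) hm
    have hkU : (⟨k, hk⟩ : N) ∈ Subgroup.normalizer ((U : Subgroup N) : Set N) :=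
      hinf _ fun Q hQ => hRall Q hQ hkM
    exact mul_mem hn (Subgroup.le_normalizer_map N.subtype ⟨_, hkU, rfl⟩)
  refine ⟨hMN ▸ hMc, h.imp id ?_⟩
  rintro ⟨⟨Q₁, Q₂, hne, h12⟩, hexc⟩
  obtain ⟨s, hs, e⟩ := htrans Q₁ ((h12 _).2 (Or.inl rfl)) Q₂ ((h12 _).2 (Or.inr rfl))
  have hp2 : p = 2 := by
    by_contra hp2
    have e2 : c (s * s) Q₁ = Q₁ := by
      rw [← c_mul, e]
      rcases (h12 _).1 (c_max s hs Q₂ ((h12 _).2 (Or.inr rfl))) with h' | h'
      · exact h'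
      · have h'' := congrArg (c s⁻¹) (h'.trans e.symm)
        rw [c_mul, c_mul, inv_mul_cancel, c_one, c_one] at h''
        exact absurd h''.symm hne
    have epow : ∀ k : ℕ, c ((s * s) ^ k) Q₁ = Q₁ := by
      intro k
      induction k with
      | zero => rw [pow_zero, c_one]
      | succ k ih => rw [pow_succ, ← c_mul, e2, ih]
    obtain ⟨j, hj⟩ := S.isPGroup' ⟨s, hs⟩
    have hj' : s ^ (p ^ j) = 1 := congrArg Subtype.val hj
    obtain ⟨l, hl⟩ : Odd (p ^ j) := ((Fact.out : p.Prime).odd_of_ne_two hp2).pow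
    have hsl : s = (s * s) ^ (l + 1) := by
      rw [← pow_two, ← pow_mul, show 2 * (l + 1) = p ^ j + 1 by omega, pow_succ, hj', one_mul]
    rw [hsl, epow] at e
    exact hne e
  refine ⟨hp2, fun htop => hne ?_, hexc hp2⟩
  have hsN : s ∈ N := htop ▸ Subgroup.mem_top s
  rw [← e]
  exact (map_conjNormal_eq_self_of_mem hsN
    (((h12 Q₁).2 (Or.inl rfl)).2 (hSU s hsN hs))).symm

end CfsgLib.PMinimalLie
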