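import Cfsg.Agent.Lib.PMinimalLie.Core

/-!
An indexed family of overgroups which is separated and covers all proper overgroups, and the
comparison of orders by orbits.
-/

set_option autoImplicit false

namespace CfsgLib.PMinimalLie

variable {K : Type*} [Group K] [Finite K]

/-- An indexed family containing `U`, covering all proper overgroups, each member avoided by an
element of all the others. -/
structure Family (U : Subgroup K) {ι : Type*} (Q : ι → Subgroup K) : Prop where
  le : ∀ i, U ≤ Q i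
  cover : ∀ M : Subgroup K, M ≠ ⊤ → U ≤ M → ∃ i, M ≤ Q i
  avoid : ∀ i, ∃ x, x ∉ Q i ∧ ∀ j, j ≠ i → x ∈ Q j

variable {U : Subgroup K} {ι : Type*} {Q : ι → Subgroup K}

omit [Finite K] in
theorem Family.eq_of_le (h : Family U Q) {i j : ι} (hij : Q i ≤ Q j) : i = j := by
  by_contra hne
  obtain ⟨x, hx, hx'⟩ := h.avoid j
  exact hx (hij (hx' i hne))

omit [Finite K] in
theorem Family.ne_top (h : Family U Q) (i : ι) : Q i ≠ ⊤ := fun h0 => by
  obtain ⟨x, hx, -⟩ := h.avoid i
  exact hx (h0 ▸ Subgroup.mem_top x)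

omit [Finite K] in
theorem Family.isMaxOver (h : Family U Q) (i : ι) : IsMaxOver U (Q i) := by
  refine ⟨⟨h.ne_top i, fun M hM => ?_⟩, h.le i⟩
  by_contra hne
  obtain ⟨j, hj⟩ := h.cover M hne ((h.le i).trans hM.le)
  have := h.eq_of_le (hM.le.trans hj)
  subst this
  exact absurd hj hM.not_ge

omit [Finite K] in
theorem Family.isMaxOver_iff (h : Family U Q) {M : Subgroup K} :
    IsMaxOver U M ↔ ∃ i, M = Q i := by
  constructor
  · rintro ⟨hM, hU⟩
    obtain ⟨i, hi⟩ := h.cover M hM.1 hU
    refine ⟨i, ?_⟩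
    rcases hi.lt_or_eq with h' | h'
    · exact absurd (hM.2 _ h') (h.ne_top i)
    · exact h'
  · rintro ⟨i, rfl⟩
    exact h.isMaxOver i

omit [Finite K] in
theorem Family.sep (h : Family U Q) [Nonempty ι] : Sep U := by
  refine ⟨⟨_, h.isMaxOver (Classical.arbitrary ι)⟩, fun M hM => ?_⟩
  obtain ⟨i, rfl⟩ := h.isMaxOver_iff.1 hM
  obtain ⟨x, hx, hx'⟩ := h.avoid i
  refine ⟨x, hx, fun M' hM' hne => ?_⟩
  obtain ⟨j, rfl⟩ := h.isMaxOver_iff.1 hM'
  exact hx' j fun e => hne (by rw [e])

omit [Finite K] in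
theorem Family.apart (h : Family U Q) {i j : ι} (hne : Nat.card (Q i) ≠ Nat.card (Q j)) :
    Apart U := by
  refine ⟨_, _, h.isMaxOver i, h.isMaxOver j, fun α _ e => hne ?_⟩
  rw [← e, Subgroup.card_map_of_injective α.injective]

omit [Finite K] in
theorem Family.infLe (h : Family U Q)
    (hle : ∀ x, (∀ i, x ∈ Q i) → x ∈ Subgroup.normalizer (U : Set K)) : InfLe U :=
  fun x hx => hle x fun i => hx _ (h.isMaxOver i)

omit [Finite K] in
theorem Family.twoOver (h : Family U Q) {a b : ι} (hab : a ≠ b) (hι : ∀ i, i = a ∨ i = b) :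
    TwoOver U := by
  refine ⟨Q a, Q b, fun e => hab (h.eq_of_le e.le), fun M => ?_⟩
  rw [h.isMaxOver_iff]
  constructor
  · rintro ⟨i, rfl⟩
    rcases hι i with rfl | rfl
    · exact Or.inl rfl
    · exact Or.inr rfl
  · rintro (rfl | rfl) <;> exact ⟨_, rfl⟩

/-- Orbit counting: a map on a subgroup whose fibres are the cosets of a smaller one. -/
theorem card_eq_card_mul_range {G α : Type*} [Group G] (H D : Subgroup G) (hD : D ≤ H) (f : H → α)
    (hf : ∀ a b : H, f a = f b ↔ (a : G)⁻¹ * b ∈ D) :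
    Nat.card H = Nat.card D * Nat.card (Set.range f) := by
  have e : (↥H ⧸ D.subgroupOf H) ≃ Set.range f := by
    refine Equiv.ofBijective (Quotient.lift (fun a => ⟨f a, a, rfl⟩) fun a b hab => ?_) ⟨?_, ?_⟩
    · have h := QuotientGroup.leftRel_apply.1 hab
      exact Subtype.ext ((hf a b).2 h)
    · rintro ⟨a⟩ ⟨b⟩ h
      exact Quotient.sound (QuotientGroup.leftRel_apply.2 ((hf a b).1 (congrArg Subtype.val h)))
    · rintro ⟨_, a, rfl⟩
      exact ⟨Quotient.mk _ a, rfl⟩
  rw [Subgroup.card_eq_card_quotient_mul_card_subgroup (D.subgroupOf H), Nat.card_congr e,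
    Nat.card_congr (Subgroup.subgroupOfEquivOfLe hD).toEquiv, mul_comm]

omit [Finite K] in
/-- The order of the image of a subgroup containing the kernel. -/
theorem card_map_mul_card_ker {G : Type*} [Group G] {π : G →* K} {H : Subgroup G}
    (hH : π.ker ≤ H) : Nat.card (H.map π) * Nat.card π.ker = Nat.card H := by
  have h := Subgroup.card_eq_card_quotient_mul_card_subgroup (π.comp H.subtype).ker
  rw [Nat.card_congr (QuotientGroup.quotientKerEquivRange (π.comp H.subtype)).toEquiv,
    MonoidHom.range_comp, Subgroup.range_subtype] at h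
  have hk : (π.comp H.subtype).ker = π.ker.subgroupOf H := rfl
  rw [hk, Nat.card_congr (Subgroup.subgroupOfEquivOfLe hH).toEquiv] at h
  exact h.symm

end CfsgLib.PMinimalLie
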