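import Cfsg.Agent.Lib.PMinimalLie.PolarGeo
import Cfsg.Agent.Lib.SylowOver.Linear

/-!
The maximal overgroups of a Sylow `p`-subgroup in `PSL_n` in characteristic `p`.
-/

set_option autoImplicit false

namespace CfsgLib.PMinimalLie

open Matrix CfsgLib.MinIndexPSL CfsgLib.SylowOver

variable {F : Type*} [Field F] {N : ℕ}

/-- The standard flag. -/
def slE (F : Type*) [Field F] (N i : ℕ) : Submodule F (Fin N → F) where
  carrier := {x | ∀ k : Fin N, i ≤ k.val → x k = 0}
  add_mem' ha hb k hk := by simp [ha k hk, hb k hk]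
  zero_mem' _ _ := rfl
  smul_mem' c x hx k hk := by simp [hx k hk]

theorem mem_slE {i : ℕ} {x : Fin N → F} : x ∈ slE F N i ↔ ∀ k : Fin N, i ≤ k.val → x k = 0 :=
  Iff.rfl

/-- The standard vectors. -/
def slVec (F : Type*) [Field F] (N i : ℕ) : Fin N → F :=
  if h : i < N then Pi.single ⟨i, h⟩ 1 else 0

theorem slVec_apply {i : ℕ} (hi : i < N) (k : Fin N) :
    slVec F N i k = if k.val = i then 1 else 0 := by
  rw [slVec, dif_pos hi, Pi.single_apply]
  simp [Fin.ext_iff]

theorem slVec_dot {i : ℕ} (hi : i < N) (x : Fin N → F) : slVec F N i ⬝ᵥ x = x ⟨i, hi⟩ := by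
  rw [slVec, dif_pos hi, single_dotProduct, one_mul]

theorem slE_zero : slE F N 0 = ⊥ := by
  ext x
  simp [mem_slE, funext_iff]

theorem slE_mono {i j : ℕ} (h : i ≤ j) : slE F N i ≤ slE F N j :=
  fun _ hx k hk => hx k (h.trans hk)

theorem slE_top {i : ℕ} (h : N ≤ i) : slE F N i = ⊤ :=
  eq_top_iff.2 fun _ _ k hk => absurd (k.2.trans_le (h.trans hk)) (lt_irrefl _)

theorem slVec_mem {i j : ℕ} (hi : i < N) (h : i < j) : slVec F N i ∈ slE F N j := by
  intro k hk
  rw [slVec_apply hi, if_neg (by omega)]

theorem slVec_notMem {i j : ℕ} (hi : i < N) (h : j ≤ i) : slVec F N i ∉ slE F N j := by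
  intro hm
  have := hm ⟨i, hi⟩ h
  simp [slVec_apply hi] at this

theorem sub_smul_slVec_mem {i : ℕ} (hi : i < N) {x : Fin N → F} (hx : x ∈ slE F N (i + 1)) :
    x - x ⟨i, hi⟩ • slVec F N i ∈ slE F N i := by
  intro k hk
  rw [Pi.sub_apply, Pi.smul_apply, slVec_apply hi]
  rcases Nat.lt_or_ge i k.val with h | h
  · rw [if_neg (by omega), hx k (by omega)]
    simp
  · have hki : k = ⟨i, hi⟩ := Fin.ext (show k.val = i by omega)
    simp [hki]

/-- The natural representation. -/
noncomputable def slRho (F : Type*) [Field F] (N : ℕ) :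
    SpecialLinearGroup (Fin N) F →* ((Fin N → F) ≃ₗ[F] (Fin N → F)) :=
  SpecialLinearGroup.toLin'

theorem slRho_apply (g : SpecialLinearGroup (Fin N) F) (x : Fin N → F) :
    slRho F N g x = g.1 *ᵥ x := rfl

theorem slRho_injective : Function.Injective (slRho F N) := fun g g' e =>
  Subtype.ext (ext_of_mulVec_single fun i => by rw [← slRho_apply, e, slRho_apply])

theorem mk_apply_scalar {z : SpecialLinearGroup (Fin N) F}
    (hz : QuotientGroup.mk' (Subgroup.center _) z = 1) :
    ∃ c : F, ∀ v, slRho F N z v = c • v := by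
  obtain ⟨r, -, hr⟩ :=
    Matrix.SpecialLinearGroup.mem_center_iff.1 ((QuotientGroup.eq_one_iff z).1 hz)
  refine ⟨r, fun v => ?_⟩
  rw [slRho_apply, ← hr, scalar_apply]
  ext i
  simp [mulVec_diagonal]

variable [Fintype F]

/-- The unitriangular group. -/
def slU (F : Type*) [Field F] [Fintype F] (N : ℕ) : Subgroup (SpecialLinearGroup (Fin N) F) where
  carrier := {g | ∀ i, ∀ x ∈ slE F N (i + 1), slRho F N g x - x ∈ slE F N i}
  mul_mem' {a b} ha hb i x hx := by
    have e : slRho F N (a * b) x - x = (slRho F N a (slRho F N b x - x) - (slRho F N b x - x)) +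
        (slRho F N b x - x) + (slRho F N a x - x) := by
      rw [map_mul, LinearEquiv.mul_apply, map_sub]; abel
    rw [e]
    exact Submodule.add_mem _
      (Submodule.add_mem _ (ha i _ (slE_mono (Nat.le_succ i) (hb i x hx))) (hb i x hx)) (ha i x hx)
  one_mem' i x _ := by simp
  inv_mem' {a} ha i x hx := by
    have hpow : ∀ (k i : ℕ), ∀ y ∈ slE F N (i + 1), slRho F N (a ^ k) y - y ∈ slE F N i := by
      intro k
      induction k with
      | zero => intro i y _; simp
      | succ k ih =>
        intro i y hy
        have e : slRho F N (a ^ (k + 1)) y - y =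
            slRho F N (a ^ k) (slRho F N a y - y) - (slRho F N a y - y) +
              (slRho F N a y - y) + (slRho F N (a ^ k) y - y) := by
          rw [pow_succ, map_mul, LinearEquiv.mul_apply, map_sub]; abel
        rw [e]
        exact Submodule.add_mem _
          (Submodule.add_mem _ (ih i _ (slE_mono (Nat.le_succ i) (ha i y hy))) (ha i y hy)) (ih i y hy)
    have e : a ^ (orderOf a - 1) = a⁻¹ := eq_inv_of_mul_eq_one_left (by
      rw [← pow_succ, Nat.sub_add_cancel (orderOf_pos a), pow_orderOf_eq_one])
    rw [← e]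
    exact hpow _ i x hx

variable {p : ℕ} [Fact p.Prime] [CharP F p]

theorem isPGroup_slU : IsPGroup p (slU F N) := by
  rintro ⟨g, hg⟩
  rcases Nat.eq_zero_or_pos N with h0 | h0
  · subst h0
    exact ⟨0, Subtype.ext (slRho_injective (LinearEquiv.ext fun x => funext fun k => k.elim0))⟩
  have : CharP (Module.End F (Fin N → F)) p := by
    have : Nontrivial (Fin N → F) :=
      ⟨slVec F N 0, 0, fun h => slVec_notMem (F := F) h0 le_rfl (h ▸ Submodule.zero_mem _)⟩
    exact charP_of_injective_algebraMap (FaithfulSMul.algebraMap_injective F _) p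
  set n : Module.End F (Fin N → F) := (slRho F N g).toLinearMap - 1 with hn
  have h1 : ∀ k, k ≤ N → ∀ x, (n ^ k) x ∈ slE F N (N - k) := by
    intro k hk x
    induction k with
    | zero => rw [slE_top (by omega)]; exact Submodule.mem_top
    | succ k ih =>
      rw [pow_succ', Module.End.mul_apply]
      have h := ih (by omega)
      rw [show N - k = N - (k + 1) + 1 by omega] at h
      exact hg _ _ h
  have h2 : n ^ N = 0 := by
    refine LinearMap.ext fun x => ?_
    have h := h1 N le_rfl x
    rwa [Nat.sub_self, slE_zero, Submodule.mem_bot] at h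
  refine ⟨N, Subtype.ext (slRho_injective ?_)⟩
  have hz : n ^ (p ^ N) = 0 :=
    pow_eq_zero_of_le (Nat.lt_pow_self (Fact.out : p.Prime).one_lt).le h2
  rw [hn, sub_pow_char_pow_of_commute p _ (Commute.one_right _), one_pow, sub_eq_zero] at hz
  rw [SubmonoidClass.coe_pow, map_pow, OneMemClass.coe_one, map_one]
  refine LinearEquiv.ext fun x => ?_
  have h := LinearMap.congr_fun hz x
  simpa [LinearEquiv.coe_pow, Module.End.coe_pow] using h

omit [Fact p.Prime] [CharP F p] in
/-- A transvection in the unitriangular group. -/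
theorem tv_mem_slU {i j : ℕ} (hi : i < N) (hj : j < N) (hij : i < j) :
    tv (slVec F N i) (slVec F N j)
      (by rw [slVec_dot hj, slVec_apply hi, if_neg (show j ≠ i by omega)]) ∈ slU F N := by
  intro k x hx
  rw [slRho_apply, tv_mulVec, add_sub_cancel_left, slVec_dot hj]
  rcases Nat.lt_or_ge i k with h | h
  · exact Submodule.smul_mem _ _ (slVec_mem hi h)
  · rw [hx ⟨j, hj⟩ (show k + 1 ≤ j by omega), zero_smul]
    exact Submodule.zero_mem _

omit [Fact p.Prime] [CharP F p] in
theorem slU_step {W : Submodule F (Fin N → F)}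
    (hW : ∀ g ∈ slU F N, ∀ x ∈ W, slRho F N g x ∈ W) {i : ℕ} (hi : i < N)
    (hle : slE F N i ≤ W) (hne : W ≠ slE F N i) : slVec F N i ∈ W := by
  obtain ⟨x, hx, hxi⟩ := SetLike.exists_of_lt (lt_of_le_of_ne hle hne.symm)
  by_cases h : x ∈ slE F N (i + 1)
  · have h1 := W.sub_mem hx (hle (sub_smul_slVec_mem hi h))
    rw [sub_sub_cancel] at h1
    have hc : x ⟨i, hi⟩ ≠ 0 := fun h0 => hxi (by
      have h2 := sub_smul_slVec_mem hi h
      rwa [h0, zero_smul, sub_zero] at h2)
    have h2 := W.smul_mem (x ⟨i, hi⟩)⁻¹ h1
    rwa [smul_smul, inv_mul_cancel₀ hc, one_smul] at h2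
  · rw [mem_slE] at h
    push Not at h
    obtain ⟨⟨j, hj⟩, hij, hxj⟩ := h
    have h1 := W.sub_mem (hW _ (tv_mem_slU hi hj hij) x hx) hx
    rw [slRho_apply, tv_mulVec, add_sub_cancel_left, slVec_dot hj] at h1
    have h2 := W.smul_mem (x ⟨j, hj⟩)⁻¹ h1
    rwa [smul_smul, inv_mul_cancel₀ hxj, one_smul] at h2

omit [Fact p.Prime] [CharP F p] in
theorem slU_classify {W : Submodule F (Fin N → F)}
    (hW : ∀ g ∈ slU F N, ∀ x ∈ W, slRho F N g x ∈ W) : ∃ i ≤ N, W = slE F N i := by
  by_contra hno
  push Not at hno
  have key : ∀ i ≤ N, slE F N i ≤ W := by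
    intro i hi
    induction i with
    | zero => rw [slE_zero]; exact bot_le
    | succ i ih =>
      have h := ih (by omega)
      have he := slU_step hW (show i < N by omega) h (hno i (by omega))
      intro x hx
      have h1 := W.add_mem (h (sub_smul_slVec_mem (show i < N by omega) hx))
        (W.smul_mem (x ⟨i, by omega⟩) he)
      rwa [sub_add_cancel] at h1
  exact hno N le_rfl (le_antisymm (slE_top (F := F) (le_refl N) ▸ le_top) (key N le_rfl))

/-- The unitriangular group is a Sylow subgroup. -/
theorem exists_sylow_slU :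
    ∃ U : Sylow p (SpecialLinearGroup (Fin N) F), (U : Subgroup _) = slU F N := by
  obtain ⟨U, hU⟩ := (isPGroup_slU (F := F) (N := N) (p := p)).exists_le_sylow
  refine ⟨U, le_antisymm (fun u hu => ?_) hU⟩
  -- the members of the flag are invariant under the Sylow subgroup
  have key : ∀ i ≤ N, (∀ g ∈ (U : Subgroup _), ∀ x ∈ slE F N i, slRho F N g x ∈ slE F N i) ∧
      ∀ j < i, ∀ g ∈ (U : Subgroup _), ∀ x ∈ slE F N (j + 1), slRho F N g x - x ∈ slE F N j := by
    intro i hi
    induction i with
    | zero =>
      refine ⟨fun g _ x hx => ?_, fun j hj => absurd hj (Nat.not_lt_zero j)⟩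
      rw [slE_zero, Submodule.mem_bot] at hx ⊢
      rw [hx, map_zero]
    | succ i ih =>
      obtain ⟨hinv, hfix⟩ := ih (by omega)
      have hiN : i < N := by omega
      let C : Submodule F (Fin N → F) :=
        { carrier := {x | ∀ g ∈ (U : Subgroup _), slRho F N g x - x ∈ slE F N i}
          add_mem' := fun {a b} ha hb g hg => by
            rw [map_add, show slRho F N g a + slRho F N g b - (a + b) =
              (slRho F N g a - a) + (slRho F N g b - b) by abel]
            exact Submodule.add_mem _ (ha g hg) (hb g hg)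
          zero_mem' := fun g _ => by simp
          smul_mem' := fun c a ha g hg => by
            rw [map_smul, ← smul_sub]; exact Submodule.smul_mem _ c (ha g hg) }
      have hle : slE F N i ≤ C := fun x hx g hg => Submodule.sub_mem _ (hinv g hg x hx) hx
      have hCinv : ∀ g ∈ (U : Subgroup _), ∀ x ∈ C, slRho F N g x ∈ C := by
        intro g hg x hx h hh
        have e : slRho F N h (slRho F N g x) - slRho F N g x =
            (slRho F N (h * g) x - x) - (slRho F N g x - x) := by
          rw [map_mul, LinearEquiv.mul_apply]; abel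
        rw [e]
        exact Submodule.sub_mem _ (hx _ (mul_mem hh hg)) (hx g hg)
      have hne : C ≠ slE F N i := by
        let Q := (Fin N → F) ⧸ slE F N i
        let φ : ∀ g : (U : Subgroup (SpecialLinearGroup (Fin N) F)), Q →ₗ[F] Q := fun g =>
          Submodule.mapQ _ _ (slRho F N g).toLinearMap (fun x hx => hinv g g.2 x hx)
        let : MulAction (U : Subgroup (SpecialLinearGroup (Fin N) F)) Q :=
          { smul := fun g => φ g
            one_smul := fun q => by
              induction q using Submodule.Quotient.induction_on with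
              | _ x =>
                show φ 1 (Submodule.Quotient.mk x) = _
                simp [φ]
            mul_smul := fun a b q => by
              induction q using Submodule.Quotient.induction_on with
              | _ x =>
                show φ (a * b) (Submodule.Quotient.mk x) = φ a (φ b (Submodule.Quotient.mk x))
                show (Submodule.Quotient.mk (slRho F N ((a * b :) : SpecialLinearGroup (Fin N) F) x) : Q) =
                  Submodule.Quotient.mk (slRho F N a (slRho F N b x))
                rw [Subgroup.coe_mul, map_mul]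
                rfl }
        have he : (Submodule.Quotient.mk (slVec F N i) : Q) ≠ 0 := fun h0 =>
          slVec_notMem hiN le_rfl ((Submodule.Quotient.mk_eq_zero _).1 h0)
        have hpQ : p ∣ Nat.card Q := by
          have h1 : addOrderOf (Submodule.Quotient.mk (slVec F N i) : Q) ∣ Nat.card Q :=
            addOrderOf_dvd_natCard _
          have h2 : p • (Submodule.Quotient.mk (slVec F N i) : Q) = 0 := by
            rw [← Nat.cast_smul_eq_nsmul F, CharP.cast_eq_zero, zero_smul]
          rcases (Nat.dvd_prime (Fact.out : p.Prime)).1 (addOrderOf_dvd_of_nsmul_eq_zero h2) with h | h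
          · exact absurd (AddMonoid.addOrderOf_eq_one_iff.1 h) he
          · rwa [h] at h1
        obtain ⟨q, hq, hq0⟩ := U.isPGroup'.exists_fixed_point_of_prime_dvd_card_of_fixed_point Q hpQ
          (a := (0 : Q)) fun g => map_zero (φ g)
        induction q using Submodule.Quotient.induction_on with
        | _ x =>
          intro hC
          have hx : x ∈ C := fun g hg => (Submodule.Quotient.eq _).1 (hq ⟨g, hg⟩)
          rw [hC] at hx
          exact hq0 ((Submodule.Quotient.mk_eq_zero _).2 hx).symm
      have he : slVec F N i ∈ C := slU_step (fun g hg => hCinv g (hU hg)) hiN hle hne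
      have hC : slE F N (i + 1) ≤ C := fun x hx => by
        have h1 := C.add_mem (hle (sub_smul_slVec_mem hiN hx)) (C.smul_mem (x ⟨i, hiN⟩) he)
        rwa [sub_add_cancel] at h1
      refine ⟨fun g hg x hx => ?_, fun j hj g hg x hx => ?_⟩
      · have h1 := Submodule.add_mem _ (slE_mono (Nat.le_succ i) (hC hx g hg)) hx
        rwa [sub_add_cancel] at h1
      · rcases Nat.lt_succ_iff_lt_or_eq.1 hj with hj | rfl
        · exact hfix j hj g hg x hx
        · exact hC hx g hg
  intro j x hx
  rcases Nat.lt_or_ge j N with hj | hj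
  · exact (key N le_rfl).2 j hj u hu x hx
  · rw [slE_top hj]; exact Submodule.mem_top

/-- The members of the flag as an indexed family. -/
def slFlag (F : Type*) [Field F] (N : ℕ) (i : Fin (N - 1)) : Submodule F (Fin N → F) :=
  slE F N (i.val + 1)

omit [Fact p.Prime] [CharP F p] in
theorem slU_le_stab (i : ℕ) : slU F N ≤ stab (slRho F N) (slE F N i) := by
  intro g hg
  refine mem_stab_of fun x hx => ?_
  rcases Nat.eq_zero_or_pos i with rfl | hpos
  · rw [slE_zero, Submodule.mem_bot] at hx ⊢
    rw [hx, map_zero]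
  · obtain ⟨j, rfl⟩ : ∃ j, i = j + 1 := ⟨i - 1, by omega⟩
    have h1 := Submodule.add_mem _ (slE_mono (Nat.le_succ j) (hg j x hx)) hx
    rwa [sub_add_cancel] at h1

theorem slFamily (hN : 2 ≤ N) (hnc : NoProperCoreFree p (ProjectiveSpecialLinearGroup (Fin N) F))
    (U : Sylow p (SpecialLinearGroup (Fin N) F)) (hU : (U : Subgroup _) = slU F N) :
    Family ((U : Subgroup (SpecialLinearGroup (Fin N) F)).map
        (QuotientGroup.mk' (Subgroup.center _)))
      fun i => (stab (slRho F N) (slFlag F N i)).map (QuotientGroup.mk' (Subgroup.center _)) := by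
  set π := QuotientGroup.mk' (Subgroup.center (SpecialLinearGroup (Fin N) F))
  have hker : ∀ W, π.ker ≤ stab (slRho F N) W := fun W z hz => by
    obtain ⟨c, hc⟩ := mk_apply_scalar hz
    exact mem_stab_of fun x hx => by rw [hc]; exact W.smul_mem c hx
  refine ⟨fun i => Subgroup.map_mono (hU ▸ slU_le_stab _), fun M hM hUM => ?_, fun i => ?_⟩
  · have : Nontrivial (Fin N → F) :=
      ⟨slVec F N 0, 0, fun h => slVec_notMem (F := F) (show 0 < N by omega) le_rfl
        (h ▸ Submodule.zero_mem _)⟩
    obtain ⟨C, hC0, hC1, hCinv⟩ := exists_fixed (slRho F N) π slRho_injective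
      (QuotientGroup.mk'_surjective _) (fun z hz => mk_apply_scalar hz) hnc U M hM hUM
    obtain ⟨i, hi, rfl⟩ := slU_classify (W := C) fun g hg x hx =>
      hCinv g (Subgroup.map_le_iff_le_comap.1 hUM (hU ▸ hg)) x hx
    have hpos : i ≠ 0 := fun h => hC0 (h ▸ slE_zero)
    have hlt : i < N := by
      rcases Nat.lt_or_ge i N with h | h
      · exact h
      · exact absurd (slE_top h) hC1
    refine ⟨⟨i - 1, by omega⟩, fun y hy => ?_⟩
    obtain ⟨m, rfl⟩ := QuotientGroup.mk'_surjective _ y
    refine ⟨m, mem_stab_of fun x hx => ?_, rfl⟩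
    simp only [slFlag, show i - 1 + 1 = i by omega] at hx ⊢
    exact hCinv m hy x hx
  · obtain ⟨i, hi⟩ := i
    have h1 : i + 1 < N := by omega
    have hdot : slVec F N i ⬝ᵥ slVec F N (i + 1) = 0 := by
      rw [slVec_dot (show i < N by omega), slVec_apply h1]; simp
    let g : SpecialLinearGroup (Fin N) F := tv (slVec F N (i + 1)) (slVec F N i) hdot
    have happ : ∀ x, slRho F N g x = x + x ⟨i, by omega⟩ • slVec F N (i + 1) := fun x => by
      rw [slRho_apply, tv_mulVec, slVec_dot (show i < N by omega)]
    refine ⟨π g, fun hm => ?_, fun j hj => Subgroup.mem_map_of_mem π ?_⟩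
    · rw [← Subgroup.mem_comap, Subgroup.comap_map_eq_self (hker _)] at hm
      have h2 := stab_apply_mem hm
        (slVec_mem (F := F) (show i < N by omega) (Nat.lt_succ_self i) :
          slVec F N i ∈ slFlag F N ⟨i, hi⟩)
      rw [happ, slVec_apply (show i < N by omega)] at h2
      have h3 := h2 ⟨i + 1, h1⟩ (le_refl _)
      simp [slVec_apply h1, slVec_apply (show i < N by omega)] at h3
    · refine mem_stab_of fun x hx => ?_
      rw [happ]
      refine Submodule.add_mem _ hx ?_
      rcases Nat.lt_or_ge i j.val with h | h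
      · exact Submodule.smul_mem _ _ (slVec_mem h1 (Nat.succ_lt_succ h))
      · have hne : j.val ≠ i := fun e => hj (Fin.ext e)
        rw [hx ⟨i, by omega⟩ (show j.val + 1 ≤ i by omega), zero_smul]
        exact Submodule.zero_mem _

/-- `PSL`. -/
theorem geo_psl (hN : 2 ≤ N) (h4 : N = 2 → 4 ≤ Fintype.card F) (rk exc : Prop)
    (hrk : N = 2 → rk) (hexc : N = 3 → p = 2 → exc) :
    Geo p (ProjectiveSpecialLinearGroup (Fin N) F) rk exc := by
  classical
  obtain ⟨U, hU⟩ := exists_sylow_slU (F := F) (N := N) (p := p)
  have hfam := slFamily hN (noProperCoreFree_psl hN h4) U hU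
  set π := QuotientGroup.mk' (Subgroup.center (SpecialLinearGroup (Fin N) F))
  let U' : Sylow p (ProjectiveSpecialLinearGroup (Fin N) F) :=
    U.mapSurjective (f := π) (QuotientGroup.mk'_surjective _)
  have : Nonempty (Fin (N - 1)) := ⟨⟨0, by omega⟩⟩
  have hker : ∀ W, π.ker ≤ stab (slRho F N) W := fun W z hz => by
    obtain ⟨c, hc⟩ := mk_apply_scalar hz
    exact mem_stab_of fun x hx => by rw [hc]; exact W.smul_mem c hx
  refine ⟨U', hfam.sep, ?_⟩
  rcases Nat.lt_or_ge N 4 with h | h
  · -- small rank
    refine Or.inr ⟨hfam.infLe fun x hx => ?_, ?_⟩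
    · obtain ⟨g, rfl⟩ := QuotientGroup.mk'_surjective _ x
      have hg : ∀ i ≤ N, g ∈ stab (slRho F N) (slE F N i) := by
        intro i hi
        rcases Nat.eq_zero_or_pos i with rfl | hpos
        · refine mem_stab_of fun x hx => ?_
          rw [slE_zero, Submodule.mem_bot] at hx ⊢
          rw [hx, map_zero]
        rcases Nat.lt_or_ge i N with hlt | hge
        · have h1 := hx ⟨i - 1, by omega⟩
          rw [← Subgroup.mem_comap, Subgroup.comap_map_eq_self (hker _)] at h1
          simpa [slFlag, show i - 1 + 1 = i by omega] using h1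
        · refine mem_stab_of fun x _ => ?_
          rw [slE_top hge]
          exact Submodule.mem_top
      have key : ∀ a, (∀ i ≤ N, a ∈ stab (slRho F N) (slE F N i)) →
          ∀ n ∈ slU F N, a * n * a⁻¹ ∈ slU F N := by
        intro a ha n hn i x hx
        rcases Nat.lt_or_ge i N with hi | hi
        · have hy := stab_apply_mem (inv_mem (ha (i + 1) hi)) hx
          have h1 := stab_apply_mem (ha i hi.le) (hn i _ hy)
          have e : slRho F N (a * n * a⁻¹) x - x =
              slRho F N a (slRho F N n (slRho F N a⁻¹ x) - slRho F N a⁻¹ x) := by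
            simp only [map_mul, LinearEquiv.mul_apply, map_sub]
            congr 1
            rw [← LinearEquiv.mul_apply, ← map_mul, mul_inv_cancel, map_one]
            rfl
          rw [e]
          exact h1
        · rw [slE_top hi]; exact Submodule.mem_top
      refine Subgroup.le_normalizer_map π ⟨g, ?_, rfl⟩
      rw [hU, SetLike.mem_coe, Subgroup.mem_normalizer_iff]
      refine fun n => ⟨fun hn => key g hg n hn, fun hn => ?_⟩
      simpa [mul_assoc] using key g⁻¹ (fun i hi => inv_mem (hg i hi)) _ hn
    · rcases Nat.lt_or_ge N 3 with h2 | h3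
      · exact Or.inl (hrk (by omega))
      · refine Or.inr ⟨hfam.twoOver (a := ⟨0, by omega⟩) (b := ⟨1, by omega⟩) (by simp)
          fun i => ?_, hexc (by omega)⟩
        rcases i with ⟨i, hi⟩
        simp only [Fin.mk.injEq]
        omega
  · -- points and lines
    refine Or.inl (hfam.apart (i := ⟨0, by omega⟩) (j := ⟨1, by omega⟩) ?_)
    let ψ : Option F → Submodule F (Fin N → F) := fun o =>
      o.elim (slE F N 1) fun c => Submodule.span F {slVec F N 1 + c • slVec F N 0}
    have hdot : ∀ a : F × F,
        slVec F N 1 ⬝ᵥ (a.1 • slVec F N 2 + a.2 • slVec F N 3) = 0 := fun a => by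
      rw [slVec_dot (show 1 < N by omega)]
      simp [slVec_apply (show 2 < N by omega), slVec_apply (show 3 < N by omega)]
    let φ : F × F → SpecialLinearGroup (Fin N) F := fun a =>
      tv (a.1 • slVec F N 2 + a.2 • slVec F N 3) (slVec F N 1) (hdot a)
    have happ : ∀ a x, slRho F N (φ a) x =
        x + x ⟨1, by omega⟩ • (a.1 • slVec F N 2 + a.2 • slVec F N 3) := fun a x => by
      rw [slRho_apply, tv_mulVec, slVec_dot (show 1 < N by omega)]
    show Nat.card ((stab (slRho F N) (slE F N 1)).map π) ≠
      Nat.card ((stab (slRho F N) (slE F N 2)).map π)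
    refine card_ne_of_orbits (slRho F N) π _ _ (hker _) (hker _) (Nat.card F + 1)
      (Finset.univ.image ψ) ?_ ?_ φ (fun a => ?_) (fun a b hab => ?_) ?_
    · refine Finset.card_image_le.trans ?_
      rw [Finset.card_univ, Fintype.card_option, Nat.card_eq_fintype_card]
    · intro g hg
      have h1 : slE F N 1 = Submodule.span F {slVec F N 0} := by
        refine le_antisymm (fun x hx => ?_)
          ((Submodule.span_singleton_le_iff_mem _ _).2 (slVec_mem (by omega) Nat.one_pos))
        have h2 := sub_smul_slVec_mem (show 0 < N by omega) hx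
        rw [slE_zero, Submodule.mem_bot, sub_eq_zero] at h2
        rw [h2]
        exact Submodule.smul_mem _ _ (Submodule.mem_span_singleton_self _)
      set y := slRho F N g (slVec F N 0) with hydef
      have hy0 : y ≠ 0 := (LinearEquiv.map_ne_zero_iff _).2 fun h0 =>
        slVec_notMem (F := F) (show 0 < N by omega) le_rfl (h0 ▸ Submodule.zero_mem _)
      have hy : y ∈ slE F N 2 :=
        stab_apply_mem hg (slVec_mem (show 0 < N by omega) (by omega))
      have hmap : (slE F N 1).map (slRho F N g).toLinearMap = Submodule.span F {y} := by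
        rw [h1, Submodule.map_span, Set.image_singleton]; rfl
      set b := y ⟨1, by omega⟩
      have h2 := sub_smul_slVec_mem (show 1 < N by omega) hy
      rw [h1, Submodule.mem_span_singleton] at h2
      obtain ⟨a, ha⟩ := h2
      have hyab : y = a • slVec F N 0 + b • slVec F N 1 := by rw [ha, sub_add_cancel]
      rw [hmap]
      refine Finset.mem_image.2 ?_
      by_cases hb : b = 0
      · refine ⟨none, Finset.mem_univ _, ?_⟩
        show slE F N 1 = _
        rw [hb, zero_smul, add_zero] at hyab
        have ha0 : a ≠ 0 := fun h0 => hy0 (by rw [hyab, h0, zero_smul])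
        rw [h1, hyab, Submodule.span_singleton_smul_eq (IsUnit.mk0 a ha0)]
      · refine ⟨some (b⁻¹ * a), Finset.mem_univ _, ?_⟩
        show Submodule.span F {slVec F N 1 + (b⁻¹ * a) • slVec F N 0} = _
        rw [← Submodule.span_singleton_smul_eq (IsUnit.mk0 b hb)
          (slVec F N 1 + (b⁻¹ * a) • slVec F N 0), smul_add, smul_smul, ← mul_assoc,
          mul_inv_cancel₀ hb, one_mul, add_comm, ← hyab]
    · refine mem_stab_of fun x hx => ?_
      rw [happ, hx ⟨1, by omega⟩ le_rfl, zero_smul, add_zero]
      exact hx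
    · have hab' : (slE F N 2).map (slRho F N (φ a)).toLinearMap =
          (slE F N 2).map (slRho F N (φ b)).toLinearMap := hab
      obtain ⟨x, hx, hxe⟩ : slRho F N (φ a) (slVec F N 1) ∈
          (slE F N 2).map (slRho F N (φ b)).toLinearMap :=
        hab' ▸ ⟨_, slVec_mem (by omega) (by omega), rfl⟩
      change slRho F N (φ b) x = _ at hxe
      rw [happ, happ] at hxe
      have e1 := congrFun hxe ⟨1, by omega⟩
      have e2 := congrFun hxe ⟨2, by omega⟩
      have e3 := congrFun hxe ⟨3, by omega⟩
      simp [slVec_apply (show 1 < N by omega), slVec_apply (show 2 < N by omega),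
        slVec_apply (show 3 < N by omega), hx ⟨2, by omega⟩ le_rfl,
        hx ⟨3, by omega⟩ (show 2 ≤ 3 by omega)] at e1 e2 e3
      rw [e1, one_mul] at e2 e3
      exact Prod.ext e2.symm e3.symm
    · rw [Nat.card_prod]
      have := Finite.one_lt_card (α := F)
      nlinarith

end CfsgLib.PMinimalLie
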