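import Cfsg.Agent.Lib.Classical.Quad.Index
import Cfsg.Agent.Lib.Orth.Reflection

/-!
The two classes of totally singular subspaces of half the dimension.
-/

set_option autoImplicit false

namespace CfsgLib.PMinimalLie

open QuadraticMap Module CfsgLib.Classical.Quad

variable {F V : Type*} [Field F] [AddCommGroup V] [Module F V] [FiniteDimensional F V]
variable {Q : QuadraticForm F V}

/-- Totally singular of half the dimension. -/
def IsHalf (Q : QuadraticForm F V) (E : Submodule F V) : Prop :=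
  (∀ x ∈ E, Q x = 0) ∧ 2 * finrank F E = finrank F V

theorem IsHalf.polar_eq {E : Submodule F V} (hE : IsHalf Q E) {x y : V} (hx : x ∈ E) (hy : y ∈ E) :
    polar Q x y = 0 := by
  rw [polar, hE.1 _ (E.add_mem hx hy), hE.1 x hx, hE.1 y hy]
  simp

theorem IsHalf.map {E : Submodule F V} (hE : IsHalf Q E) (g : Orth Q) :
    IsHalf Q (E.map g.1.toLinearMap) := by
  refine ⟨?_, ?_⟩
  · rintro _ ⟨x, hx, rfl⟩
    exact (orth_Q g x).trans (hE.1 x hx)
  · rw [LinearEquiv.finrank_map_eq g.1 E]
    exact hE.2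

theorem IsHalf.mem_of_polar (hnd : NDPolar Q) {E : Submodule F V} (hE : IsHalf Q E) {x : V}
    (hx : ∀ y ∈ E, polar Q y x = 0) : x ∈ E := by
  have hle : E ≤ LinearMap.BilinForm.orthogonal (polarBilin Q) E :=
    fun a ha b hb => hE.polar_eq hb ha
  have heq := Submodule.eq_of_le_of_finrank_le hle (by
    rw [CfsgLib.Orth.finrank_polar_orthogonal hnd]; have := hE.2; omega)
  rw [heq]
  exact hx

theorem finrank_inf_plane_side {E H : Submodule F V} {w w' a : V} {k : F} (hk : k ≠ 0)
    (hE : IsHalf Q E) (haE : a ∈ E) (haH : a ∉ H) (ha : a ∈ H ⊔ F ∙ w)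
    (hHw' : ∀ h ∈ H, ∀ h' ∈ H ⊔ F ∙ w', polar Q h h' = 0)
    (hHw : ∀ h ∈ H, polar Q h w = 0) (hww' : polar Q w w' = k) :
    finrank F ↥(E ⊓ (H ⊔ F ∙ w)) = finrank F ↥(E ⊓ H) + 1 ∧
      finrank F ↥(E ⊓ (H ⊔ F ∙ w')) = finrank F ↥(E ⊓ H) := by
  obtain ⟨h₀, hh₀, _, hc, rfl⟩ := Submodule.mem_sup.1 ha
  obtain ⟨α, rfl⟩ := Submodule.mem_span_singleton.1 hc
  have hα : α ≠ 0 := by
    rintro rfl
    rw [zero_smul, add_zero] at haH
    exact haH hh₀
  constructor
  · have heq : E ⊓ (H ⊔ F ∙ w) = (E ⊓ H) ⊔ F ∙ (h₀ + α • w) := by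
      refine le_antisymm (fun x hx => ?_) (sup_le (inf_le_inf le_rfl le_sup_left)
        ((Submodule.span_singleton_le_iff_mem _ _).2 ⟨haE, ha⟩))
      obtain ⟨h, hh, _, hc', rfl⟩ := Submodule.mem_sup.1 hx.2
      obtain ⟨γ, rfl⟩ := Submodule.mem_span_singleton.1 hc'
      refine Submodule.mem_sup.2 ⟨h + γ • w - (γ / α) • (h₀ + α • w), ⟨?_, ?_⟩,
        (γ / α) • (h₀ + α • w),
        Submodule.smul_mem _ _ (Submodule.mem_span_singleton_self _), sub_add_cancel _ _⟩
      · exact E.sub_mem hx.1 (E.smul_mem _ haE)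
      · rw [show h + γ • w - (γ / α) • (h₀ + α • w) = h - (γ / α) • h₀ by
          rw [smul_add, smul_smul, div_mul_cancel₀ _ hα]; abel]
        exact H.sub_mem hh (H.smul_mem _ hh₀)
    have hne : h₀ + α • w ≠ 0 := fun h => haH (h ▸ H.zero_mem)
    have hdis : Disjoint (E ⊓ H) (F ∙ (h₀ + α • w)) :=
      (Submodule.disjoint_span_singleton' hne).2 fun h => haH h.2
    have := Submodule.finrank_sup_add_finrank_inf_eq (E ⊓ H) (F ∙ (h₀ + α • w))
    rw [hdis.eq_bot, finrank_bot, finrank_span_singleton hne, ← heq] at this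
    omega
  · have heq : E ⊓ (H ⊔ F ∙ w') = E ⊓ H := by
      refine le_antisymm (fun x hx => ⟨hx.1, ?_⟩) (inf_le_inf le_rfl le_sup_left)
      obtain ⟨h, hh, _, hc', rfl⟩ := Submodule.mem_sup.1 hx.2
      obtain ⟨β, rfl⟩ := Submodule.mem_span_singleton.1 hc'
      have h0 := hE.polar_eq haE hx.1
      have e1 : polar Q h₀ (h + β • w') = 0 := hHw' h₀ hh₀ _ hx.2
      have e2 : polar Q w h = 0 := by rw [polar_comm]; exact hHw h hh
      rw [polar_add_left, polar_smul_left, e1, polar_add_right, polar_smul_right, e2, hww'] at h0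
      simp only [smul_eq_mul, zero_add, mul_eq_zero] at h0
      rcases h0 with h0 | h0 | h0
      · exact absurd h0 hα
      · rw [h0, zero_smul, add_zero]; exact hh
      · exact absurd h0 hk
    rw [heq]

/-- A reflection changes the dimension of the intersection with a fixed one by exactly one. -/
theorem finrank_inf_refl (hnd : NDPolar Q) {E W : Submodule F V} (hE : IsHalf Q E)
    (hW : IsHalf Q W) {v : V} (hv : Q v ≠ 0) :
    finrank F ↥(E ⊓ W.map (refl Q v).1.toLinearMap) + 1 = finrank F ↥(E ⊓ W) ∨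
      finrank F ↥(E ⊓ W.map (refl Q v).1.toLinearMap) = finrank F ↥(E ⊓ W) + 1 := by
  obtain ⟨w, hw, hwv⟩ : ∃ w ∈ W, polar Q w v ≠ 0 := by
    by_contra hcon
    push Not at hcon
    exact hv (hW.1 v (hW.mem_of_polar hnd hcon))
  set H := W ⊓ LinearMap.ker ((polarBilin Q).flip v) with hH
  have hHmem : ∀ x, x ∈ H ↔ x ∈ W ∧ polar Q x v = 0 := fun x => Iff.rfl
  set w' := (refl Q v).1 w with hw'
  have hWeq : W = H ⊔ F ∙ w := by
    refine le_antisymm (fun x hx => ?_) (sup_le inf_le_left
      ((Submodule.span_singleton_le_iff_mem _ _).2 hw))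
    refine Submodule.mem_sup.2 ⟨x - (polar Q x v / polar Q w v) • w, (hHmem _).2
      ⟨W.sub_mem hx (W.smul_mem _ hw), ?_⟩, _,
      Submodule.smul_mem _ _ (Submodule.mem_span_singleton_self _), sub_add_cancel _ _⟩
    rw [polar_sub_left, polar_smul_left, smul_eq_mul, div_mul_cancel₀ _ hwv, sub_self]
  have hWmap : W.map (refl Q v).1.toLinearMap = H ⊔ F ∙ w' := by
    conv_lhs => rw [hWeq]
    rw [Submodule.map_sup, Submodule.map_span, Set.image_singleton]
    congr 1
    ext x
    constructor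
    · rintro ⟨y, hy, rfl⟩
      show (refl Q v).1 y ∈ H
      rw [refl_fix hy.2]
      exact hy
    · exact fun hx => ⟨x, hx, refl_fix hx.2⟩
  have hW' : IsHalf Q (H ⊔ F ∙ w') := hWmap ▸ hW.map _
  have hk : polar Q w w' ≠ 0 := by
    rw [hw', refl_apply, polar_add_right, polar_smul_right, polar_singular_self (hW.1 w hw)]
    simp [hv, hwv]
  have hHW : ∀ h ∈ H, ∀ h' ∈ H ⊔ F ∙ w, polar Q h h' = 0 := fun h hh h' hh' =>
    hW.polar_eq hh.1 (hWeq ▸ hh')
  have hHW' : ∀ h ∈ H, ∀ h' ∈ H ⊔ F ∙ w', polar Q h h' = 0 := fun h hh h' hh' =>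
    hW'.polar_eq (Submodule.mem_sup_left hh) hh'
  have hwH : w ∉ H := fun h => hwv ((hHmem w).1 h).2
  have hw'W : w' ∉ W := fun h => hk (hW.polar_eq hw h)
  have hw0 : w ≠ 0 := fun h => hwH (h ▸ H.zero_mem)
  have hw'0 : w' ≠ 0 := fun h => hw'W (h ▸ W.zero_mem)
  have hdimH : finrank F H + 1 = finrank F W := by
    have h1 := Submodule.finrank_sup_add_finrank_inf_eq H (F ∙ w)
    rw [← hWeq, ((Submodule.disjoint_span_singleton' hw0).2 hwH).eq_bot, finrank_bot,
      finrank_span_singleton hw0] at h1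
    omega
  set Hp := LinearMap.BilinForm.orthogonal (polarBilin Q) H with hHp
  have hHp_eq : W ⊔ F ∙ w' = Hp := by
    refine Submodule.eq_of_le_of_finrank_le (sup_le (fun x hx h hh => hW.polar_eq hh.1 hx)
      ((Submodule.span_singleton_le_iff_mem _ _).2 fun h hh => hHW' h hh _
        (Submodule.mem_sup_right (Submodule.mem_span_singleton_self _)))) ?_
    have h1 := Submodule.finrank_sup_add_finrank_inf_eq W (F ∙ w')
    rw [((Submodule.disjoint_span_singleton' hw'0).2 hw'W).eq_bot, finrank_bot,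
      finrank_span_singleton hw'0] at h1
    rw [hHp, CfsgLib.Orth.finrank_polar_orthogonal hnd]
    have := hW.2
    omega
  have hlt : E ⊓ H < E ⊓ Hp := by
    have hle : E ⊓ H ≤ E ⊓ Hp := inf_le_inf le_rfl fun x hx h hh => hW.polar_eq hh.1 hx.1
    refine lt_of_le_of_ne hle fun heq => ?_
    have h1 : LinearMap.BilinForm.orthogonal (polarBilin Q) (E ⊔ H) ≤ E ⊓ Hp := fun x hx =>
      ⟨hE.mem_of_polar hnd fun y hy => hx y (Submodule.mem_sup_left hy),
        fun y hy => hx y (Submodule.mem_sup_right hy)⟩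
    have h2 := Submodule.finrank_mono h1
    rw [CfsgLib.Orth.finrank_polar_orthogonal hnd, ← heq] at h2
    have h3 := Submodule.finrank_sup_add_finrank_inf_eq E H
    have := hE.2
    have := hW.2
    omega
  obtain ⟨a, ha, haH⟩ := SetLike.exists_of_lt hlt
  have haH' : a ∉ H := fun h => haH ⟨ha.1, h⟩
  have haW : a ∈ W ∨ a ∈ H ⊔ F ∙ w' := by
    have h0 : a ∈ W ⊔ F ∙ w' := hHp_eq ▸ ha.2
    obtain ⟨x, hx, _, hc, rfl⟩ := Submodule.mem_sup.1 h0
    obtain ⟨β, rfl⟩ := Submodule.mem_span_singleton.1 hc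
    by_cases hβ : β = 0
    · left; rw [hβ, zero_smul, add_zero]; exact hx
    · right
      rw [hWeq] at hx
      obtain ⟨h, hh, _, hc', rfl⟩ := Submodule.mem_sup.1 hx
      obtain ⟨α, rfl⟩ := Submodule.mem_span_singleton.1 hc'
      have hQ := hE.1 _ ha.1
      have e1 : Q h = 0 := hW.1 h hh.1
      have e2 : polar Q h w = 0 := hHW h hh w (Submodule.mem_sup_right (Submodule.mem_span_singleton_self _))
      have e3 : polar Q h w' = 0 :=
        hHW' h hh w' (Submodule.mem_sup_right (Submodule.mem_span_singleton_self _))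
      rw [Q_comb h w w' α β, e1, hW.1 w hw, hW'.1 w' (Submodule.mem_sup_right
        (Submodule.mem_span_singleton_self _)), e2, e3] at hQ
      have hα : α = 0 := by
        simpa [hβ, hk] using hQ
      rw [hα, zero_smul, add_zero]
      exact Submodule.add_mem_sup hh (Submodule.smul_mem _ β (Submodule.mem_span_singleton_self _))
  rw [hWmap]
  rcases haW with h | h
  · obtain ⟨h1, h2⟩ := finrank_inf_plane_side (w := w) (w' := w') hk hE ha.1 haH' (hWeq ▸ h) hHW'
      (fun x hx => hHW x hx w (Submodule.mem_sup_right (Submodule.mem_span_singleton_self _))) rfl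
    rw [← hWeq] at h1
    left; omega
  · obtain ⟨h1, h2⟩ := finrank_inf_plane_side (w := w') (w' := w) (k := polar Q w' w)
      (by rwa [polar_comm]) hE ha.1 haH' h hHW
      (fun x hx => hHW' x hx w' (Submodule.mem_sup_right (Submodule.mem_span_singleton_self _))) rfl
    rw [← hWeq] at h2
    right; omega

/-- The Siegel group preserves the two classes. -/
theorem finrank_inf_map_parity (hnd : NDPolar Q) (P : Frame Q) {E : Submodule F V} (hE : IsHalf Q E)
    {g : Orth Q} (hg : g ∈ siegelGroup Q) :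
    finrank F ↥(E ⊓ E.map g.1.toLinearMap) % 2 = finrank F E % 2 := by
  obtain ⟨l, hl, he, rfl⟩ := siegelGroup_le_evenRefl hnd P hg
  have key : ∀ l : List V, (∀ v ∈ l, Q v ≠ 0) →
      (finrank F ↥(E ⊓ E.map ((l.map (refl Q)).prod).1.toLinearMap) + l.length) % 2 =
        finrank F E % 2 := by
    intro l hl
    induction l with
    | nil =>
      rw [List.map_nil, List.prod_nil,
        show E.map (1 : Orth Q).1.toLinearMap = E from Submodule.map_id E, inf_idem]
      simp
    | cons v l ih =>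
      have h := ih fun w hw => hl w (List.mem_cons_of_mem _ hw)
      rw [List.map_cons, List.prod_cons, List.length_cons]
      have e : E.map (refl Q v * (l.map (refl Q)).prod).1.toLinearMap =
          (E.map ((l.map (refl Q)).prod).1.toLinearMap).map (refl Q v).1.toLinearMap := by
        rw [← Submodule.map_comp]; rfl
      rw [e]
      rcases finrank_inf_refl hnd hE (hE.map (l.map (refl Q)).prod) (hl v List.mem_cons_self)
        with h1 | h1 <;> omega
  have h := key l hl
  rw [Nat.even_iff] at he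
  omega

end CfsgLib.PMinimalLie
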