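import Cfsg.Agent.Lib.PMinimalLie.PolarSmall
import Cfsg.Agent.Lib.PMinimalLie.OrthClass
import Cfsg.Agent.Lib.SylowOver.Orth

/-!
The overgroups of a Sylow `p`-subgroup in the orthogonal groups in characteristic `p`.
-/

set_option autoImplicit false

namespace CfsgLib.PMinimalLie

open QuadraticMap Module CfsgLib.Classical.Quad CfsgLib.SylowOver

variable {F W : Type*} [Field F] [AddCommGroup W] [Module F W] {M : ℕ}

/-- The first half of the standard pairs. -/
def oe (F W : Type*) [Field F] [AddCommGroup W] [Module F W] (M i : ℕ) :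
    ((Fin M → F) × (Fin M → F)) × W :=
  if h : i < M then ((Pi.single ⟨i, h⟩ 1, 0), 0) else 0

/-- The second half of the standard pairs. -/
def of' (F W : Type*) [Field F] [AddCommGroup W] [Module F W] (M i : ℕ) :
    ((Fin M → F) × (Fin M → F)) × W :=
  if h : i < M then ((0, Pi.single ⟨i, h⟩ 1), 0) else 0

variable {R : QuadraticForm F W}

theorem polar_oe {i : ℕ} (hi : i < M) (x : ((Fin M → F) × (Fin M → F)) × W) :
    polar (hypForm M R) x (oe F W M i) = x.1.2 ⟨i, hi⟩ := by
  rw [oe, dif_pos hi, polar_hypForm]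
  simp [polar_zero_right, Pi.single_apply]

theorem polar_of {i : ℕ} (hi : i < M) (x : ((Fin M → F) × (Fin M → F)) × W) :
    polar (hypForm M R) x (of' F W M i) = x.1.1 ⟨i, hi⟩ := by
  rw [of', dif_pos hi, polar_hypForm]
  simp [polar_zero_right, Pi.single_apply]

theorem oe_snd {i : ℕ} (hi : i < M) (k : Fin M) : (oe F W M i).1.2 k = 0 := by
  rw [oe, dif_pos hi]; rfl

theorem of_fst {i : ℕ} (hi : i < M) (k : Fin M) : (of' F W M i).1.1 k = 0 := by
  rw [of', dif_pos hi]; rfl

theorem oe_fst {i : ℕ} (hi : i < M) (k : Fin M) :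
    (oe F W M i).1.1 k = if k.val = i then 1 else 0 := by
  rw [oe, dif_pos hi]
  simp [Pi.single_apply, Fin.ext_iff]

theorem of_snd {i : ℕ} (hi : i < M) (k : Fin M) :
    (of' F W M i).1.2 k = if k.val = i then 1 else 0 := by
  rw [of', dif_pos hi]
  simp [Pi.single_apply, Fin.ext_iff]

theorem Q_oe (i : ℕ) : hypForm M R (oe F W M i) = 0 := by
  rw [oe]
  split <;> simp [hypForm_apply]

theorem Q_of (i : ℕ) : hypForm M R (of' F W M i) = 0 := by
  rw [of']
  split <;> simp [hypForm_apply]

theorem mem_span_oe {j : ℕ} {x : ((Fin M → F) × (Fin M → F)) × W} (h2 : x.2 = 0)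
    (hs : ∀ k : Fin M, x.1.2 k = 0) (hf : ∀ k : Fin M, j ≤ k.val → x.1.1 k = 0) :
    x ∈ Submodule.span F (oe F W M '' Set.Iio j) := by
  have hx : x = ∑ k : Fin M, x.1.1 k • oe F W M k := by
    refine Prod.ext (Prod.ext ?_ ?_) ?_
    · funext l
      simp [Prod.fst_sum, oe, Pi.single_apply]
    · funext l
      simp [Prod.fst_sum, Prod.snd_sum, oe, hs]
    · simp [Prod.snd_sum, oe, h2]
  rw [hx]
  refine Submodule.sum_mem _ fun k _ => ?_
  rcases Nat.lt_or_ge k.val j with h | h
  · exact Submodule.smul_mem _ _ (Submodule.subset_span ⟨k, h, rfl⟩)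
  · rw [hf k h, zero_smul]
    exact Submodule.zero_mem _

variable [FiniteDimensional F W]

/-- The orthogonal geometry with `r` pairs in the flag and one further vector. -/
noncomputable def polarO (R : QuadraticForm F W) {r : ℕ} (hr : 1 ≤ r) (hrM : r ≤ M)
    (hnd : NDPolar (hypForm M R)) (z : ((Fin M → F) × (Fin M → F)) × W)
    (hz : ∀ i : Fin M, i.val < r → z.1.2 i = 0)
    (hz' : z ∉ Submodule.span F (oe F W M '' Set.Iio r)) :
    Polar F (((Fin M → F) × (Fin M → F)) × W) (siegelGroup (hypForm M R)) where
  ρ := sgRep (hypForm M R)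
  L w := (polarBilin (hypForm M R)).flip w
  τ := RingHom.id F
  L_add a b := map_add _ a b
  L_smul c a := map_smul _ c a
  L_inj a h := hnd a fun y => by
    rw [polar_comm]
    exact LinearMap.congr_fun h y
  symm a b h := by
    show polar (hypForm M R) a b = 0
    rw [polar_comm]; exact h
  isometry g a b := orth_polar g.1 b a
  Sg v := hypForm M R v = 0
  sg_smul c a h := by rw [QuadraticMap.map_smul, h, smul_zero]
  sg_add a b ha hb hab := by
    have hab' : polar (hypForm M R) b a = 0 := hab
    rw [QuadraticMap.map_add (hypForm M R), ha, hb, polar_comm, hab']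
    simp
  sg_self a h := polar_singular_self h
  sg_map g a h := (orth_Q g.1 a).trans h
  r := r
  r_pos := hr
  e := oe F W M
  f := of' F W M
  sg_e _ _ := Q_oe _
  sg_f _ _ := Q_of _
  ee i j hi hj := by
    show polar (hypForm M R) (oe F W M j) (oe F W M i) = 0
    rw [polar_oe (show i < M by omega), oe_snd (show j < M by omega)]
  ff i j hi hj := by
    show polar (hypForm M R) (of' F W M j) (of' F W M i) = 0
    rw [polar_of (show i < M by omega), of_fst (show j < M by omega)]
  ef i j hi hj hij := by
    show polar (hypForm M R) (of' F W M j) (oe F W M i) = 0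
    rw [polar_oe (show i < M by omega), of_snd (show j < M by omega),
      if_neg (show ¬ i = j from hij)]
  pair i hi := by
    show polar (hypForm M R) (oe F W M i) (of' F W M i) ≠ 0
    rw [polar_of (show i < M by omega), oe_fst (show i < M by omega), if_pos rfl]
    exact one_ne_zero
  eich u w hu h := by
    have hw : polar (hypForm M R) u w = 0 := by rw [polar_comm]; exact h
    refine ⟨⟨siegel (hypForm M R) u w hu hw, siegel_mem hu hw⟩, -1, -(hypForm M R w),
      neg_ne_zero.2 one_ne_zero, fun x => ?_⟩
    show (siegel (hypForm M R) u w hu hw).1 x = _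
    rw [siegel_apply, LinearMap.flip_apply, LinearMap.flip_apply, polarBilin_apply_apply,
      polarBilin_apply_apply]
    module
  last := by
    have hlt : r - 1 < M := by omega
    have hw : polar (hypForm M R) (oe F W M (r - 1)) z = 0 := by
      rw [polar_comm, polar_oe hlt]
      exact hz _ (show r - 1 < r by omega)
    refine ⟨⟨siegel (hypForm M R) _ z (Q_oe (r - 1)) hw, siegel_mem (Q_oe (r - 1)) hw⟩, z, 1,
      one_ne_zero, fun i hi => ?_, fun x => ?_, fun x h1 h2 => ?_, fun x h1 => ?_,
      Or.inl ⟨fun a ha => hz' (ha ▸ Submodule.smul_mem _ _ (Submodule.subset_span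
        ⟨r - 1, show r - 1 < r by omega, rfl⟩)), hz'⟩⟩
    · show polar (hypForm M R) z (oe F W M i) = 0
      rw [polar_oe (show i < M by omega)]
      exact hz _ hi
    · refine ⟨-(polar (hypForm M R) x z) -
        hypForm M R z * polar (hypForm M R) x (oe F W M (r - 1)), ?_⟩
      show (siegel (hypForm M R) _ z (Q_oe (r - 1)) hw).1 x = _
      rw [siegel_apply, LinearMap.flip_apply, polarBilin_apply_apply, one_mul]
      abel
    · exact siegel_fix (Q_oe (r - 1)) hw h1 h2
    · show (siegel (hypForm M R) _ z (Q_oe (r - 1)) hw).1 x - x ∈ _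
      rw [siegel_apply, show polar (hypForm M R) x (oe F W M (r - 1)) = 0 from h1, zero_smul,
        add_zero, add_sub_cancel_left]
      exact Submodule.smul_mem _ _ (Submodule.mem_span_singleton_self _)

variable [Finite F] [Finite W] {p : ℕ} [Fact p.Prime] [CharP F p]

omit [Finite F] [Finite W] in
theorem finite_gl [Finite F] [Finite W] :
    Finite ((((Fin M → F) × (Fin M → F)) × W) ≃ₗ[F] (((Fin M → F) × (Fin M → F)) × W)) :=
  Finite.of_injective _ DFunLike.coe_injective

theorem setting_siegel (hnd : NDPolar (hypForm M R)) (P₀ : Frame (hypForm M R))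
    {P : Polar F (((Fin M → F) × (Fin M → F)) × W) (siegelGroup (hypForm M R))}
    (hP : P.ρ = sgRep (hypForm M R)) :
    Setting p P (QuotientGroup.mk' (Subgroup.center (siegelGroup (hypForm M R)))) where
  inj := hP ▸ sgRep_injective
  surj := QuotientGroup.mk'_surjective _
  scalar z hz := by
    rcases (mem_center_siegelGroup_iff hnd P₀ z).1 ((QuotientGroup.eq_one_iff z).1 hz) with h | h
    · exact ⟨1, fun v => by rw [hP, one_smul]; exact h v⟩
    · exact ⟨-1, fun v => by rw [hP, neg_one_smul]; exact h v⟩
  noCore := noProperCoreFree_siegel hnd P₀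

/-- Anisotropic kernels. -/
theorem geo_siegel_kernel [Nontrivial W] (hM : 3 ≤ M) (hnd : NDPolar (hypForm M R))
    (P₀ : Frame (hypForm M R)) (haniso : ∀ w, R w = 0 → w = 0) (rk exc : Prop) :
    Geo p (siegelGroup (hypForm M R) ⧸ Subgroup.center (siegelGroup (hypForm M R))) rk exc := by
  have := finite_gl (F := F) (W := W) (M := M)
  obtain ⟨w₀, hw₀⟩ := exists_ne (0 : W)
  set z : ((Fin M → F) × (Fin M → F)) × W := (0, w₀) with hz
  have hz' : z ∉ Submodule.span F (oe F W M '' Set.Iio M) := fun h => hw₀ (by
    have hle : Submodule.span F (oe F W M '' Set.Iio M) ≤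
        LinearMap.ker (LinearMap.snd F ((Fin M → F) × (Fin M → F)) W) := by
      rw [Submodule.span_le]
      rintro _ ⟨i, hi, rfl⟩
      have hi' : i < M := hi
      simp [oe, hi']
    exact LinearMap.mem_ker.1 (hle h))
  let P := polarO R (r := M) (by omega) le_rfl hnd z (fun _ _ => rfl) hz'
  have hmax : ∀ x ∈ P.perp (P.E P.r), P.Sg x → x ∈ P.E P.r := by
    intro x hx hsx
    have hs : ∀ k : Fin M, x.1.2 k = 0 := fun k => by
      have h1 : polar (hypForm M R) x (oe F W M k) = 0 := P.mem_perp_E.1 hx k k.2
      rwa [polar_oe k.2] at h1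
    have hsx' : hypForm M R x = 0 := hsx
    rw [hypForm_apply, Finset.sum_eq_zero (fun k _ => by rw [hs k, mul_zero]), zero_add] at hsx'
    exact mem_span_oe (haniso _ hsx') hs fun k hk => absurd (k.2.trans_le hk) (lt_irrefl _)
  have hlt : M - 1 < M := by omega
  have hlast : ∃ g, (∀ k, k < P.r - 1 → P.ρ g (P.e k) = P.e k) ∧
      P.ρ g (P.e (P.r - 1)) ∉ P.E P.r := by
    have hw : polar (hypForm M R) (of' F W M (M - 1)) z = 0 := by
      rw [polar_comm, polar_of hlt]; rfl
    refine ⟨⟨siegel (hypForm M R) _ z (Q_of (M - 1)) hw, siegel_mem (Q_of (M - 1)) hw⟩,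
      fun k hk => ?_, fun hm => hw₀ ?_⟩
    · have hk' : k < M - 1 := hk
      refine siegel_fix (Q_of (M - 1)) hw ?_ ?_
      · show polar (hypForm M R) (oe F W M k) (of' F W M (M - 1)) = 0
        rw [polar_of hlt, oe_fst (show k < M by omega), if_neg (show ¬ M - 1 = k by omega)]
      · show polar (hypForm M R) (oe F W M k) z = 0
        rw [polar_comm, polar_oe (show k < M by omega)]
        rfl
    · have hle : Submodule.span F (oe F W M '' Set.Iio M) ≤
          LinearMap.ker (LinearMap.snd F ((Fin M → F) × (Fin M → F)) W) := by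
        rw [Submodule.span_le]
        rintro _ ⟨i, hi, rfl⟩
        have hi' : i < M := hi
        simp [oe, hi']
      have h1 : ((siegel (hypForm M R) _ z (Q_of (M - 1)) hw).1 (oe F W M (M - 1))).2 = 0 :=
        LinearMap.mem_ker.1 (hle hm)
      rw [siegel_apply, polar_of hlt, oe_fst hlt, if_pos rfl] at h1
      simpa [oe, of', hlt, hz] using h1
  exact (setting_siegel hnd P₀ (P := P) rfl).geo_three hM hmax hlast rk exc

/-- Hyperbolic forms. -/
theorem geo_siegel_plus [Subsingleton W] {r : ℕ} (hr : 3 ≤ r) (hM : M = r + 1)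
    (hnd : NDPolar (hypForm M R)) (P₀ : Frame (hypForm M R)) (rk exc : Prop) :
    Geo p (siegelGroup (hypForm M R) ⧸ Subgroup.center (siegelGroup (hypForm M R))) rk exc := by
  have := finite_gl (F := F) (W := W) (M := M)
  have hrM : r < M := by omega
  have hz' : oe F W M r ∉ Submodule.span F (oe F W M '' Set.Iio r) := fun h => by
    have hle : Submodule.span F (oe F W M '' Set.Iio r) ≤
        LinearMap.ker ((polarBilin (hypForm M R)).flip (of' F W M r)) := by
      rw [Submodule.span_le]
      rintro _ ⟨i, hi, rfl⟩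
      show polar (hypForm M R) (oe F W M i) (of' F W M r) = 0
      have hi' : i < r := hi
      rw [polar_of hrM, oe_fst (show i < M by omega), if_neg (show ¬ r = i by omega)]
    have h1 : polar (hypForm M R) (oe F W M r) (of' F W M r) = 0 := hle h
    rw [polar_of hrM, oe_fst hrM, if_pos rfl] at h1
    exact one_ne_zero h1
  let P := polarO R (r := r) (by omega) (by omega) hnd (oe F W M r)
    (fun i _ => oe_snd hrM i) hz'
  have hS : Setting p P _ := setting_siegel hnd P₀ (P := P) rfl
  let A : Submodule F (((Fin M → F) × (Fin M → F)) × W) := P.E r ⊔ F ∙ oe F W M r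
  let B : Submodule F (((Fin M → F) × (Fin M → F)) × W) := P.E r ⊔ F ∙ of' F W M r
  have hEr : ∀ x ∈ P.E r, x.2 = 0 ∧ (∀ k : Fin M, x.1.2 k = 0) ∧ x.1.1 ⟨r, hrM⟩ = 0 := by
    intro x hx
    refine ⟨Subsingleton.elim _ _, fun k => ?_, ?_⟩
    · induction hx using Submodule.span_induction with
      | mem y hy =>
        obtain ⟨i, hi, rfl⟩ := hy
        exact oe_snd (show i < M from lt_trans hi hrM) k
      | zero => rfl
      | add a b _ _ ha hb => simp [ha, hb]
      | smul c a _ ha => simp [ha]
    · induction hx using Submodule.span_induction with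
      | mem y hy =>
        obtain ⟨i, hi, rfl⟩ := hy
        have hi' : i < r := hi
        rw [show P.e i = oe F W M i from rfl, oe_fst (show i < M by omega),
          if_neg (show ¬ r = i by omega)]
      | zero => rfl
      | add a b _ _ ha hb => simp [ha, hb]
      | smul c a _ ha => simp [ha]
  have hdec : ∀ x ∈ P.perp (P.E r),
      x - (x.1.1 ⟨r, hrM⟩ • oe F W M r + x.1.2 ⟨r, hrM⟩ • of' F W M r) ∈ P.E r := by
    intro x hx
    have hs : ∀ k : Fin M, k.val < r → x.1.2 k = 0 := fun k hk => by
      have h1 : polar (hypForm M R) x (oe F W M k) = 0 := P.mem_perp_E.1 hx k hk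
      rwa [polar_oe k.2] at h1
    refine mem_span_oe (Subsingleton.elim _ _) (fun k => ?_) fun k hk => ?_
    · rcases Nat.lt_or_ge k.val r with h | h
      · simp [oe_snd hrM, of_snd hrM, hs k h, show ¬ k.val = r by omega]
      · have : k = ⟨r, hrM⟩ := Fin.ext (show k.val = r by omega)
        subst this
        simp [oe_snd hrM, of_snd hrM]
    · have : k = ⟨r, hrM⟩ := Fin.ext (show k.val = r by have := k.2; omega)
      subst this
      simp [oe_fst hrM, of_fst hrM]
  have hQdec : ∀ x ∈ P.perp (P.E r), hypForm M R x = x.1.1 ⟨r, hrM⟩ * x.1.2 ⟨r, hrM⟩ := by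
    intro x hx
    rw [hypForm_apply, Finset.sum_eq_single (⟨r, hrM⟩ : Fin M) (fun k _ hk => ?_)
      (fun h => absurd (Finset.mem_univ _) h), Subsingleton.elim x.2 0, QuadraticMap.map_zero, add_zero]
    have hk' : k.val < r := by
      have : k.val ≠ r := fun e => hk (Fin.ext e)
      have := k.2
      omega
    have h1 : polar (hypForm M R) x (oe F W M k) = 0 := P.mem_perp_E.1 hx k hk'
    rw [polar_oe k.2] at h1
    rw [h1, mul_zero]
  have memA : ∀ x ∈ P.perp (P.E r), x.1.2 ⟨r, hrM⟩ = 0 → x ∈ A := by
    intro x hx h0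
    have h1 := hdec x hx
    rw [h0, zero_smul, add_zero] at h1
    exact Submodule.mem_sup.2 ⟨_, h1, _,
      Submodule.smul_mem _ _ (Submodule.mem_span_singleton_self _), sub_add_cancel _ _⟩
  have memB : ∀ x ∈ P.perp (P.E r), x.1.1 ⟨r, hrM⟩ = 0 → x ∈ B := by
    intro x hx h0
    have h1 := hdec x hx
    rw [h0, zero_smul, zero_add] at h1
    exact Submodule.mem_sup.2 ⟨_, h1, _,
      Submodule.smul_mem _ _ (Submodule.mem_span_singleton_self _), sub_add_cancel _ _⟩
  have he_perp : oe F W M r ∈ P.perp (P.E r) := P.mem_perp_E.2 fun j hj => by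
    show polar (hypForm M R) (oe F W M r) (oe F W M j) = 0
    rw [polar_oe (show j < M by omega), oe_snd hrM]
  have hf_perp : of' F W M r ∈ P.perp (P.E r) := P.mem_perp_E.2 fun j hj => by
    show polar (hypForm M R) (of' F W M r) (oe F W M j) = 0
    rw [polar_oe (show j < M by omega), of_snd hrM, if_neg (show ¬ j = r by omega)]
  have hsgsum : ∀ u, u ∈ P.perp (P.E r) → hypForm M R u = 0 → P.TS (P.E r ⊔ F ∙ u) := by
    intro u hu hQu
    have hu' : ∀ a ∈ P.E r, polar (hypForm M R) u a = 0 := fun a ha => P.mem_perp.1 hu a ha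
    refine ⟨fun x hx => P.mem_perp.2 fun a ha => ?_, fun x hx => ?_⟩
    · obtain ⟨x₀, hx₀, _, hc, rfl⟩ := Submodule.mem_sup.1 hx
      obtain ⟨s, rfl⟩ := Submodule.mem_span_singleton.1 hc
      obtain ⟨a₀, ha₀, _, hc', rfl⟩ := Submodule.mem_sup.1 ha
      obtain ⟨t, rfl⟩ := Submodule.mem_span_singleton.1 hc'
      show polar (hypForm M R) (x₀ + s • u) (a₀ + t • u) = 0
      have e1 : polar (hypForm M R) x₀ a₀ = 0 := P.mem_perp.1 ((P.ts_E le_rfl).1 hx₀) a₀ ha₀
      rw [polar_add_left, polar_add_right, polar_add_right, polar_smul_left, polar_smul_left,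
        polar_smul_right, polar_smul_right, e1, polar_singular_self hQu, polar_comm _ x₀ u,
        hu' x₀ hx₀, hu' a₀ ha₀]
      simp
    · obtain ⟨x₀, hx₀, _, hc, rfl⟩ := Submodule.mem_sup.1 hx
      obtain ⟨s, rfl⟩ := Submodule.mem_span_singleton.1 hc
      show hypForm M R (x₀ + s • u) = 0
      have e1 : hypForm M R x₀ = 0 := (P.ts_E le_rfl).2 x₀ hx₀
      rw [Q_comb1, e1, hQu, polar_comm _ x₀ u, hu' x₀ hx₀]
      ring
  have htsA : P.TS A := hsgsum _ he_perp (Q_oe r)
  have htsB : P.TS B := hsgsum _ hf_perp (Q_of r)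
  have top_cases : ∀ Z : Submodule F (((Fin M → F) × (Fin M → F)) × W), P.TS Z → P.E r ≤ Z → Z ≤ A ∨ Z ≤ B := by
    intro Z hZ hle
    have hZp : ∀ x ∈ Z, x ∈ P.perp (P.E r) := fun x hx =>
      P.mem_perp.2 fun a ha => P.mem_perp.1 (hZ.1 hx) a (hle ha)
    by_contra hcon
    rw [not_or, SetLike.not_le_iff_exists, SetLike.not_le_iff_exists] at hcon
    obtain ⟨⟨x, hx, hxA⟩, ⟨y, hy, hyB⟩⟩ := hcon
    have hsum : ∀ v ∈ Z, v.1.1 ⟨r, hrM⟩ * v.1.2 ⟨r, hrM⟩ = 0 := fun v hv => by
      rw [← hQdec v (hZp v hv)]; exact hZ.2 v hv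
    have hxb : x.1.2 ⟨r, hrM⟩ ≠ 0 := fun h0 => hxA (memA x (hZp x hx) h0)
    have hya : y.1.1 ⟨r, hrM⟩ ≠ 0 := fun h0 => hyB (memB y (hZp y hy) h0)
    have hxa := (mul_eq_zero.1 (hsum x hx)).resolve_right hxb
    have hyb := (mul_eq_zero.1 (hsum y hy)).resolve_left hya
    have h := hsum _ (Z.add_mem hx hy)
    simp [hxa, hyb, hxb, hya] at h
  have hfrEr : finrank F (P.E r) = r := by
    have key : ∀ i ≤ r, finrank F (P.E i) = i := by
      intro i hi
      induction i with
      | zero => rw [P.E_zero, finrank_bot]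
      | succ i ih =>
        have hne : P.e i ≠ 0 := fun h => P.pair i (show i < r by omega) (by rw [h, map_zero])
        have h1 := Submodule.finrank_sup_add_finrank_inf_eq (P.E i) (F ∙ P.e i)
        rw [← P.E_succ, ((Submodule.disjoint_span_singleton' hne).2
          (P.e_notMem (show i < r by omega))).eq_bot, finrank_bot, finrank_span_singleton hne,
          ih (by omega)] at h1
        omega
    exact key r le_rfl
  have hfrV : finrank F (((Fin M → F) × (Fin M → F)) × W) = 2 * (r + 1) := by
    show finrank F (((Fin M → F) × (Fin M → F)) × W) = _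
    rw [Module.finrank_prod, Module.finrank_prod, Module.finrank_fin_fun,
      Module.finrank_zero_of_subsingleton (R := F) (M := W)]
    omega
  have hfr_sup : ∀ u : (((Fin M → F) × (Fin M → F)) × W), u ∉ P.E r → finrank F ↥(P.E r ⊔ F ∙ u) = r + 1 := by
    intro u hu
    have hne : u ≠ 0 := fun h => hu (h ▸ Submodule.zero_mem _)
    have h1 := Submodule.finrank_sup_add_finrank_inf_eq (P.E r) (F ∙ u)
    rw [((Submodule.disjoint_span_singleton' hne).2 hu).eq_bot, finrank_bot,
      finrank_span_singleton hne, hfrEr] at h1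
    omega
  have he_not : oe F W M r ∉ P.E r := hz'
  have hf_not : of' F W M r ∉ P.E r := fun h => by
    have h1 := (hEr _ h).2.1 ⟨r, hrM⟩
    simp [of_snd hrM] at h1
  have hfrA : finrank F A = r + 1 := hfr_sup _ he_not
  have hfrB : finrank F B = r + 1 := hfr_sup _ hf_not
  have hhalfA : IsHalf (hypForm M R) A := ⟨htsA.2, by rw [hfrA, hfrV]⟩
  have hAB : A ⊓ B = P.E r := by
    refine le_antisymm (fun x hx => ?_) (le_inf le_sup_left le_sup_left)
    obtain ⟨x₀, hx₀, _, hc, rfl⟩ := Submodule.mem_sup.1 hx.1
    obtain ⟨s, rfl⟩ := Submodule.mem_span_singleton.1 hc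
    obtain ⟨y₀, hy₀, _, hc', he⟩ := Submodule.mem_sup.1 hx.2
    obtain ⟨t, rfl⟩ := Submodule.mem_span_singleton.1 hc'
    have h1 := congrArg (fun v : (((Fin M → F) × (Fin M → F)) × W) => v.1.1 ⟨r, hrM⟩) he
    simp [(hEr _ hx₀).2.2, (hEr _ hy₀).2.2, oe_fst hrM, of_fst hrM] at h1
    rw [← h1, zero_smul, add_zero]
    exact hx₀
  -- the two classes
  have hclassA : stab P.ρ (P.E r) ≤ stab P.ρ A := by
    intro g hg
    have hle : P.E r ≤ A.map (P.ρ g).toLinearMap := by
      conv_lhs => rw [← mem_stab.1 hg]
      exact Submodule.map_mono le_sup_left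
    have hfr : finrank F (A.map (P.ρ g).toLinearMap) = r + 1 :=
      (LinearEquiv.finrank_map_eq (P.ρ g) A).trans hfrA
    rcases top_cases _ (P.ts_map htsA g) hle with h | h
    · exact Submodule.eq_of_le_of_finrank_eq h (hfr.trans hfrA.symm)
    · exfalso
      have heq := Submodule.eq_of_le_of_finrank_eq h (hfr.trans hfrB.symm)
      have hp' := finrank_inf_map_parity hnd P₀ hhalfA g.2
      rw [show A.map (g : Orth (hypForm M R)).1.toLinearMap = A.map (P.ρ g).toLinearMap from rfl,
        heq, hAB, hfrEr, hfrA] at hp'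
      omega
  have hclassB : stab P.ρ (P.E r) ≤ stab P.ρ B := by
    intro g hg
    have hle : P.E r ≤ B.map (P.ρ g).toLinearMap := by
      conv_lhs => rw [← mem_stab.1 hg]
      exact Submodule.map_mono le_sup_left
    have hfr : finrank F (B.map (P.ρ g).toLinearMap) = r + 1 :=
      (LinearEquiv.finrank_map_eq (P.ρ g) B).trans hfrB
    rcases top_cases _ (P.ts_map htsB g) hle with h | h
    · exfalso
      have heq := Submodule.eq_of_le_of_finrank_eq h (hfr.trans hfrA.symm)
      rw [← mem_stab.1 (hclassA hg)] at heq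
      have h2 := Submodule.map_injective_of_injective (P.ρ g).injective heq
      rw [h2, inf_idem] at hAB
      rw [hAB, hfrEr] at hfrA
      omega
    · exact Submodule.eq_of_le_of_finrank_eq h (hfr.trans hfrB.symm)
  obtain ⟨U, hU, hUB⟩ := P.exists_sylow hS.inj
  let Ws : Fin (r - 1) ⊕ Bool → Submodule F (((Fin M → F) × (Fin M → F)) × W) :=
    Sum.elim (fun i => P.E (i.val + 1)) (fun b => if b then A else B)
  have hB0 : ∀ i ≤ r, (U : Subgroup _) ≤ stab P.ρ (P.E i) := fun i hi g hg =>
    P.mem_B₀.1 (hUB hg) i hi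
  have hlt : r - 1 < M := by omega
  -- elements moving exactly one of the two members at the top
  have hmove : ∀ (u : (((Fin M → F) × (Fin M → F)) × W)) (hu : polar (hypForm M R) (of' F W M (r - 1)) u = 0),
      (∀ k, k < r - 1 → polar (hypForm M R) (oe F W M k) u = 0) →
      polar (hypForm M R) (oe F W M (r - 1)) u = 0 →
      ∃ g : siegelGroup (hypForm M R),
        (∀ j ≤ r - 1, g ∈ stab P.ρ (P.E j)) ∧
        P.ρ g (oe F W M (r - 1)) =
          oe F W M (r - 1) + u + (-(hypForm M R u)) • of' F W M (r - 1) ∧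
        (∀ k, k < r - 1 → P.ρ g (oe F W M k) = oe F W M k) ∧
        (∀ x, polar (hypForm M R) x (of' F W M (r - 1)) = 0 → polar (hypForm M R) x u = 0 →
          P.ρ g x = x) := by
    intro u hu h1 h2
    let g : siegelGroup (hypForm M R) :=
      ⟨siegel (hypForm M R) _ u (Q_of (r - 1)) hu, siegel_mem (Q_of (r - 1)) hu⟩
    have hfix : ∀ x, polar (hypForm M R) x (of' F W M (r - 1)) = 0 →
        polar (hypForm M R) x u = 0 → P.ρ g x = x := fun x a b =>
      siegel_fix (Q_of (r - 1)) hu a b
    have hk : ∀ k, k < r - 1 → P.ρ g (oe F W M k) = oe F W M k := fun k hk => hfix _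
      (by rw [polar_of hlt, oe_fst (show k < M by omega), if_neg (show ¬ r - 1 = k by omega)])
      (h1 k hk)
    refine ⟨g, fun j hj => mem_stab_span ?_, ?_, hk, hfix⟩
    · rintro _ ⟨k, hk', rfl⟩
      have hk'' : k < j := hk'
      rw [show P.e k = oe F W M k from rfl, hk k (by omega)]
      exact Submodule.subset_span ⟨k, hk', rfl⟩
    · show (siegel (hypForm M R) _ u (Q_of (r - 1)) hu).1 (oe F W M (r - 1)) = _
      rw [siegel_apply, polar_of hlt, oe_fst hlt, if_pos rfl, h2]
      simp
  have hfam : Family ((U : Subgroup _).map (QuotientGroup.mk' (Subgroup.center _)))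
      fun i => (stab P.ρ (Ws i)).map (QuotientGroup.mk' (Subgroup.center _)) := by
    refine hS.family Ws U hU ?_ ?_ ?_
    · rintro (i | b)
      · exact hB0 _ (by have := i.2; omega)
      · cases b
        · exact (hB0 r le_rfl).trans hclassB
        · exact (hB0 r le_rfl).trans hclassA
    · intro Z hne hts hinv
      rcases P.classify hinv hts with ⟨i, hi, rfl⟩ | hlt'
      · rcases Nat.eq_zero_or_pos i with rfl | hpos
        · exact absurd P.E_zero hne
        rcases Nat.lt_or_ge i r with hir | hir
        · refine ⟨Sum.inl ⟨i - 1, by omega⟩, ?_⟩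
          show stab P.ρ (P.E i) ≤ stab P.ρ (P.E (i - 1 + 1))
          rw [Nat.sub_add_cancel hpos]
        · refine ⟨Sum.inr true, ?_⟩
          have hir' : i = r := le_antisymm hi hir
          subst hir'
          exact hclassA
      · have hlt'' : P.E r < Z := hlt'
        have hfr : r < finrank F Z := hfrEr ▸ Submodule.finrank_lt_finrank_of_lt hlt''
        rcases top_cases Z hts hlt''.le with h | h
        · refine ⟨Sum.inr true, le_of_eq ?_⟩
          rw [Submodule.eq_of_le_of_finrank_le h (by rw [hfrA]; omega)]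
          rfl
        · refine ⟨Sum.inr false, le_of_eq ?_⟩
          rw [Submodule.eq_of_le_of_finrank_le h (by rw [hfrB]; omega)]
          rfl
    · rintro (i | b)
      · have hi1 : i.val + 1 < P.r := by have := i.2; show i.val + 1 < r; omega
        obtain ⟨g, hg, hg', hfix⟩ := exists_move (P := P) hi1
        refine ⟨g, hg, ?_⟩
        have hgr : g ∈ stab P.ρ (P.E r) := hg' r (Ne.symm (Nat.ne_of_lt hi1)) le_rfl
        rintro (j | b) hne
        · exact hg' _ (fun e => hne (by rw [show j = i from Fin.ext (Nat.succ_injective e)]))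
            (show j.val + 1 ≤ r by have := j.2; omega)
        · cases b
          · exact hclassB hgr
          · exact hclassA hgr
      · cases b
        · -- move `B`
          have hu : polar (hypForm M R) (of' F W M (r - 1)) (oe F W M r) = 0 := by
            rw [polar_oe hrM, of_snd hlt, if_neg (show ¬ r = r - 1 by omega)]
          obtain ⟨g, hg, hge, hgk, hgfix⟩ := hmove (oe F W M r) hu
            (fun k hk => by rw [polar_oe hrM, oe_snd (show k < M by omega)])
            (by rw [polar_oe hrM, oe_snd hlt])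
          rw [Q_oe, neg_zero, zero_smul, add_zero] at hge
          refine ⟨g, fun hm => ?_, ?_⟩
          · have h1 := stab_apply_mem hm (Submodule.mem_sup_left
              (P.e_mem (i := r) (show r - 1 < r by omega)) : oe F W M (r - 1) ∈ B)
            rw [hge] at h1
            obtain ⟨x₀, hx₀, _, hc, he⟩ := Submodule.mem_sup.1 h1
            obtain ⟨t, rfl⟩ := Submodule.mem_span_singleton.1 hc
            have h2 := congrArg (fun v : (((Fin M → F) × (Fin M → F)) × W) => v.1.1 ⟨r, hrM⟩) he
            simp [(hEr _ hx₀).2.2, oe_fst hrM, of_fst hrM, oe_fst hlt,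
              show ¬ r = r - 1 by omega] at h2
          · rintro (j | b) hne
            · exact hg _ (by have := j.2; omega)
            · cases b
              · exact absurd rfl hne
              · refine mem_stab_of fun x hx => ?_
                obtain ⟨x₀, hx₀, _, hc, rfl⟩ := Submodule.mem_sup.1 hx
                obtain ⟨t, rfl⟩ := Submodule.mem_span_singleton.1 hc
                have hfe : P.ρ g (oe F W M r) = oe F W M r := hgfix _
                  (by rw [polar_of hlt, oe_fst hrM, if_neg (show ¬ r - 1 = r by omega)])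
                  (by rw [polar_oe hrM, oe_snd hrM])
                rw [map_add, map_smul, hfe]
                refine Submodule.add_mem _ ?_
                  (Submodule.mem_sup_right (Submodule.smul_mem _ _ (Submodule.mem_span_singleton_self _)))
                have hle : P.E r ≤ A.comap (P.ρ g).toLinearMap := by
                  refine Submodule.span_le.2 ?_
                  rintro _ ⟨k, hk, rfl⟩
                  have hk' : k < r := hk
                  show P.ρ g (oe F W M k) ∈ A
                  rcases Nat.lt_or_ge k (r - 1) with h | h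
                  · rw [hgk k h]
                    exact Submodule.mem_sup_left (P.e_mem hk')
                  · rw [show k = r - 1 by omega, hge]
                    exact Submodule.add_mem_sup (P.e_mem (show r - 1 < r by omega))
                      (Submodule.mem_span_singleton_self _)
                exact hle hx₀
        · -- move `A`
          have hu : polar (hypForm M R) (of' F W M (r - 1)) (of' F W M r) = 0 := by
            rw [polar_of hrM, of_fst hlt]
          obtain ⟨g, hg, hge, hgk, hgfix⟩ := hmove (of' F W M r) hu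
            (fun k hk => by
              rw [polar_of hrM, oe_fst (show k < M by omega), if_neg (show ¬ r = k by omega)])
            (by rw [polar_of hrM, oe_fst hlt, if_neg (show ¬ r = r - 1 by omega)])
          rw [Q_of, neg_zero, zero_smul, add_zero] at hge
          refine ⟨g, fun hm => ?_, ?_⟩
          · have h1 := stab_apply_mem hm (Submodule.mem_sup_left
              (P.e_mem (i := r) (show r - 1 < r by omega)) : oe F W M (r - 1) ∈ A)
            rw [hge] at h1
            obtain ⟨x₀, hx₀, _, hc, he⟩ := Submodule.mem_sup.1 h1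
            obtain ⟨t, rfl⟩ := Submodule.mem_span_singleton.1 hc
            have h2 := congrArg (fun v : (((Fin M → F) × (Fin M → F)) × W) => v.1.2 ⟨r, hrM⟩) he
            simp [(hEr _ hx₀).2.1, oe_snd hrM, of_snd hrM, oe_snd hlt] at h2
          · rintro (j | b) hne
            · exact hg _ (by have := j.2; omega)
            · cases b
              · refine mem_stab_of fun x hx => ?_
                obtain ⟨x₀, hx₀, _, hc, rfl⟩ := Submodule.mem_sup.1 hx
                obtain ⟨t, rfl⟩ := Submodule.mem_span_singleton.1 hc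
                have hfe : P.ρ g (of' F W M r) = of' F W M r := hgfix _
                  (by rw [polar_of hlt, of_fst hrM]) (by rw [polar_of hrM, of_fst hrM])
                rw [map_add, map_smul, hfe]
                refine Submodule.add_mem _ ?_
                  (Submodule.mem_sup_right (Submodule.smul_mem _ _ (Submodule.mem_span_singleton_self _)))
                have hle : P.E r ≤ B.comap (P.ρ g).toLinearMap := by
                  refine Submodule.span_le.2 ?_
                  rintro _ ⟨k, hk, rfl⟩
                  have hk' : k < r := hk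
                  show P.ρ g (oe F W M k) ∈ B
                  rcases Nat.lt_or_ge k (r - 1) with h | h
                  · rw [hgk k h]
                    exact Submodule.mem_sup_left (P.e_mem hk')
                  · rw [show k = r - 1 by omega, hge]
                    exact Submodule.add_mem_sup (P.e_mem (show r - 1 < r by omega))
                      (Submodule.mem_span_singleton_self _)
                exact hle hx₀
              · exact absurd rfl hne
  obtain ⟨U', hU'⟩ := hS.exists_image U
  have : Nonempty (Fin (r - 1) ⊕ Bool) := ⟨Sum.inr true⟩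
  refine ⟨U', hU' ▸ hfam.sep, Or.inl (hU' ▸ ?_)⟩
  exact hfam.apart (i := Sum.inl ⟨0, by omega⟩) (j := Sum.inl ⟨1, by omega⟩)
    (hS.card_point_ne_line hr)

omit [Finite W] [FiniteDimensional F W] in
theorem geo_pomega_odd {m : ℕ} [Fintype F] (hm : 3 ≤ m) (h2 : (2 : F) ≠ 0) (rk exc : Prop) :
    Geo p (Cfsg.POmega F (Cfsg.quadFormOdd m F)) rk exc := by
  have hnd := ndPolar_hypForm (ndPolar_lineForm h2) m
  let P₀ := hypFrameKernel (R := lineForm F) (m := m) (by omega) (fun _ => 1) (by simp [lineForm_apply])
  have := finite_gl (F := F) (W := Unit → F) (M := m)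
  have e := pomegaEquiv (oddEquiv m F) (oddEquiv_spec m) hnd P₀
  have : Finite (Cfsg.POmega F (Cfsg.quadFormOdd m F)) := Finite.of_equiv _ e.toEquiv.symm
  refine Geo.of_mulEquiv (geo_siegel_kernel hm hnd P₀ (fun w hw => ?_) rk exc) e.symm
  funext i
  rw [lineForm_apply, mul_self_eq_zero] at hw
  exact hw

omit [Finite W] [FiniteDimensional F W] in
theorem geo_pomega_plus {m : ℕ} [Fintype F] (hm : 4 ≤ m) (rk exc : Prop) :
    Geo p (Cfsg.POmega F (Cfsg.quadFormPlus m F)) rk exc := by
  have hnd := ndPolar_hypForm (ndPolar_zeroKernel (F := F)) m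
  let P₀ := hypFrameThree (zeroKernel F) (m := m) (by omega)
  have := finite_gl (F := F) (W := Fin 0 → F) (M := m)
  have e := pomegaEquiv (plusEquiv m F) (plusEquiv_spec m) hnd P₀
  have : Finite (Cfsg.POmega F (Cfsg.quadFormPlus m F)) := Finite.of_equiv _ e.toEquiv.symm
  exact Geo.of_mulEquiv
    (geo_siegel_plus (r := m - 1) (by omega) (by omega) hnd P₀ rk exc) e.symm

omit [Finite W] [FiniteDimensional F W] in
theorem geo_pomega_minus {m : ℕ} [Fintype F] {a b : F} (hm : 4 ≤ m) (hab : IsAniso a b)
    (rk exc : Prop) :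
    Geo p (Cfsg.POmega F (Cfsg.quadFormMinus (m - 1) F a b)) rk exc := by
  have hnd := ndPolar_hypForm (ndPolar_binForm hab) (m - 1)
  let P₀ := hypFrameKernel (R := binForm a b) (m := m - 1) (by omega) ![1, 0] (by simp [binForm_apply])
  have := finite_gl (F := F) (W := Fin 2 → F) (M := m - 1)
  have e := pomegaEquiv (minusEquiv (m - 1) F) (minusEquiv_spec (m - 1) a b) hnd P₀
  have : Finite (Cfsg.POmega F (Cfsg.quadFormMinus (m - 1) F a b)) :=
    Finite.of_equiv _ e.toEquiv.symm
  exact Geo.of_mulEquiv
    (geo_siegel_kernel (by omega) hnd P₀ (fun w hw => binForm_eq_zero hab hw) rk exc) e.symm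

end CfsgLib.PMinimalLie
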