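import Cfsg.Agent.Lib.PMinimalLie.Family
import Cfsg.Agent.Lib.SylowOver.Small
import Cfsg.Agent.Lib.UnitaryThreeThree.Group
import Cfsg.Agent.Lib.Transfer.PGroup

/-!
The small groups: `A₆` and `PSU₃(3)` for `p = 2`, `PSL₂(8)` for `p = 3`.
-/

set_option autoImplicit false

namespace CfsgLib.PMinimalLie

open CfsgLib.SylowOver

/-- Two proper overgroups of `U` generating everything, invariant under the automorphisms fixing
`U`. -/
def Split {K : Type*} [Group K] (U : Subgroup K) : Prop :=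
  ∃ A B, A ≠ ⊤ ∧ B ≠ ⊤ ∧ U ≤ A ∧ U ≤ B ∧ A ⊔ B = ⊤ ∧
    ∀ α : MulAut K, U.map α.toMonoidHom = U → A.map α.toMonoidHom = A ∧ B.map α.toMonoidHom = B

theorem Split.map {K H : Type*} [Group K] [Group H] (e : K ≃* H) {U : Subgroup K} (h : Split U) :
    Split (U.map e.toMonoidHom) := by
  obtain ⟨A, B, hA, hB, hUA, hUB, hAB, hinv⟩ := h
  have hi : Function.Injective (Subgroup.map e.toMonoidHom) :=
    Subgroup.map_injective (f := e.toMonoidHom) e.injective
  have htop : (⊤ : Subgroup K).map e.toMonoidHom = ⊤ :=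
    Subgroup.map_top_of_surjective _ e.surjective
  refine ⟨_, _, fun h => hA (hi (h.trans htop.symm)), fun h => hB (hi (h.trans htop.symm)),
    Subgroup.map_mono hUA, Subgroup.map_mono hUB, by rw [← Subgroup.map_sup, hAB, htop], fun α hU => ?_⟩
  let β : MulAut K := e.trans (α.trans e.symm)
  have key : ∀ C : Subgroup K,
      (C.map β.toMonoidHom).map e.toMonoidHom = (C.map e.toMonoidHom).map α.toMonoidHom := fun C => by
    rw [Subgroup.map_map, Subgroup.map_map]
    congr 1
    ext x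
    exact e.apply_symm_apply _
  obtain ⟨h1, h2⟩ := hinv β (hi (by rw [key, hU]))
  exact ⟨by rw [← key, h1], by rw [← key, h2]⟩

theorem split_forall_sylow {K H : Type*} [Group K] [Finite K] [Group H] [Finite H] {p : ℕ}
    [Fact p.Prime] (h : ∃ U : Sylow p K, Split (U : Subgroup K)) (e : K ≃* H) (U : Sylow p H) :
    Split (U : Subgroup H) := by
  obtain ⟨U₀, h⟩ := h
  let U₁ : Sylow p H := U₀.mapSurjective (f := e.toMonoidHom) e.surjective
  obtain ⟨g, hg⟩ := MulAction.exists_smul_eq H U₁ U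
  have hU : (U₀ : Subgroup K).map (e.trans (MulAut.conj g)).toMonoidHom = (U : Subgroup H) := by
    rw [← hg, Sylow.coe_subgroup_smul, Subgroup.pointwise_smul_def]
    show _ = ((U₀ : Subgroup K).map e.toMonoidHom).map (MulAut.conj g).toMonoidHom
    rw [Subgroup.map_map]
    rfl
  exact hU ▸ h.map _

theorem split_false {X : Type*} [Group X] [Finite X] {p : ℕ} [Fact p.Prime]
    (hX : Cfsg.IsPMinimal p X) (N : Subgroup X) [N.Normal] (hs : IsSimpleGroup N) (hp : p ∣ Nat.card N)
    (U : Sylow p N)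
    (h : Split (U : Subgroup N)) : False := by
  obtain ⟨A, B, hA, hB, hUA, hUB, hAB, hinv⟩ := h
  set U' : Subgroup X := (U : Subgroup N).map N.subtype with hU'
  obtain ⟨S, hS⟩ := (U.isPGroup'.map N.subtype : IsPGroup p U').exists_le_sylow
  have hSU : ∀ (x : X) (hx : x ∈ N), x ∈ (S : Subgroup X) → (⟨x, hx⟩ : N) ∈ (U : Subgroup N) := by
    intro x hx hxS
    rw [← U.is_maximal' (S.isPGroup'.comap_of_injective _ N.subtype_injective)
      (fun u hu => hS ⟨u, hu, rfl⟩ : (U : Subgroup N) ≤ (S : Subgroup X).subgroupOf N)]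
    exact hxS
  obtain ⟨-, M, ⟨hMc, hSM⟩, hMu⟩ := hX S
  set Nm := Subgroup.normalizer (U' : Set X) with hNm
  have hconj : ∀ t ∈ (S : Subgroup X), ∀ u ∈ (U : Subgroup N),
      (MulAut.conjNormal t : MulAut N) u ∈ (U : Subgroup N) := by
    intro t ht u hu
    refine hSU _ ((MulAut.conjNormal t : MulAut N) u).2 ?_
    rw [MulAut.conjNormal_apply]
    exact mul_mem (mul_mem ht (hS ⟨u, hu, rfl⟩)) (inv_mem ht)
  have hfix : ∀ s ∈ (S : Subgroup X),
      (U : Subgroup N).map (MulAut.conjNormal s : MulAut N).toMonoidHom = U := by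
    intro s hs
    refine le_antisymm (fun y ⟨u, hu, e⟩ => e ▸ hconj s hs u hu) fun u hu => ?_
    refine ⟨_, hconj s⁻¹ (inv_mem hs) u hu, ?_⟩
    show (MulAut.conjNormal s : MulAut N) ((MulAut.conjNormal s⁻¹ : MulAut N) u) = u
    rw [← MulAut.mul_apply, ← map_mul, mul_inv_cancel, map_one]
    rfl
  have hAM := overgroup_le hSU hMu hA hUA fun s hs => (hinv _ (hfix s hs)).1
  have hBM := overgroup_le hSU hMu hB hUB fun s hs => (hinv _ (hfix s hs)).2
  have hNM : N ≤ M := Subgroup.subgroupOf_eq_top.1 (top_le_iff.1 (hAB ▸ sup_le hAM hBM))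
  have hSNm : (S : Subgroup X) ≤ Nm := by
    intro s hs
    rw [hNm, Subgroup.mem_normalizer_iff]
    have key : ∀ t ∈ (S : Subgroup X), ∀ x ∈ U', t * x * t⁻¹ ∈ U' := by
      rintro t ht _ ⟨u, hu, rfl⟩
      exact ⟨_, hconj t ht u hu, by simp⟩
    refine fun x => ⟨key s hs x, fun hx => ?_⟩
    simpa [mul_assoc] using key s⁻¹ (inv_mem hs) _ hx
  have hfrat : Nm ⊔ N = ⊤ := Sylow.normalizer_sup_eq_top U
  rcases eq_top_or_exists_le_coatom Nm with h0 | ⟨C, hC, hle⟩
  · -- `U` would be normal in `N`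
    have hUn : U'.Normal := Subgroup.normalizer_eq_top_iff.1 (hNm ▸ h0)
    have hUnN : (U : Subgroup N).Normal := ⟨fun u hu k => by
      obtain ⟨v, hv, e⟩ := hUn.conj_mem _ ⟨u, hu, rfl⟩ (k : X)
      rwa [show k * u * k⁻¹ = v from Subtype.ext (e.trans (by simp)).symm]⟩
    rcases hs.eq_bot_or_eq_top_of_normal _ hUnN with h1 | h1
    · have h2 := U.not_dvd_index
      rw [h1, Subgroup.index_bot] at h2
      exact h2 hp
    · exact hA (top_le_iff.1 (h1 ▸ hUA))
  · have hNmM : Nm ≤ M := (hMu C ⟨hC, hSNm.trans hle⟩) ▸ hle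
    exact hMc.1 (top_le_iff.1 (hfrat ▸ sup_le hNmM hNM))

/-- A proper overgroup of a Sylow subgroup normalises a non-trivial subgroup of it. -/
theorem exists_normal_le {G : Type*} [Group G] [Finite G] {p : ℕ} [Fact p.Prime]
    (hG : NoProperCoreFree p G) (U : Sylow p G) {M : Subgroup G} (hM : M ≠ ⊤)
    (hUM : (U : Subgroup G) ≤ M) :
    ∃ R : Subgroup G, R ≤ (U : Subgroup G) ∧ R ≠ ⊥ ∧ ∀ m ∈ M, ∀ r ∈ R, m * r * m⁻¹ ∈ R := by
  have hidx : ¬ p ∣ M.index := fun h => U.not_dvd_index (h.trans (Subgroup.index_dvd_of_le hUM))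
  have hne : Cfsg.pCore p ↥M ≠ ⊥ := fun h => hM (hG M h hidx)
  have hn : (Cfsg.pCore p ↥M).Normal := CfsgLib.Solvable.pCore_normal p ↥M
  have hp := CfsgLib.Solvable.pCore_isPGroup p ↥M
  refine ⟨(Cfsg.pCore p ↥M).map M.subtype, ?_, ?_, ?_⟩
  · have hU : IsPGroup p ((U : Subgroup G).subgroupOf M) :=
      U.isPGroup'.comap_of_injective _ M.subtype_injective
    have h1 : IsPGroup p (((U : Subgroup G).subgroupOf M ⊔ Cfsg.pCore p ↥M).map M.subtype) :=
      (IsPGroup.to_sup_of_normal_right hU hp).map _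
    have h2 := U.is_maximal' h1 (fun u hu => ⟨⟨u, hUM hu⟩, Subgroup.mem_sup_left hu, rfl⟩)
    exact (Subgroup.map_mono le_sup_right).trans h2.le
  · exact fun h => hne ((Subgroup.map_eq_bot_iff_of_injective _ M.subtype_injective).1 h)
  · rintro m hm _ ⟨r, hr, rfl⟩
    exact ⟨_, hn.conj_mem r hr ⟨m, hm⟩, rfl⟩

/-- The centre of a `p`-group meets its normal subgroups. -/
theorem mem_of_center_two {G : Type*} [Group G] [Finite G] {p : ℕ} [Fact p.Prime] {U R : Subgroup G}
    (hU : IsPGroup p U) {z : G} (hZ : ∀ r ∈ U, (∀ u ∈ U, u * r = r * u) → r = 1 ∨ r = z ∨ r * r = z)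
    (hR : R ≤ U) (hne : R ≠ ⊥) (hn : ∀ u ∈ U, ∀ r ∈ R, u * r * u⁻¹ ∈ R) : z ∈ R := by
  have : Group.IsNilpotent U := hU.isNilpotent
  have hN : (R.subgroupOf U).Normal := ⟨fun r hr u => hn u u.2 r hr⟩
  have h0 : R.subgroupOf U ≠ ⊥ := by
    rw [Ne, Subgroup.subgroupOf_eq_bot, disjoint_iff, inf_eq_left.2 hR]
    exact hne
  obtain ⟨⟨r, hr⟩, hrR, hr1⟩ :=
    Subgroup.bot_or_exists_ne_one (R.subgroupOf U ⊓ Subgroup.center U) |>.resolve_left
      (CfsgLib.Transfer.inf_center_ne_bot h0)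
  rcases hZ r hr (fun u hu => congrArg Subtype.val
    (Subgroup.mem_center_iff.1 hrR.2 ⟨u, hu⟩)) with h | h | h
  · exact absurd (Subtype.ext h) hr1
  · exact h ▸ hrR.1
  · exact h ▸ mul_mem (show r ∈ R from hrR.1) hrR.1

/-! ### `A₆` -/

namespace AltSix

/-- The block of a point. -/
def half (i : Fin 6) : ℕ := i.val / 2

/-- The stabilizer of the last block. -/
def Q₁ : Subgroup (alternatingGroup (Fin 6)) where
  carrier := {x | ∀ i, half ((x : Equiv.Perm (Fin 6)) i) = 2 ↔ half i = 2}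
  one_mem' := fun _ => Iff.rfl
  mul_mem' {a b} ha hb := fun i => (ha _).trans (hb i)
  inv_mem' {a} ha := fun i => by
    have h := ha ((a : Equiv.Perm (Fin 6))⁻¹ i)
    rw [Equiv.Perm.inv_def, Equiv.apply_symm_apply] at h
    exact h.symm

/-- The stabilizer of the partition into blocks. -/
def Q₂ : Subgroup (alternatingGroup (Fin 6)) where
  carrier := {x | ∀ i j, half ((x : Equiv.Perm (Fin 6)) i) = half ((x : Equiv.Perm (Fin 6)) j) ↔
    half i = half j}
  one_mem' := fun _ _ => Iff.rfl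
  mul_mem' {a b} ha hb := fun i j => (ha _ _).trans (hb i j)
  inv_mem' {a} ha := fun i j => by
    have h := ha ((a : Equiv.Perm (Fin 6))⁻¹ i) ((a : Equiv.Perm (Fin 6))⁻¹ j)
    rw [Equiv.Perm.inv_def, Equiv.apply_symm_apply, Equiv.apply_symm_apply] at h
    exact h.symm

instance : DecidablePred (· ∈ Q₁) := fun x =>
  decidable_of_iff (∀ i, half ((x : Equiv.Perm (Fin 6)) i) = 2 ↔ half i = 2) Iff.rfl

instance : DecidablePred (· ∈ Q₂) := fun x =>
  decidable_of_iff (∀ i j, half ((x : Equiv.Perm (Fin 6)) i) = half ((x : Equiv.Perm (Fin 6)) j) ↔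
    half i = half j) Iff.rfl

/-- The central involution. -/
def z : alternatingGroup (Fin 6) :=
  ⟨Equiv.swap 0 1 * Equiv.swap 2 3, Equiv.Perm.mem_alternatingGroup.2 (by decide)⟩

theorem data : (Finset.univ.filter fun x : alternatingGroup (Fin 6) => x ∈ Q₁ ∧ x ∈ Q₂).card = 8 ∧
    (∀ r, r ∈ Q₁ → r ∈ Q₂ → (∀ u, u ∈ Q₁ → u ∈ Q₂ → u * r = r * u) → r = 1 ∨ r = z) ∧
    (∀ x, x * z * x⁻¹ ∈ Q₁ → x * z * x⁻¹ ∈ Q₂ → x ∈ Q₁ ∨ x ∈ Q₂) ∧
    (∃ x, x ∈ Q₁ ∧ x ∉ Q₂) ∧ ∃ x, x ∈ Q₂ ∧ x ∉ Q₁ := by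
  decide +kernel

end AltSix

open AltSix in
theorem geo_altSix (rk : Prop) {exc : Prop} (hexc : exc) :
    Geo 2 (alternatingGroup (Fin 6)) rk exc := by
  classical
  have : Fact (Nat.Prime 2) := ⟨Nat.prime_two⟩
  obtain ⟨h8, hZ, hz, ⟨x₁, hx₁, hx₁'⟩, x₂, hx₂, hx₂'⟩ := AltSix.data
  have hc : Nat.card (alternatingGroup (Fin 6)) = 360 := by
    rw [nat_card_alternatingGroup, Nat.card_fin]; rfl
  let U₀ : Subgroup (alternatingGroup (Fin 6)) := Q₁ ⊓ Q₂
  have hU₀ : Nat.card U₀ = 2 ^ 3 := by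
    rw [show (2 : ℕ) ^ 3 = 8 by norm_num, ← h8, Nat.card_eq_fintype_card, Fintype.card_subtype]
    congr 1
    ext x
    simp [U₀, Subgroup.mem_inf]
  have hi : ¬ 2 ∣ U₀.index := by
    have h := U₀.card_mul_index
    rw [hU₀, hc] at h
    omega
  let U : Sylow 2 (alternatingGroup (Fin 6)) := (IsPGroup.of_card hU₀).toSylow hi
  let Q : Bool → Subgroup (alternatingGroup (Fin 6)) := fun b => cond b Q₁ Q₂
  have hfam : Family (U : Subgroup _) Q := by
    refine ⟨fun b => ?_, fun M hM hUM => ?_, fun b => ?_⟩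
    · cases b
      · exact inf_le_right
      · exact inf_le_left
    · obtain ⟨R, hRU, hR, hn⟩ := exists_normal_le noProperCoreFree_altSix U hM hUM
      have hzR : z ∈ R := mem_of_center_two U.isPGroup'
        (fun r hr h => (hZ r hr.1 hr.2 fun u hu hu' => h u ⟨hu, hu'⟩).imp_right Or.inl) hRU hR
        (fun u hu r hr => hn u (hUM hu) r hr)
      have hmem : ∀ m ∈ M, m ∈ Q₁ ∨ m ∈ Q₂ := fun m hm =>
        hz m (hRU (hn m hm z hzR)).1 (hRU (hn m hm z hzR)).2
      by_cases h1 : M ≤ Q₁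
      · exact ⟨true, h1⟩
      · refine ⟨false, fun m hm => ?_⟩
        obtain ⟨n, hn', hn₁⟩ := SetLike.not_le_iff_exists.1 h1
        have hn₂ : n ∈ Q₂ := (hmem n hn').resolve_left hn₁
        rcases hmem m hm with h | h
        · rcases hmem _ (mul_mem hm hn') with g | g
          · exact absurd ((Q₁.mul_mem_cancel_left h).1 g) hn₁
          · exact (Q₂.mul_mem_cancel_right hn₂).1 g
        · exact h
    · cases b
      · exact ⟨x₁, hx₁', fun j hj => by cases j <;> simp at hj <;> exact hx₁⟩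
      · exact ⟨x₂, hx₂', fun j hj => by cases j <;> simp at hj <;> exact hx₂⟩
  refine ⟨U, hfam.sep, Or.inr ⟨hfam.infLe fun x hx => Subgroup.le_normalizer ⟨hx true, hx false⟩,
    Or.inr ⟨hfam.twoOver (a := true) (b := false) (by simp) (by simp), fun _ => hexc⟩⟩⟩

/-! ### `PSL₂(8)` -/

theorem geo_of_card_504 {G : Type*} [Group G] [Finite G] [Fact (Nat.Prime 3)]
    (hG : IsSimpleGroup G) (hc : Nat.card G = 504) (hfree : NoProperCoreFree 3 G)
    {rk : Prop} (hrk : rk) (exc : Prop) : Geo 3 G rk exc := by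
  have : Fact (Nat.Prime 7) := ⟨by norm_num⟩
  have := hG
  obtain ⟨U⟩ := (inferInstance : Nonempty (Sylow 3 G))
  obtain ⟨h9, hcomm, hN, -⟩ := CfsgLib.SmallPSL.sylow_three hc U
  have hne : Subgroup.normalizer ((U : Subgroup G) : Set G) ≠ ⊤ := fun h => by
    rw [h, Subgroup.card_top, hc, h9] at hN
    omega
  have hfam : Family (U : Subgroup G) fun _ : Unit => Subgroup.normalizer ((U : Subgroup G) : Set G) := by
    refine ⟨fun _ => Subgroup.le_normalizer, fun M hM hUM => ⟨(), fun m hm => ?_⟩, fun _ => ?_⟩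
    · obtain ⟨R, hRU, hR, hn⟩ := exists_normal_le hfree U hM hUM
      obtain ⟨r, hr, hr1⟩ := (Subgroup.bot_or_exists_ne_one R).resolve_left hR
      have key : ∀ m ∈ M, ∀ u ∈ (U : Subgroup G), m * u * m⁻¹ ∈ (U : Subgroup G) := by
        intro m hm u hu
        have hm' : m⁻¹ * r * m ∈ (U : Subgroup G) := hRU (by simpa using hn m⁻¹ (inv_mem hm) r hr)
        refine CfsgLib.SmallPSL.centralizer_le_three hc U (hRU hr) hr1 ?_
        rw [Subgroup.mem_centralizer_singleton_iff]
        have h : u * (m⁻¹ * r * m) = (m⁻¹ * r * m) * u :=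
          congrArg Subtype.val (hcomm.is_comm.comm ⟨u, hu⟩ ⟨_, hm'⟩)
        calc m * u * m⁻¹ * r = m * (u * (m⁻¹ * r * m)) * m⁻¹ := by group
          _ = m * ((m⁻¹ * r * m) * u) * m⁻¹ := by rw [h]
          _ = r * (m * u * m⁻¹) := by group
      rw [Subgroup.mem_normalizer_iff]
      refine fun u => ⟨key m hm u, fun h => ?_⟩
      simpa [mul_assoc] using key m⁻¹ (inv_mem hm) _ h
    · by_contra h
      push Not at h
      refine hne (eq_top_iff.2 fun x _ => ?_)
      by_contra hx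
      obtain ⟨j, hj, -⟩ := h x hx
      exact hj rfl
  exact ⟨U, hfam.sep, Or.inr ⟨hfam.infLe fun x hx => hx (), Or.inl hrk⟩⟩

theorem geo_pslTwoEight {F : Type*} [Field F] [Fintype F] [Fact (Nat.Prime 3)]
    (hF : Fintype.card F = 8) {rk : Prop} (hrk : rk) (exc : Prop) :
    Geo 3 (Matrix.ProjectiveSpecialLinearGroup (Fin 2) F) rk exc := by
  classical
  have hs : IsSimpleGroup (Matrix.ProjectiveSpecialLinearGroup (Fin 2) F) :=
    CfsgLib.Linear.isSimpleGroup_PSL_fin 2 le_rfl fun _ => by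
      rw [Nat.card_eq_fintype_card, hF]; norm_num
  have hc : Nat.card (Matrix.ProjectiveSpecialLinearGroup (Fin 2) F) = 504 := by
    have h := CfsgLib.Linear.card_PSL_mul (F := F) (n := Fin 2)
    rw [CfsgLib.Linear.card_SL_two, hF, Fintype.card_fin] at h
    norm_num at h
    simp only [← Nat.card_eq_fintype_card] at h
    exact h
  exact geo_of_card_504 hs hc (noProperCoreFree_pslTwoEight hF) hrk exc

/-! ### `PSU₃(3)` -/

namespace UnitaryThree

open CfsgLib.UThree

local instance decM3 : DecidableEq M3 := inferInstance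

/-- Numbers of the elements of a Sylow subgroup. -/
def uList : List ℕ := [580, 2160, 576, 1374, 2165, 2166, 581, 4106, 1370, 1369, 2161, 2162, 577, 4119,
  4109, 1383, 1372, 2164, 1373, 2175, 579, 4107, 4105, 1371, 4104, 1368, 2163, 582, 4110, 591, 4108, 578]

/-- The product of two numbers. -/
def mulI (i j : ℕ) : M3 := mulM (eltc i) (eltc j)

theorem u_lt : ∀ i ∈ uList, i < 6048 := by decide +kernel

theorem u_mul : ∀ i ∈ uList, ∀ j ∈ uList, ∃ k ∈ uList, mulI i j = eltc k := by decide +kernel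

theorem u_inv : ∀ i ∈ uList, ∃ k ∈ uList, mulI i k = eltc 580 := by decide +kernel

theorem u_one : eltc 580 = ((1, 0, 0), (0, 1, 0), (0, 0, 1)) := by decide +kernel

theorem u_nodup : uList.Nodup ∧ uList.length = 32 := by decide +kernel

theorem u_center : ∀ r ∈ uList, (∀ u ∈ uList, mulI u r = mulI r u) →
    r = 580 ∨ r = 581 ∨ mulI r r = eltc 581 := by
  decide +kernel

theorem u_four : ∀ r ∈ uList, r ≠ 580 → mulI r r = eltc 580 → r ≠ 581 →
    (∀ u ∈ uList, mulI u r = mulI r u ∨ mulI u r = mulM (mulI 581 r) (eltc u)) →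
    r = 1372 ∨ r = 1373 := by
  decide +kernel

theorem u_four' : mulI 1372 1372 = eltc 580 ∧ mulI 1373 1373 = eltc 580 ∧
    mulI 581 1372 = eltc 1373 ∧ mulI 581 581 = eltc 580 ∧
    (∀ u ∈ uList, mulI u 1372 = mulI 1372 u ∨ mulI u 1372 = mulM (mulI 581 1372) (eltc u)) ∧
    (∀ u ∈ uList, mulI u 581 = mulI 581 u) := by
  decide +kernel

theorem u_witness : mulI 583 581 = mulI 581 583 ∧
    (mulI 0 1372 = mulI 581 0 ∨ mulI 0 1372 = mulI 1372 0 ∨ mulI 0 1372 = mulI 1373 0) ∧
    (mulI 0 581 = mulI 581 0 ∨ mulI 0 581 = mulI 1372 0 ∨ mulI 0 581 = mulI 1373 0) ∧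
    mulM (mulI 0 583) (eltc 0) = eltc 3959 ∧ mulI 3959 581 = mulI 366 3959 ∧ 366 ∉ uList := by
  decide +kernel

end UnitaryThree

open UnitaryThree CfsgLib.UThree in
theorem split_su {F : Type*} [Field F] [Fintype F] (D : Nine F) [Fact (Nat.Prime 2)]
    (hs : IsSimpleGroup (Cfsg.SU 3 F 3)) :
    ∃ U : Sylow 2 (Cfsg.SU 3 F 3), Split (U : Subgroup (Cfsg.SU 3 F 3)) := by
  classical
  let el : ℕ → Cfsg.SU 3 F 3 := fun i => if h : i < 6048 then D.elt ⟨i, h⟩ else 1
  have hel : ∀ i, i < 6048 → (((el i : Cfsg.SU 3 F 3) : Matrix.SpecialLinearGroup (Fin 3) F) :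
      Matrix (Fin 3) (Fin 3) F) = D.decM (eltc i) := fun i hi => by
    simp only [el, dif_pos hi]; rfl
  have hinj : ∀ i j, i < 6048 → j < 6048 → el i = el j → i = j := fun i j hi hj h => by
    simp only [el, dif_pos hi, dif_pos hj] at h
    exact congrArg Fin.val (elt_injective D h)
  have hmul : ∀ i j k, i < 6048 → j < 6048 → k < 6048 → mulI i j = eltc k → el i * el j = el k := by
    intro i j k hi hj hk h
    refine Subtype.ext (Subtype.ext ?_)
    show _ * _ = _
    rw [hel i hi, hel j hj, hel k hk, ← decM_mul, ← h]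
    rfl
  have hsw : ∀ i j k l, i < 6048 → j < 6048 → k < 6048 → l < 6048 → mulI i j = mulI k l →
      el i * el j = el k * el l := by
    intro i j k l hi hj hk hl h
    refine Subtype.ext (Subtype.ext ?_)
    show _ * _ = _ * _
    rw [hel i hi, hel j hj, hel k hk, hel l hl, ← decM_mul, ← decM_mul]
    exact congrArg D.decM h
  have h1 : el 580 = 1 := by
    refine Subtype.ext (Subtype.ext ?_)
    show (((el 580 : Cfsg.SU 3 F 3) : Matrix.SpecialLinearGroup (Fin 3) F) :
      Matrix (Fin 3) (Fin 3) F) = 1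
    rw [hel 580 (by norm_num), u_one]
    ext a b
    fin_cases a <;> fin_cases b <;> simp [Nine.decM, Nine.decV, dec_zero, dec_one]
  let U₀ : Subgroup (Cfsg.SU 3 F 3) :=
    { carrier := {g | ∃ i ∈ uList, g = el i}
      one_mem' := ⟨580, by decide, h1.symm⟩
      mul_mem' := by
        rintro _ _ ⟨i, hi, rfl⟩ ⟨j, hj, rfl⟩
        obtain ⟨k, hk, e⟩ := u_mul i hi j hj
        exact ⟨k, hk, hmul i j k (u_lt i hi) (u_lt j hj) (u_lt k hk) e⟩
      inv_mem' := by
        rintro _ ⟨i, hi, rfl⟩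
        obtain ⟨k, hk, e⟩ := u_inv i hi
        exact ⟨k, hk, inv_eq_of_mul_eq_one_right
          ((hmul i k 580 (u_lt i hi) (u_lt k hk) (by norm_num) e).trans h1)⟩ }
  have hU₀ : Nat.card U₀ = 2 ^ 5 := by
    have e : uList.toFinset.card = 2 ^ 5 := by
      rw [List.toFinset_card_of_nodup u_nodup.1, u_nodup.2]; norm_num
    rw [← e, ← Fintype.card_coe, ← Nat.card_eq_fintype_card]
    refine (Nat.card_congr (Equiv.ofBijective
      (fun i : uList.toFinset => (⟨el i.1, i.1, List.mem_toFinset.1 i.2, rfl⟩ : U₀)) ⟨?_, ?_⟩)).symm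
    · exact fun a b h => Subtype.ext (hinj _ _ (u_lt _ (List.mem_toFinset.1 a.2))
        (u_lt _ (List.mem_toFinset.1 b.2)) (congrArg Subtype.val h))
    · rintro ⟨_, i, hi, rfl⟩
      exact ⟨⟨i, List.mem_toFinset.2 hi⟩, rfl⟩
  have hi : ¬ 2 ∣ U₀.index := by
    have h := U₀.card_mul_index
    rw [hU₀, card_SU D] at h
    omega
  let U : Sylow 2 (Cfsg.SU 3 F 3) := (IsPGroup.of_card hU₀).toSylow hi
  have hmem : ∀ i ∈ uList, el i ∈ U₀ := fun i hi => ⟨i, hi, rfl⟩
  obtain ⟨e22, e33, ez2, ezz, efour, ecen⟩ := u_four'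
  obtain ⟨wa, wb1, wb2, wm, wc, wU⟩ := u_witness
  set z := el 581 with hzdef
  set e := el 1372 with hedef
  have hz2 : z * z = 1 := (hmul _ _ _ (by norm_num) (by norm_num) (by norm_num) ezz).trans h1
  have he2 : e * e = 1 := (hmul _ _ _ (by norm_num) (by norm_num) (by norm_num) e22).trans h1
  have hze : z * e = el 1373 := hmul _ _ _ (by norm_num) (by norm_num) (by norm_num) ez2
  have hzU : ∀ u ∈ U₀, u * z = z * u := by
    rintro _ ⟨i, hi, rfl⟩
    exact hsw _ _ _ _ (u_lt i hi) (by norm_num) (by norm_num) (u_lt i hi) (ecen i hi)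
  have hne : ∀ i, i < 6048 → i ≠ 580 → el i ≠ 1 := fun i hi h h' =>
    h (hinj i 580 hi (by norm_num) (h'.trans h1.symm))
  let E : Set (Cfsg.SU 3 F 3) := {1, z, e, z * e}
  let A := Subgroup.centralizer ({z} : Set (Cfsg.SU 3 F 3))
  let B : Subgroup (Cfsg.SU 3 F 3) :=
    { carrier := {g | ∀ x, g * x * g⁻¹ ∈ E ↔ x ∈ E}
      one_mem' := fun x => by simp
      mul_mem' := fun {a b} ha hb x => by
        rw [show a * b * x * (a * b)⁻¹ = a * (b * x * b⁻¹) * a⁻¹ by group]
        exact (ha _).trans (hb x)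
      inv_mem' := fun {a} ha x => by
        have h := ha (a⁻¹ * x * a⁻¹⁻¹)
        rw [show a * (a⁻¹ * x * a⁻¹⁻¹) * a⁻¹ = x by group] at h
        exact h.symm }
  have memB : ∀ g, (∀ x ∈ E, g * x * g⁻¹ ∈ E) → g ∈ B := by
    intro g hg x
    have hfin : E.Finite := Set.toFinite _
    have hbij := ((hfin.injOn_iff_bijOn_of_mapsTo (f := fun x => g * x * g⁻¹) hg).1
      (fun a _ b _ h => by simpa using h))
    refine ⟨fun h => ?_, hg x⟩
    obtain ⟨y, hy, e⟩ := hbij.surjOn h
    rwa [show x = y from (mul_left_cancel (mul_right_cancel (e : g * y * g⁻¹ = g * x * g⁻¹))).symm]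
  have hze2 : e * z = z * e := hzU e (hmem 1372 (by decide))
  have hbE : ∀ g : Cfsg.SU 3 F 3, (g * z * g⁻¹ ∈ E) → (g * e * g⁻¹ ∈ E) → g ∈ B := by
    intro g gz ge
    refine memB g ?_
    have key : ∀ a ∈ E, ∀ b ∈ E, a * b ∈ E := by
      have f1 : z * (z * e) = e := by rw [← mul_assoc, hz2, one_mul]
      have f2 : z * e * z = e := by rw [mul_assoc, hze2, f1]
      have f3 : z * e * e = z := by rw [mul_assoc, he2, mul_one]
      have f4 : e * (z * e) = z := by rw [← mul_assoc, hze2, f3]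
      have f5 : z * e * (z * e) = 1 := by rw [mul_assoc, f4, hz2]
      rintro a (rfl | rfl | rfl | rfl) b (rfl | rfl | rfl | rfl) <;>
        simp [E, hz2, he2, hze2, f1, f2, f3, f4, f5]
    rintro x (rfl | rfl | rfl | rfl)
    · simp [E]
    · exact gz
    · exact ge
    · rw [show g * (z * e) * g⁻¹ = g * z * g⁻¹ * (g * e * g⁻¹) by group]
      exact key _ gz _ ge
  have hUB : (U : Subgroup _) ≤ B := by
    rintro _ ⟨i, hi, rfl⟩
    refine hbE _ (Or.inr (Or.inl ?_)) ?_
    · rw [hzU _ (hmem i hi), mul_inv_cancel_right]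
    · rcases efour i hi with h | h
      · refine Or.inr (Or.inr (Or.inl ?_))
        rw [hsw _ _ _ _ (u_lt i hi) (by norm_num) (by norm_num) (u_lt i hi) h, mul_inv_cancel_right]
      · refine Or.inr (Or.inr (Or.inr ?_))
        have : el i * e = z * e * el i := by
          refine Subtype.ext (Subtype.ext ?_)
          show _ * _ = _ * _ * _
          rw [hel i (u_lt i hi), hel 581 (by norm_num), hel 1372 (by norm_num), ← decM_mul,
            ← decM_mul, ← decM_mul]
          exact congrArg D.decM h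
        exact mul_inv_eq_iff_eq_mul.2 this
  have hAtop : A ≠ ⊤ := fun h => by
    have hzc : z ∈ Subgroup.center (Cfsg.SU 3 F 3) := Subgroup.mem_center_iff.2 fun g =>
      Subgroup.mem_centralizer_singleton_iff.1 (h ▸ Subgroup.mem_top g : g ∈ A)
    rw [center_SU D, Subgroup.mem_bot] at hzc
    exact hne 581 (by norm_num) (by norm_num) hzc
  have hBtop : B ≠ ⊤ := fun h => by
    have hn : (Subgroup.closure E).Normal := ⟨fun x hx g => by
      induction hx using Subgroup.closure_induction with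
      | mem y hy => exact Subgroup.subset_closure (((h ▸ Subgroup.mem_top g : g ∈ B) y).2 hy)
      | one => simp
      | mul a b _ _ ha hb =>
          rw [show g * (a * b) * g⁻¹ = g * a * g⁻¹ * (g * b * g⁻¹) by group]
          exact mul_mem ha hb
      | inv a _ ha =>
          rw [show g * a⁻¹ * g⁻¹ = (g * a * g⁻¹)⁻¹ by group]
          exact inv_mem ha⟩
    have hle : Subgroup.closure E ≤ U₀ := by
      refine (Subgroup.closure_le _).2 ?_
      rintro x (rfl | rfl | rfl | rfl)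
      · exact one_mem _
      · exact hmem 581 (by decide)
      · exact hmem 1372 (by decide)
      · exact mul_mem (hmem 581 (by decide)) (hmem 1372 (by decide))
    rcases hs.eq_bot_or_eq_top_of_normal _ hn with h0 | h0
    · exact hne 581 (by norm_num) (by norm_num) (Subgroup.mem_bot.1
        (h0 ▸ Subgroup.subset_closure (Or.inr (Or.inl rfl)) : z ∈ (⊥ : Subgroup _)))
    · have hu : Nat.card U₀ = 6048 := by
        rw [show U₀ = ⊤ from top_le_iff.1 (h0 ▸ hle), Subgroup.card_top, card_SU D]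
      rw [hU₀] at hu
      norm_num at hu
  have hjoin : A ⊔ B = ⊤ := by
    by_contra hne'
    have hUA : (U : Subgroup _) ≤ A := fun u hu => Subgroup.mem_centralizer_singleton_iff.2 (hzU u hu)
    obtain ⟨R, hRU, hR, hn⟩ := exists_normal_le
      ((noProperCoreFree_psuThreeThree D.card_eq).of_mulEquiv
        ((QuotientGroup.quotientMulEquivOfEq (center_SU D)).trans QuotientGroup.quotientBot).symm)
      U hne' (hUA.trans le_sup_left)
    have hzR : z ∈ R := mem_of_center_two U.isPGroup' (fun r hr h => by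
        obtain ⟨i, hi, rfl⟩ := hr
        have hc : ∀ u ∈ uList, mulI u i = mulI i u := fun u hu => by
          obtain ⟨k, hk, ek⟩ := u_mul u hu i hi
          obtain ⟨l, hl, el'⟩ := u_mul i hi u hu
          have := h (el u) (hmem u hu)
          rw [hmul _ _ _ (u_lt u hu) (u_lt i hi) (u_lt k hk) ek,
            hmul _ _ _ (u_lt i hi) (u_lt u hu) (u_lt l hl) el'] at this
          rw [ek, el', hinj _ _ (u_lt k hk) (u_lt l hl) this]
        rcases u_center i hi hc with rfl | rfl | hsq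
        · exact Or.inl h1
        · exact Or.inr (Or.inl rfl)
        · exact Or.inr (Or.inr (hmul _ _ _ (u_lt i hi) (u_lt i hi) (by norm_num) hsq)))
      hRU hR (fun u hu r hr => hn u (hUA.trans le_sup_left hu) r hr)
    have ha : el 583 ∈ A := Subgroup.mem_centralizer_singleton_iff.2
      (hsw _ _ _ _ (by norm_num) (by norm_num) (by norm_num) (by norm_num) wa)
    have conjE : ∀ i, i < 6048 → ∀ j, j < 6048 →
        (mulI i j = mulI 581 i ∨ mulI i j = mulI 1372 i ∨ mulI i j = mulI 1373 i) →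
        el i * el j * (el i)⁻¹ ∈ E := by
      intro i hi j hj h
      rcases h with h | h | h <;>
        rw [hsw _ _ _ _ hi hj (by norm_num) hi h, mul_inv_cancel_right]
      · exact Or.inr (Or.inl rfl)
      · exact Or.inr (Or.inr (Or.inl rfl))
      · exact Or.inr (Or.inr (Or.inr hze.symm))
    have hb : el 0 ∈ B :=
      hbE _ (conjE 0 (by norm_num) 581 (by norm_num) wb2) (conjE 0 (by norm_num) 1372 (by norm_num) wb1)
    have hm : el 3959 ∈ A ⊔ B := by
      have : el 3959 = el 0 * el 583 * el 0 := by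
        refine Subtype.ext (Subtype.ext ?_)
        show _ = _ * _ * _
        rw [hel 3959 (by norm_num), hel 0 (by norm_num), hel 583 (by norm_num), ← decM_mul, ← decM_mul]
        exact congrArg D.decM wm.symm
      rw [this]
      exact mul_mem (mul_mem (Subgroup.mem_sup_right hb) (Subgroup.mem_sup_left ha))
        (Subgroup.mem_sup_right hb)
    have h := hRU (hn _ hm z hzR)
    rw [hsw _ _ _ _ (by norm_num) (by norm_num) (by norm_num) (by norm_num) wc,
      mul_inv_cancel_right] at h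
    obtain ⟨i, hi', e'⟩ := h
    exact wU (hinj _ _ (by norm_num) (u_lt i hi') e' ▸ hi')
  refine ⟨U, A, B, hAtop, hBtop, fun u hu => Subgroup.mem_centralizer_singleton_iff.2 (hzU u hu),
    hUB, hjoin, fun α hU => ?_⟩
  have hαU : ∀ x, α x ∈ U₀ ↔ x ∈ U₀ := fun x => by
    conv_lhs => rw [show U₀ = U₀.map α.toMonoidHom from hU.symm]
    exact Subgroup.mem_map_iff_mem (f := α.toMonoidHom) α.injective
  have hαU' : ∀ y ∈ U₀, ∃ x ∈ U₀, α x = y := fun y hy =>
    ⟨α.symm y, (hαU _).1 (by simpa using hy), by simp⟩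
  have hαz : α z = z := by
    obtain ⟨i, hi, ei⟩ := (hαU z).2 (hmem 581 (by decide))
    have hc : ∀ u ∈ uList, mulI u i = mulI i u := fun u hu => by
      obtain ⟨x, hx, ex⟩ := hαU' (el u) (hmem u hu)
      have := congrArg α (hzU x hx)
      rw [map_mul, map_mul, ex, ei] at this
      obtain ⟨k, hk, ek⟩ := u_mul u hu i hi
      obtain ⟨l, hl, el'⟩ := u_mul i hi u hu
      rw [hmul _ _ _ (u_lt u hu) (u_lt i hi) (u_lt k hk) ek,
        hmul _ _ _ (u_lt i hi) (u_lt u hu) (u_lt l hl) el'] at this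
      rw [ek, el', hinj _ _ (u_lt k hk) (u_lt l hl) this]
    rcases u_center i hi hc with rfl | rfl | hsq
    · exact absurd (α.injective ((ei.trans h1).trans (map_one α).symm)) (hne 581 (by norm_num) (by norm_num))
    · exact ei
    · exfalso
      have h' := hmul _ _ _ (u_lt i hi) (u_lt i hi) (by norm_num) hsq
      rw [← ei, ← map_mul, hz2, map_one] at h'
      exact hne 581 (by norm_num) (by norm_num) h'.symm
  have hαe : α e = e ∨ α e = z * e := by
    obtain ⟨i, hi, ei⟩ := (hαU e).2 (hmem 1372 (by decide))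
    have c1 : i ≠ 580 := by
      rintro rfl
      exact hne 1372 (by norm_num) (by norm_num) (α.injective ((ei.trans h1).trans (map_one α).symm))
    have c2 : mulI i i = eltc 580 := by
      obtain ⟨k, hk, ek⟩ := u_mul i hi i hi
      have := hmul _ _ _ (u_lt i hi) (u_lt i hi) (u_lt k hk) ek
      rw [← ei, ← map_mul, he2, map_one] at this
      rw [ek, hinj _ _ (u_lt k hk) (by norm_num) (this.symm.trans h1.symm)]
    have c3 : i ≠ 581 := by
      rintro rfl
      have := hinj _ _ (by norm_num) (by norm_num) (α.injective (ei.trans hαz.symm) : e = z)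
      norm_num at this
    have c4 : ∀ u ∈ uList, mulI u i = mulI i u ∨ mulI u i = mulM (mulI 581 i) (eltc u) := fun u hu => by
      obtain ⟨x, hx, ex⟩ := hαU' (el u) (hmem u hu)
      obtain ⟨j, hj, rfl⟩ := hx
      obtain ⟨k, hk, ek⟩ := u_mul u hu i hi
      obtain ⟨l, hl, el'⟩ := u_mul i hi u hu
      have hk' := hmul _ _ _ (u_lt u hu) (u_lt i hi) (u_lt k hk) ek
      have hl' := hmul _ _ _ (u_lt i hi) (u_lt u hu) (u_lt l hl) el'
      rcases efour j hj with h | h
      · left
        have h' := congrArg α (hsw _ _ _ _ (u_lt j hj) (by norm_num) (by norm_num) (u_lt j hj) h)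
        rw [map_mul, map_mul, ex, ei, hk', hl'] at h'
        rw [ek, el', hinj _ _ (u_lt k hk) (u_lt l hl) h']
      · right
        have h' : el j * e = z * e * el j := by
          refine Subtype.ext (Subtype.ext ?_)
          show _ * _ = _ * _ * _
          rw [hel j (u_lt j hj), hel 581 (by norm_num), hel 1372 (by norm_num), ← decM_mul,
            ← decM_mul, ← decM_mul]
          exact congrArg D.decM h
        have h'' := congrArg α h'
        rw [map_mul, map_mul, map_mul, ex, hαz, ei] at h''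
        obtain ⟨n, hn', en⟩ := u_mul 581 (by decide) i hi
        obtain ⟨n', hn'', en'⟩ := u_mul n hn' u hu
        rw [hmul _ _ _ (by norm_num) (u_lt i hi) (u_lt n hn') en,
          hmul _ _ _ (u_lt n hn') (u_lt u hu) (u_lt n' hn'') en', hk'] at h''
        rw [ek, en, hinj _ _ (u_lt k hk) (u_lt n' hn'') h'', ← en']
        rfl
    rcases u_four i hi c1 c2 c3 c4 with rfl | rfl
    · exact Or.inl ei
    · exact Or.inr (ei.trans hze.symm)
  refine ⟨?_, ?_⟩
  · refine le_antisymm ?_ fun g hg => ⟨α.symm g, ?_, by simp⟩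
    · rintro _ ⟨g, hg, rfl⟩
      have := congrArg α (Subgroup.mem_centralizer_singleton_iff.1 hg)
      rw [map_mul, map_mul, hαz] at this
      exact Subgroup.mem_centralizer_singleton_iff.2 this
    · refine Subgroup.mem_centralizer_singleton_iff.2 (α.injective ?_)
      simpa [hαz] using Subgroup.mem_centralizer_singleton_iff.1 hg
  · have hE : ∀ x, α x ∈ E ↔ x ∈ E := by
      have himg : ∀ x ∈ E, α x ∈ E := by
        rintro x (rfl | rfl | rfl | rfl)
        · exact Or.inl (map_one α)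
        · exact Or.inr (Or.inl hαz)
        · rcases hαe with h | h
          · exact Or.inr (Or.inr (Or.inl h))
          · exact Or.inr (Or.inr (Or.inr h))
        · rw [map_mul, hαz]
          rcases hαe with h | h <;> rw [h]
          · exact Or.inr (Or.inr (Or.inr rfl))
          · exact Or.inr (Or.inr (Or.inl (by rw [← mul_assoc, hz2, one_mul])))
      have hfin : E.Finite := Set.toFinite _
      have hbij := (hfin.injOn_iff_bijOn_of_mapsTo (f := fun x => α x) himg).1 α.injective.injOn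
      refine fun x => ⟨fun h => ?_, himg x⟩
      obtain ⟨y, hy, e⟩ := hbij.surjOn h
      exact α.injective e ▸ hy
    ext g
    constructor
    · rintro ⟨g, hg, rfl⟩ x
      obtain ⟨x, rfl⟩ := α.surjective x
      show α g * α x * (α g)⁻¹ ∈ E ↔ α x ∈ E
      rw [← map_inv, ← map_mul, ← map_mul, hE, hE]
      exact hg x
    · intro hg
      refine ⟨α.symm g, fun x => ?_, by simp⟩
      rw [← hE, ← hE x, map_mul, map_mul, map_inv, MulEquiv.apply_symm_apply]
      exact hg _

theorem split_psuThreeThree {F : Type*} [Field F] [Fintype F] [Fact (Nat.Prime 2)]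
    (hF : Fintype.card F = 9) :
    ∃ U : Sylow 2 (Cfsg.PSU 3 F 3), Split (U : Subgroup (Cfsg.PSU 3 F 3)) := by
  obtain ⟨D⟩ := CfsgLib.UThree.exists_nine hF
  have h : IsSimpleGroup (Cfsg.PSU 3 F 3) :=
    CfsgLib.Classical.Herm.isSimpleGroup_psu (by rw [hF]; norm_num) le_rfl (by omega)
  let e : Cfsg.PSU 3 F 3 ≃* Cfsg.SU 3 F 3 :=
    (QuotientGroup.quotientMulEquivOfEq (CfsgLib.UThree.center_SU D)).trans QuotientGroup.quotientBot
  have : Nontrivial (Cfsg.SU 3 F 3) := e.symm.toEquiv.nontrivial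
  have hs : IsSimpleGroup (Cfsg.SU 3 F 3) :=
    IsSimpleGroup.isSimpleGroup_of_surjective e.toMonoidHom e.surjective
  obtain ⟨U⟩ := (inferInstance : Nonempty (Sylow 2 (Cfsg.PSU 3 F 3)))
  exact ⟨U, split_forall_sylow (split_su D hs) e.symm U⟩

end CfsgLib.PMinimalLie
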