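import Cfsg.Agent.Lib.PMinimalLie.PolarSmall
import Cfsg.Agent.Lib.SylowOver.Symp

/-!
The overgroups of a Sylow `p`-subgroup in the symplectic groups in characteristic `p`.
-/

set_option autoImplicit false

namespace CfsgLib.PMinimalLie

open Matrix Cfsg CfsgLib.Linear.Symp CfsgLib.MinIndexPSp CfsgLib.SylowOver

variable {F : Type*} [Field F] {m : ℕ}

/-- The standard basis vectors, indexed by natural numbers. -/
def spVec (F : Type*) [Field F] (m : ℕ) (side : Fin m → Fin m ⊕ Fin m) (i : ℕ) :
    Fin m ⊕ Fin m → F :=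
  if h : i < m then Pi.single (side ⟨i, h⟩) 1 else 0

/-- The symplectic geometry. -/
noncomputable def polarSp (F : Type*) [Field F] [Finite F] (hm : 1 ≤ m) :
    Polar F (Fin m ⊕ Fin m → F) (symplecticGroup (Fin m) F) where
  ρ := spRep m F
  L w :=
    { toFun := fun x => sympForm m F x w
      map_add' := fun a b => form_add_left a b w
      map_smul' := fun c a => form_smul_left c a w }
  τ := RingHom.id F
  L_add a b := LinearMap.ext fun x => form_add_right x a b
  L_smul c a := LinearMap.ext fun x => form_smul_right c x a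
  L_inj a h := eq_zero_of_forall_form fun w => by
    rw [form_swap, show sympForm m F w a = 0 from LinearMap.congr_fun h w, neg_zero]
  symm a b h := by
    show sympForm m F a b = 0
    rw [form_swap, show sympForm m F b a = 0 from h, neg_zero]
  isometry g a b := form_smul_smul g b a
  Sg _ := True
  sg_smul _ _ _ := trivial
  sg_add _ _ _ _ _ := trivial
  sg_self a _ := form_self a
  sg_map _ _ _ := trivial
  r := m
  r_pos := hm
  e := spVec F m Sum.inr
  f := spVec F m Sum.inl
  sg_e _ _ := trivial
  sg_f _ _ := trivial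
  ee i j hi hj := by
    show sympForm m F (spVec F m Sum.inr j) (spVec F m Sum.inr i) = 0
    simp [spVec, hi, hj, form_single_inr, Pi.single_apply]
  ff i j hi hj := by
    show sympForm m F (spVec F m Sum.inl j) (spVec F m Sum.inl i) = 0
    simp [spVec, hi, hj, form_single_inl, Pi.single_apply]
  ef i j hi hj hij := by
    show sympForm m F (spVec F m Sum.inl j) (spVec F m Sum.inr i) = 0
    simp [spVec, hi, hj, form_single_inr, Pi.single_apply, Fin.ext_iff, hij]
  pair i hi := by
    show sympForm m F (spVec F m Sum.inr i) (spVec F m Sum.inl i) ≠ 0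
    simp [spVec, hi, form_single_inl]
  eich u w _ h := by
    refine ⟨sx u w 0, 1, 0, one_ne_zero, fun x => ?_⟩
    show sx u w 0 • x = _
    rw [sx_smul (show sympForm m F w u = 0 from h)]
    simp only [LinearMap.coe_mk, AddHom.coe_mk, zero_mul, add_zero, one_mul, zero_smul]
    abel
  last := by
    refine ⟨tv (spVec F m Sum.inr (m - 1)) 1, 0, 1, one_ne_zero, fun i _ => map_zero _,
      fun x => ⟨sympForm m F x (spVec F m Sum.inr (m - 1)), ?_⟩, fun x h _ => ?_, fun x h => ?_,
      Or.inr ⟨rfl, fun x h => ?_⟩⟩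
    · show tv (spVec F m Sum.inr (m - 1)) (1 : F) • x = _
      rw [tv_smul]; simp
    · show tv (spVec F m Sum.inr (m - 1)) (1 : F) • x = x
      rw [tv_smul, show sympForm m F x (spVec F m Sum.inr (m - 1)) = 0 from h]; simp
    · show tv (spVec F m Sum.inr (m - 1)) (1 : F) • x - x ∈ _
      rw [tv_smul, add_sub_cancel_left]
      exact Submodule.smul_mem _ _ (Submodule.mem_span_singleton_self _)
    · show tv (spVec F m Sum.inr (m - 1)) (1 : F) • x ≠ x
      rw [tv_smul, one_mul, Ne, add_eq_left, smul_eq_zero, not_or]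
      refine ⟨h, fun h0 => h ?_⟩
      show sympForm m F x _ = 0
      rw [h0, form_zero_right]

variable [Fintype F]

theorem polarSp_max (hm : 1 ≤ m) :
    (polarSp F hm).perp ((polarSp F hm).E m) ≤ (polarSp F hm).E m := by
  intro x hx
  have h := (polarSp F hm).mem_perp_E.1 hx
  have hl : ∀ i : Fin m, x (Sum.inl i) = 0 := fun i => by
    have h1 : sympForm m F x (spVec F m Sum.inr i) = 0 := h i i.2
    simpa [spVec, i.2, form_single_inr] using h1
  have hx' : x = ∑ i : Fin m, x (Sum.inr i) • spVec F m Sum.inr i := by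
    funext j
    rcases j with j | j
    · simp [Finset.sum_apply, spVec, hl, Pi.single_apply]
    · simp [Finset.sum_apply, spVec, Pi.single_apply]
  rw [hx']
  exact Submodule.sum_mem _ fun i _ => Submodule.smul_mem _ _ ((polarSp F hm).e_mem i.2)

theorem geo_psp {p : ℕ} [Fact p.Prime] [CharP F p] (hm : 2 ≤ m) (h : m = 2 → 3 ≤ Fintype.card F)
    (rk exc : Prop) (hexc : m = 2 → p = 2 → exc) : Geo p (Cfsg.PSp m F) rk exc := by
  have hm1 : 1 ≤ m := by omega
  let P := polarSp F hm1
  have hS : Setting p P (QuotientGroup.mk' (Subgroup.center (symplecticGroup (Fin m) F))) :=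
    { inj := fun g h' e => group_ext fun x => show P.ρ g x = P.ρ h' x by rw [e]
      surj := QuotientGroup.mk'_surjective _
      scalar := fun z hz => by
        obtain ⟨a, -, ha⟩ := mem_center_iff.1 ((QuotientGroup.eq_one_iff z).1 hz)
        exact ⟨a, ha⟩
      noCore := noProperCoreFree_psp hm h }
  have hmax : ∀ x ∈ P.perp (P.E P.r), P.Sg x → x ∈ P.E P.r := fun x hx _ => polarSp_max hm1 hx
  have hlast : ∃ g, (∀ k, k < P.r - 1 → P.ρ g (P.e k) = P.e k) ∧
      P.ρ g (P.e (P.r - 1)) ∉ P.E P.r := by
    refine ⟨tv (spVec F m Sum.inl (m - 1)) 1, fun k hk => ?_, fun hmem => ?_⟩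
    · show tv (spVec F m Sum.inl (m - 1)) (1 : F) • spVec F m Sum.inr k = spVec F m Sum.inr k
      have h0 : sympForm m F (spVec F m Sum.inr k) (spVec F m Sum.inl (m - 1)) = 0 :=
        P.symm _ _ (P.ef k (m - 1) (show k < m by have : k < m - 1 := hk; omega) (show m - 1 < m by omega) (have : k < m - 1 := hk; by omega))
      rw [tv_smul, h0]; simp
    · have h1 := P.mem_perp.1 (P.E_le_perp le_rfl le_rfl hmem) _
        (P.e_mem (i := P.r) (show m - 1 < m by omega))
      change sympForm m F (tv (spVec F m Sum.inl (m - 1)) (1 : F) • spVec F m Sum.inr (m - 1)) (spVec F m Sum.inr (m - 1)) = 0 at h1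
      rw [tv_smul, form_add_left, form_self, form_smul_left, zero_add, one_mul, mul_eq_zero] at h1
      rcases h1 with h1 | h1
      · exact P.pair (m - 1) (show m - 1 < m by omega) h1
      · rw [form_swap, neg_eq_zero] at h1
        exact P.pair (m - 1) (show m - 1 < m by omega) h1
  rcases Nat.lt_or_ge m 3 with h3 | h3
  · exact hS.geo_two (show m = 2 by omega) ⟨0, (polarSp_max hm1).trans le_sup_left⟩ hmax hlast rk
      (hexc (by omega))
  · exact hS.geo_three h3 hmax hlast rk exc

end CfsgLib.PMinimalLie
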