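import Cfsg.Agent.Lib.PMinimalLie.TwistedGeo
import Cfsg.Agent.Lib.SylowOver.Tits

/-!
The Tits group: its two maximal overgroups of a Sylow 2-subgroup come from the parabolic subgroups
of `²F₄(2)` and have orders with different odd parts.
-/

set_option autoImplicit false
set_option maxHeartbeats 400000

namespace CfsgLib.PMinimalLie

theorem odd_parts_ne {c a b n : ℕ} (ha : c * 2 ^ a = (1 + 2 ^ (cond true 2 1)) * 2 ^ n)
    (hb : c * 2 ^ b = (1 + 2 ^ (cond false 2 1)) * 2 ^ n) : False := by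
  simp only [cond_true, cond_false] at ha hb
  have h5 : 5 ∣ c * 2 ^ a := ha ▸ Dvd.intro _ rfl
  have h5' : 5 ∣ c :=
    (Nat.Coprime.pow_right a (by norm_num : Nat.Coprime 5 2)).dvd_of_dvd_mul_right h5
  have h6 : 5 ∣ 3 * 2 ^ n := by
    have := h5'.mul_right (2 ^ b)
    rw [hb] at this
    simpa using this
  have h7 := (Nat.Coprime.pow_right n (by norm_num : Nat.Coprime 5 2)).dvd_of_dvd_mul_right h6
  norm_num at h7

open Cfsg.Lie CfsgLib.Chev CfsgLib.ReeF4 CfsgLib.ReeF4Out CfsgLib.SylowOver CfsgLib.BN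

section

variable {K : Type*} [Field K] [Fintype K] {m : ℕ} {σ : MulAut ↥(chevF4.group K)} {hσ : IsSigma m σ}

theorem card_Xs_mul_keep (hσ : IsSigma m σ) (b : Bool) :
    Fintype.card K ^ (cond b 2 1) *
      Nat.card {u : Uw K m // (ng hσ b)⁻¹ * u * ng hσ b ∈ Uw K m} = Nat.card (Uw K m) := by
  rw [← (base_spec hσ b).2, ← Nat.card_congr (Subgroup.subgroupOfEquivOfLe (base_spec hσ b).1).toEquiv]
  refine card_mul_card_keep (Xs_le_U hσ b) (fun x hx h => ?_) (fun u hu => ?_)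
  · have h1 := B_conj_U hσ (H_le_B hσ (ng_sq hσ b)) h
    rw [show ng hσ b * ng hσ b * ((ng hσ b)⁻¹ * x * ng hσ b) * (ng hσ b * ng hσ b)⁻¹ =
      ng hσ b * x * (ng hσ b)⁻¹ by group] at h1
    exact conj_eq_one_iff.1 (U_inf_V hσ h1 (ng_conj_Xs hσ hx))
  · obtain ⟨a, ha, r, hr, rfl, hrn⟩ := U_split hσ b hu
    exact ⟨a, ha, by rwa [inv_mul_cancel_left]⟩

theorem ng_injective (hσ : IsSigma m σ) : Function.Injective (ng hσ) := by
  classical
  intro a b e
  by_contra hne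
  have h1 := card_Xs_mul_keep hσ a
  rw [e, ← card_Xs_mul_keep hσ b] at h1
  have hpos : 0 < Nat.card {u : Uw K m // (ng hσ b)⁻¹ * u * ng hσ b ∈ Uw K m} :=
    Nat.pos_of_ne_zero fun h0 => by
      have := card_Xs_mul_keep hσ b
      rw [h0, mul_zero] at this
      exact (Nat.card_pos (α := Uw K m)).ne this
  have h2 := Nat.pow_right_injective Fintype.one_lt_card (Nat.eq_of_mul_eq_mul_right hpos h1)
  cases a <;> cases b <;> simp at hne h2

variable {P : Cfsg.BNPair ↥(G1 K m)} (hP : HasBN hσ P)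
include hP

/-- The order of a minimal parabolic subgroup. -/
theorem card_parabolic_ng (s : Bool) : Nat.card (P.parabolic {ng hσ s}) =
    (1 + Fintype.card K ^ (cond s 2 1)) * Nat.card (Bw K m) := by
  classical
  have hle : Bw K m ≤ P.parabolic {ng hσ s} := hP.B ▸ B_le_parabolic P _
  have hn : ng hσ s ∈ P.parabolic {ng hσ s} := subset_parabolic P (Set.mem_singleton _)
  have hnB : ng hσ s ∉ Bw K m := hP.B ▸ S_not_mem_B P (ng_mem_S hP s)
  let f : (Unit ⊕ Xs σ m s) × Bw K m → P.parabolic {ng hσ s} := fun p =>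
    match p.1 with
    | Sum.inl _ => ⟨p.2.1, hle p.2.2⟩
    | Sum.inr a => ⟨a.1 * ng hσ s * p.2.1, mul_mem (mul_mem (Xs_le_parabolic hP s a.2) hn) (hle p.2.2)⟩
  have hcross : ∀ (a : Xs σ m s) (b b' : Bw K m), b.1 ≠ a.1 * ng hσ s * b'.1 := by
    intro a b b' e
    refine hnB ?_
    rw [show ng hσ s = (a.1)⁻¹ * (a.1 * ng hσ s * b'.1) * (b'.1)⁻¹ by group, ← e]
    exact mul_mem (mul_mem (inv_mem (U_le_B hσ (Xs_le_U hσ s a.2))) b.2) (inv_mem b'.2)
  have hf : Function.Bijective f := by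
    refine ⟨?_, ?_⟩
    · rintro ⟨a | a, b⟩ ⟨a' | a', b'⟩ e
      · exact Prod.ext rfl (Subtype.ext (congrArg Subtype.val e :))
      · exact absurd (congrArg Subtype.val e :) (hcross a' b b')
      · exact absurd (congrArg Subtype.val e :).symm (hcross a b' b)
      · have e' : a.1 * ng hσ s * b.1 = a'.1 * ng hσ s * b'.1 := congrArg Subtype.val e
        set z := (a'.1)⁻¹ * a.1 with hz
        have hzX : z ∈ Xs σ m s := mul_mem (inv_mem a'.2) a.2
        have h1 : (ng hσ s)⁻¹ * z * ng hσ s ∈ Bw K m := by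
          rw [show (ng hσ s)⁻¹ * z * ng hσ s = (a'.1 * ng hσ s)⁻¹ * (a.1 * ng hσ s * b.1) * (b.1)⁻¹ by
            rw [hz]; group, e', show (a'.1 * ng hσ s)⁻¹ * (a'.1 * ng hσ s * b'.1) * (b.1)⁻¹ =
            b'.1 * (b.1)⁻¹ by group]
          exact mul_mem b'.2 (inv_mem b.2)
        have hsq := H_le_B hσ (ng_sq hσ s)
        have h2 : ng hσ s * z * (ng hσ s)⁻¹ ∈ Bw K m := by
          rw [show ng hσ s * z * (ng hσ s)⁻¹ =
            ng hσ s * ng hσ s * ((ng hσ s)⁻¹ * z * ng hσ s) * (ng hσ s * ng hσ s)⁻¹ by group]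
          exact mul_mem (mul_mem hsq h1) (inv_mem hsq)
        have hz1 : z = 1 := conj_eq_one_iff.1 (B_inf_V hσ h2 (ng_conj_Xs hσ hzX))
        obtain rfl : a' = a := Subtype.ext (inv_mul_eq_one.1 hz1)
        exact Prod.ext rfl (Subtype.ext (mul_left_cancel e'))
    · rintro ⟨z, hz⟩
      rcases parabolic_cases hP s hz with h | ⟨b, hb, b', hb', rfl⟩
      · exact ⟨(Sum.inl (), ⟨z, h⟩), rfl⟩
      · obtain ⟨a, ha, c, hc, e⟩ := cell_form hσ s hb hb'
        exact ⟨(Sum.inr ⟨a, ha⟩, ⟨c, hc⟩), Subtype.ext e.symm⟩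
  rw [← Nat.card_eq_of_bijective f hf, Nat.card_prod, Nat.card_sum, Nat.card_unique,
    Nat.card_congr (Subgroup.subgroupOfEquivOfLe (base_spec hσ s).1).toEquiv, (base_spec hσ s).2]

end

section

variable {K : Type*} [Field K] [Fintype K] {τ : MulAut ↥(chevF4.group K)} {hσ : IsSigma 0 τ}

theorem geo_tits_of_seed (hK : Tits.Seed hσ) (rk exc : Prop) :
    Geo 2 ↥(commutator ↥(G1 K 0)) rk exc := by
  classical
  have : Fact (Nat.Prime 2) := ⟨Nat.prime_two⟩
  obtain ⟨P, hP⟩ := exists_hasBN hσ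
  set T := commutator ↥(G1 K 0)
  have hTn : T.Normal := inferInstance
  set UT : Subgroup ↥T := (Uw K 0).subgroupOf T
  let Q : Bool → Subgroup ↥T := fun s => (P.parabolic {ng hσ s}).subgroupOf T
  have hUP : ∀ s, Uw K 0 ≤ P.parabolic {ng hσ s} := fun s =>
    (U_le_B hσ : Uw K 0 ≤ Bw K 0).trans (hP.B ▸ B_le_parabolic P _)
  have hfam : Family UT Q := by
    refine ⟨fun s u hu => hUP s hu, fun M hM hUM => ?_, fun s => ⟨⟨_, Tits.ng_mem hK (!s)⟩, ?_, ?_⟩⟩
    · have hUM' : Uw K 0 ⊓ T ≤ M.map T.subtype := fun u hu => ⟨⟨u, hu.2⟩, hUM hu.1, rfl⟩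
      have hMT : M.map T.subtype ≤ T := Subgroup.map_subtype_le M
      obtain ⟨s₀, hs₀⟩ : ∃ s, ng hσ s ∉ M.map T.subtype := by
        by_contra hall
        push Not at hall
        exact hM (Subgroup.map_injective T.subtype_injective
          ((Tits.eq_of_all hK hP hMT hUM' hall).trans
            (by rw [← MonoidHom.range_eq_map, Subgroup.range_subtype])))
      refine ⟨!s₀, fun x hx => ?_⟩
      refine parabolic_mono P ?_ (Tits.le_parabolic hK hP hMT hUM' ⟨x, hx, rfl⟩)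
      rintro y ⟨hy, hyM⟩
      rw [hP.S] at hy
      obtain ⟨b, rfl⟩ := hy
      rcases Bool.eq_or_eq_not b s₀ with e | e
      · exact absurd (e ▸ hyM) hs₀
      · exact congrArg _ e
    · intro h
      have h1 := mem_parabolic_S P (Set.singleton_subset_iff.2 (ng_mem_S hP s)) (ng_mem_S hP (!s)) h
      exact Bool.not_ne_self s (ng_injective hσ h1)
    · intro t ht
      obtain rfl : t = !s := by cases t <;> cases s <;> simp at ht ⊢
      exact subset_parabolic P (Set.mem_singleton _)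
  -- a Sylow subgroup
  have hUp : IsPGroup 2 UT := (isPGroup_Uw hσ).comap_of_injective _ T.subtype_injective
  have hsup : Uw K 0 ⊔ T = ⊤ := by
    rw [eq_top_iff, ← P.sup_eq_top, hP.B, hP.N]
    refine sup_le ((Tits.Bw_le hK).trans le_sup_left) fun n hn => ?_
    refine (sup_le ((Subgroup.closure_le _).2 ?_) ?_ :
      Subgroup.closure (Set.range (ng hσ)) ⊔ (Bw K 0 ⊓ Nw K 0) ≤ Uw K 0 ⊔ T) (N_gen hσ hn)
    · rintro _ ⟨s, rfl⟩
      exact Subgroup.mem_sup_right (Tits.ng_mem hK s)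
    · exact (inf_le_left.trans (Tits.Bw_le hK)).trans le_sup_left
  have hidx : T.relIndex (Uw K 0) = T.index := by
    rw [← Subgroup.relIndex_sup_right (H := Uw K 0) (K := T), hsup, Subgroup.relIndex_top_right]
  have hUi : ¬ 2 ∣ UT.index := by
    intro h2
    refine (isSplit_G1 hP).not_dvd_index (h2.trans (dvd_of_eq ?_))
    show (Uw K 0).relIndex T = (Uw K 0).index
    have e1 := Subgroup.relIndex_mul_index (inf_le_right : Uw K 0 ⊓ T ≤ T)
    have e2 := Subgroup.relIndex_mul_index (inf_le_left : Uw K 0 ⊓ T ≤ Uw K 0)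
    rw [Subgroup.inf_relIndex_right] at e1
    rw [Subgroup.inf_relIndex_left, hidx] at e2
    have e3 := e1.trans e2.symm
    rw [mul_comm] at e3
    exact Nat.eq_of_mul_eq_mul_left (Nat.pos_of_ne_zero Subgroup.index_ne_zero_of_finite) e3
  refine ⟨hUp.toSylow hUi, hfam.sep, Or.inl (hfam.apart (i := true) (j := false) fun hcard => ?_)⟩
  have htwo : ∀ s, ∃ a, Nat.card (Q s) * 2 ^ a = Nat.card (P.parabolic {ng hσ s}) := by
    intro s
    have hd : T.relIndex (P.parabolic {ng hσ s}) ∣ T.relIndex (Uw K 0) := by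
      rw [hidx]
      exact Subgroup.relIndex_dvd_index_of_normal _ _
    obtain ⟨n, hn⟩ := (isPGroup_Uw hσ).exists_card_eq
    have h2 : T.relIndex (Uw K 0) ∣ 2 ^ n := hn ▸ Subgroup.relIndex_dvd_card _ _
    obtain ⟨a, -, ha⟩ := (Nat.dvd_prime_pow Nat.prime_two).1 (hd.trans h2)
    refine ⟨a, ?_⟩
    have h3 := Subgroup.card_mul_index (T.subgroupOf (P.parabolic {ng hσ s}))
    change Nat.card (T.subgroupOf (P.parabolic {ng hσ s})) * T.relIndex _ = _ at h3
    rw [ha] at h3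
    have h4 : Nat.card (Q s) = Nat.card (T.subgroupOf (P.parabolic {ng hσ s})) :=
      Nat.card_congr
        { toFun := fun x => ⟨⟨x.1.1, x.2⟩, x.1.2⟩
          invFun := fun x => ⟨⟨x.1.1, x.2⟩, x.1.2⟩
          left_inv := fun _ => rfl
          right_inv := fun _ => rfl }
    rw [h4, h3]
  obtain ⟨a, ha⟩ := htwo true
  obtain ⟨b, hb⟩ := htwo false
  obtain ⟨n, hn⟩ := (isPGroup_Uw hσ).exists_card_eq
  have hB : Bw K 0 = Uw K 0 := le_antisymm (Tits.Bw_le hK) (U_le_B hσ)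
  have hK2 : Fintype.card K = 2 := by
    rw [hσ.card]; norm_num
  rw [card_parabolic_ng hP, hB, hn, hK2] at ha hb
  rw [hcard] at ha
  exact odd_parts_ne ha hb

end

theorem geo_tits (rk exc : Prop) : Geo 2 Cfsg.Lie.TitsGroup rk exc := by
  obtain ⟨σ, hσ⟩ := exists_sigma (K := ZMod 2) (m := 0) (by simp)
  have h := geo_tits_of_seed (hσ := hσ)
    ⟨Tits.two_values, Tits.pg_mem hσ, Tits.qg_mem hσ⟩ rk exc
  have key : ∀ e : ℕ, e = 2 ^ 0 →
      Geo 2 ↥(commutator ↥(twistedF4 (ZMod 2) e)) rk exc := by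
    rintro e rfl
    exact h
  exact key 1 (pow_zero 2).symm

end CfsgLib.PMinimalLie
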