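import Cfsg.Agent.Lib.PMinimalLie.PolarSmall
import Cfsg.Agent.Lib.SylowOver.Unitary

/-!
The overgroups of a Sylow `p`-subgroup in the unitary groups in characteristic `p`.
-/

set_option autoImplicit false

namespace CfsgLib.PMinimalLie

open Module CfsgLib.Classical.Herm CfsgLib.Classical.Herm.HermSpace CfsgLib.SylowOver

variable {F : Type*} [Field F] {n : ℕ}

/-- The standard vectors. -/
def uv (F : Type*) [Field F] (n j : ℕ) : Fin n → F :=
  if h : j < n then Pi.single ⟨j, h⟩ 1 else 0

/-- Isotropic vectors in the span of a consecutive pair. -/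
def uIso (n : ℕ) (lam : F) (i : ℕ) : Fin n → F := uv F n (2 * i) + lam • uv F n (2 * i + 1)

variable [Fintype F] {q : ℕ} (hF : Fintype.card F = q ^ 2)

theorem h_uv_right (x : Fin n → F) (j : ℕ) :
    (stdHerm hF n).h x (uv F n j) = if h : j < n then x ⟨j, h⟩ else 0 := by
  have hq : q ≠ 0 := by have := two_le_of_card hF; omega
  rw [stdHerm_h, Cfsg.hermForm, uv]
  split
  · rename_i h
    rw [Finset.sum_eq_single (⟨j, h⟩ : Fin n) (fun k _ hk => by simp [hk, zero_pow hq]) (by simp)]
    simp
  · simp [zero_pow hq]

theorem h_uIso_right (x : Fin n → F) (lam : F) {i : ℕ} (hi : 2 * i + 1 < n) :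
    (stdHerm hF n).h x (uIso n lam i) =
      x ⟨2 * i, by omega⟩ + (stdHerm hF n).conj lam * x ⟨2 * i + 1, hi⟩ := by
  rw [uIso, add_right, HermSpace.smul_right, h_uv_right, h_uv_right,
    dif_pos (show 2 * i < n by omega), dif_pos hi]

theorem uIso_even (lam : F) {i k : ℕ} (hk : 2 * k < n) :
    uIso n lam i ⟨2 * k, hk⟩ = if i = k then 1 else 0 := by
  simp only [uIso, uv, Pi.add_apply, Pi.smul_apply]
  by_cases h : i = k
  · subst h
    rw [dif_pos hk, if_pos rfl]
    split <;> simp [Pi.single_apply, Fin.ext_iff]
  · rw [if_neg h]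
    split <;> split <;> simp [Pi.single_apply, Fin.ext_iff, Ne.symm h,
      show (2 * k + 1 = 2 * i) = False from eq_false (by omega),
      show (2 * k = 2 * i + 1) = False from eq_false (by omega)] <;> omega

theorem uIso_odd (lam : F) {i k : ℕ} (hk : 2 * k + 1 < n) :
    uIso n lam i ⟨2 * k + 1, hk⟩ = if i = k then lam else 0 := by
  simp only [uIso, uv, Pi.add_apply, Pi.smul_apply]
  by_cases h : i = k
  · subst h
    rw [dif_pos (show 2 * i < n by omega), dif_pos hk, if_pos rfl]
    simp [Pi.single_apply, Fin.ext_iff]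
  · rw [if_neg h]
    split <;> split <;> simp [Pi.single_apply, Fin.ext_iff, Ne.symm h,
      show (2 * k + 1 = 2 * i) = False from eq_false (by omega),
      show (2 * k = 2 * i + 1) = False from eq_false (by omega)] <;> omega

theorem h_uIso_uIso (a b : F) {i j : ℕ} (hi : 2 * i + 1 < n) (hj : 2 * j + 1 < n) :
    (stdHerm hF n).h (uIso n a i) (uIso n b j) =
      if i = j then 1 + (stdHerm hF n).conj b * a else 0 := by
  rw [h_uIso_right hF _ b hj, uIso_even, uIso_odd]
  split <;> simp

/-- The unitary geometry. -/
noncomputable def polarU {lam mu : F} (hlam : lam * (stdHerm hF n).conj lam = -1)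
    (hmu : mu * (stdHerm hF n).conj mu = -1) (hne : lam ≠ mu) (hn : 3 ≤ n) :
    Polar F (Fin n → F) (rootGen (stdHerm hF n)) where
  ρ := (Unit' (stdHerm hF n)).subtype.comp (rootGen (stdHerm hF n)).subtype
  L w := (stdHerm hF n).form w
  τ := (stdHerm hF n).conj
  L_add a b := LinearMap.ext fun x => by
    rw [LinearMap.add_apply, form_apply, form_apply, form_apply, add_right]
  L_smul c a := LinearMap.ext fun x => by
    rw [LinearMap.smul_apply, form_apply, form_apply, smul_eq_mul, HermSpace.smul_right]
  L_inj a h := (stdHerm hF n).nondeg a fun y => h_comm_zero _ (show (stdHerm hF n).h y a = 0 from LinearMap.congr_fun h y)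
  symm a b h := show (stdHerm hF n).h a b = 0 from h_comm_zero _ (show (stdHerm hF n).h b a = 0 from h)
  isometry g a b := unit_h g.1 b a
  Sg v := (stdHerm hF n).h v v = 0
  sg_smul c a h := by rw [HermSpace.smul_left, HermSpace.smul_right, h, mul_zero, mul_zero]
  sg_add a b ha hb hab := by
    have hab' : (stdHerm hF n).h b a = 0 := hab
    rw [(stdHerm hF n).add_left, add_right, add_right, ha, hb, hab', h_comm_zero _ hab']
    simp
  sg_self a h := h
  sg_map g a h := (unit_h g.1 a a).trans h
  r := n / 2
  r_pos := by omega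
  e := uIso n lam
  f := uIso n mu
  sg_e i hi := by
    rw [h_uIso_uIso hF lam lam (by omega) (by omega), if_pos rfl, mul_comm, hlam, add_neg_cancel]
  sg_f i hi := by
    rw [h_uIso_uIso hF mu mu (by omega) (by omega), if_pos rfl, mul_comm, hmu, add_neg_cancel]
  ee i j hi hj := by
    rw [form_apply, h_uIso_uIso hF lam lam (by omega) (by omega), mul_comm, hlam, add_neg_cancel,
      ite_self]
  ff i j hi hj := by
    rw [form_apply, h_uIso_uIso hF mu mu (by omega) (by omega), mul_comm, hmu, add_neg_cancel,
      ite_self]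
  ef i j hi hj hij := by
    rw [form_apply, h_uIso_uIso hF mu lam (by omega) (by omega), if_neg (Ne.symm hij)]
  pair i hi := by
    rw [form_apply, h_uIso_uIso hF lam mu (by omega) (by omega), if_pos rfl]
    intro h
    apply hne
    have hmu0 : (stdHerm hF n).conj mu ≠ 0 := fun h0 => by
      rw [h0, mul_zero] at hmu
      exact one_ne_zero (neg_eq_zero.1 hmu.symm)
    exact mul_right_cancel₀ hmu0 (by linear_combination h - hmu)
  eich u w hu h := by
    obtain ⟨l, hl⟩ := (stdHerm hF n).exists_trace
      (c := -(stdHerm hF n).h w w) (by rw [map_neg, conj_diag])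
    have c : RootCond (stdHerm hF n) u w l := ⟨hu, h, by linear_combination hl⟩
    refine ⟨⟨_, root_mem c⟩, -1, l, neg_ne_zero.2 one_ne_zero, fun x => ?_⟩
    show (root (stdHerm hF n) u w l c).1 x = _
    rw [root_apply, form_apply, form_apply]
    module
  last := by
    obtain ⟨l, hl0, hl⟩ := (stdHerm hF n).exists_skew
    have hr : 2 * (n / 2 - 1) + 1 < n := by omega
    have c : RootCond (stdHerm hF n) (uIso n lam (n / 2 - 1)) 0 l :=
      ⟨by rw [h_uIso_uIso hF lam lam hr hr, if_pos rfl, mul_comm, hlam, add_neg_cancel],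
        zero_left _ _, by rw [zero_left]; linear_combination hl⟩
    have hx : ∀ x, (root (stdHerm hF n) _ 0 l c).1 x =
        x + (l * (stdHerm hF n).h x (uIso n lam (n / 2 - 1))) • uIso n lam (n / 2 - 1) := fun x => by
      rw [root_apply, zero_right]; module
    refine ⟨⟨_, root_mem c⟩, 0, 1, one_ne_zero, fun i _ => map_zero _,
      fun x => ⟨l * (stdHerm hF n).h x (uIso n lam (n / 2 - 1)), ?_⟩, fun x h _ => ?_, fun x h => ?_,
      Or.inr ⟨rfl, fun x h => ?_⟩⟩
    · show (root (stdHerm hF n) _ 0 l c).1 x = _
      rw [hx]; simp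
    · show (root (stdHerm hF n) _ 0 l c).1 x = x
      rw [form_apply] at h
      rw [hx, h]; simp
    · show (root (stdHerm hF n) _ 0 l c).1 x - x ∈ _
      rw [hx, add_sub_cancel_left]
      exact Submodule.smul_mem _ _ (Submodule.mem_span_singleton_self _)
    · show (root (stdHerm hF n) _ 0 l c).1 x ≠ x
      rw [hx, Ne, add_eq_left, smul_eq_zero, mul_eq_zero, not_or, not_or]
      rw [form_apply] at h
      refine ⟨⟨hl0, h⟩, fun h0 => h ?_⟩
      rw [h0, zero_right]

/-- A vector perpendicular to the flag. -/
theorem polarU_decomp {lam mu : F} (hlam : lam * (stdHerm hF n).conj lam = -1)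
    (hmu : mu * (stdHerm hF n).conj mu = -1) (hne : lam ≠ mu) (hn : 3 ≤ n) {x : Fin n → F}
    (hx : x ∈ (polarU hF hlam hmu hne hn).perp ((polarU hF hlam hmu hne hn).E (n / 2))) :
    x - (stdHerm hF n).h x (uv F n (2 * (n / 2))) • uv F n (2 * (n / 2)) ∈
      (polarU hF hlam hmu hne hn).E (n / 2) := by
  have h := (polarU hF hlam hmu hne hn).mem_perp_E.1 hx
  have hrel : ∀ i (hi : 2 * i + 1 < n), x ⟨2 * i + 1, hi⟩ = x ⟨2 * i, by omega⟩ * lam := by
    intro i hi
    have h1 : (stdHerm hF n).h x (uIso n lam i) = 0 := h i (show i < n / 2 by omega)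
    rw [h_uIso_right hF x lam hi] at h1
    linear_combination -lam * h1 + x ⟨2 * i + 1, hi⟩ * hlam
  have key : x - (stdHerm hF n).h x (uv F n (2 * (n / 2))) • uv F n (2 * (n / 2)) =
      ∑ i : Fin (n / 2), x ⟨2 * i.val, by omega⟩ • uIso n lam i.val := by
    funext ⟨j, hj⟩
    rw [Finset.sum_apply, Pi.sub_apply, Pi.smul_apply, h_uv_right]
    obtain ⟨k, rfl | rfl⟩ : ∃ k, j = 2 * k ∨ j = 2 * k + 1 := ⟨j / 2, by omega⟩
    · simp only [Pi.smul_apply, uIso_even]
      rcases Nat.lt_or_ge k (n / 2) with hk | hk
      · rw [Finset.sum_eq_single ⟨k, hk⟩ (fun i _ hi => by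
          rw [if_neg (fun e => hi (Fin.ext e)), smul_zero]) (by simp)]
        simp only [uv]
        split <;> simp [Pi.single_apply, Fin.ext_iff]
        omega
      · have hk' : k = n / 2 := by omega
        subst hk'
        rw [Finset.sum_eq_zero fun i _ => by rw [if_neg (show i.val ≠ n / 2 by omega), smul_zero]]
        simp [uv, hj]
    · simp only [Pi.smul_apply, uIso_odd]
      have hk : k < n / 2 := by omega
      rw [Finset.sum_eq_single ⟨k, hk⟩ (fun i _ hi => by
        rw [if_neg (fun e => hi (Fin.ext e)), smul_zero]) (by simp)]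
      simp only [uv]
      split <;> simp [Pi.single_apply, Fin.ext_iff, hrel k hj]
      omega
  rw [key]
  exact Submodule.sum_mem _ fun i _ => Submodule.smul_mem _ _
    ((polarU hF hlam hmu hne hn).e_mem i.2)

include hF in
theorem card_skew_le (k : F) (hk : k ≠ 0) (S : Finset F)
    (hS : ∀ x ∈ S, x * k + (x * k) ^ q = 0) : S.card ≤ q := by
  classical
  have hq := two_le_of_card hF
  have hdeg : (Polynomial.X ^ q + Polynomial.X : Polynomial F).degree = q := by
    rw [Polynomial.degree_add_eq_left_of_degree_lt] <;>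
      simp [Polynomial.degree_X_pow, Polynomial.degree_X]
    omega
  have hne0 : (Polynomial.X ^ q + Polynomial.X : Polynomial F) ≠ 0 := fun h0 => by
    rw [h0, Polynomial.degree_zero] at hdeg
    exact absurd hdeg (by simp)
  have hnat : (Polynomial.X ^ q + Polynomial.X : Polynomial F).natDegree = q :=
    Polynomial.natDegree_eq_of_degree_eq_some hdeg
  rw [← hnat, ← Finset.card_image_of_injective S (mul_left_injective₀ hk)]
  refine Polynomial.card_le_degree_of_subset_roots ?_
  intro y hy
  obtain ⟨x, hx, rfl⟩ := Finset.mem_image.1 hy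
  rw [Polynomial.mem_roots hne0]
  simpa [Polynomial.IsRoot, add_comm] using hS x hx

/-- `PSU`. -/
theorem geo_psu (hF : Fintype.card F = q ^ 2) {p : ℕ} [Fact p.Prime] [CharP F p] (hn : 3 ≤ n) (h32 : ¬ (n = 3 ∧ q = 2))
    {rk : Prop} (hrk : n = 3 → rk) (exc : Prop) : Geo p (Cfsg.PSU n F q) rk exc := by
  classical
  obtain ⟨lam, hlam⟩ := (stdHerm hF n).norm_surj (-1) (by rw [map_neg, map_one])
  obtain ⟨l, hl, hl1⟩ := exists_norm_one_ne_one (stdHerm hF n)
  set mu := lam * l with hmu_def
  have hmu : mu * (stdHerm hF n).conj mu = -1 := by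
    rw [hmu_def, map_mul, mul_mul_mul_comm, hlam, hl, mul_one]
  have hlam0 : lam ≠ 0 := fun h0 => by
    rw [h0, zero_mul] at hlam
    exact one_ne_zero (neg_eq_zero.1 hlam.symm)
  have hne : lam ≠ mu := fun h => hl1 (by
    rw [hmu_def] at h
    exact (mul_eq_left₀ hlam0).1 h.symm)
  obtain ⟨e₀, f₀, pr⟩ := exists_pair_std hF hn
  set P := polarU hF hlam hmu hne hn with hP
  have : Finite ((Fin n → F) ≃ₗ[F] (Fin n → F)) := Finite.of_injective _ DFunLike.coe_injective
  let H := stdHerm hF n
  have hS : Setting p P (QuotientGroup.mk' (Subgroup.center (rootGen H))) :=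
    { inj := Subtype.val_injective.comp Subtype.val_injective
      surj := QuotientGroup.mk'_surjective _
      scalar := fun z hz => by
        obtain ⟨μ, -, h⟩ := (mem_center_rootGen_iff (big_std hF hn) (perfectable_std hF hn h32) pr z).1
          ((QuotientGroup.eq_one_iff z).1 hz)
        exact ⟨μ, h⟩
      noCore := noProperCoreFree_rootGen (big_std hF hn) (perfectable_std hF hn h32) pr }
  have hmax : ∀ x ∈ P.perp (P.E P.r), P.Sg x → x ∈ P.E P.r := by
    intro x hx hsx
    have h := polarU_decomp hF hlam hmu hne hn hx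
    set a := H.h x (uv F n (2 * (n / 2))) with ha
    by_cases hm : 2 * (n / 2) < n
    · have hh : H.h (uv F n (2 * (n / 2))) (uv F n (2 * (n / 2))) = 1 := by
        rw [h_uv_right, dif_pos hm, uv, dif_pos hm]; simp
      set v := uv F n (2 * (n / 2))
      have hv : H.h v (x - a • v) = 0 := by
        rw [sub_right, HermSpace.smul_right, hh, mul_one, ← H.symm' x v, ha, sub_self]
      have h0 : H.h (x - a • v) (x - a • v) = 0 := (P.ts_E le_rfl).2 _ h
      have hsx' : H.h x x = 0 := hsx
      rw [sub_left, HermSpace.smul_left, hv, mul_zero, sub_zero, sub_right, hsx',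
        HermSpace.smul_right, ← ha, zero_sub, neg_eq_zero, mul_eq_zero, map_eq_zero,
        or_self] at h0
      rw [h0, zero_smul, sub_zero] at h
      exact h
    · have : uv F n (2 * (n / 2)) = 0 := by rw [uv, dif_neg hm]
      rw [this, smul_zero, sub_zero] at h
      exact h
  have hmid : ∃ a, P.perp (P.E P.r) ≤ P.E P.r ⊔ Submodule.span F {a} :=
    ⟨uv F n (2 * (n / 2)), fun x hx => Submodule.mem_sup.2
      ⟨_, polarU_decomp hF hlam hmu hne hn hx, _,
        Submodule.smul_mem _ _ (Submodule.mem_span_singleton_self _), sub_add_cancel _ _⟩⟩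
  have hr : P.r = n / 2 := rfl
  have hlast : ∃ g, (∀ k, k < P.r - 1 → P.ρ g (P.e k) = P.e k) ∧
      P.ρ g (P.e (P.r - 1)) ∉ P.E P.r := by
    obtain ⟨l0, hl0, hl0'⟩ := exists_skew H
    have hlt : P.r - 1 < P.r := by have := P.r_pos; omega
    have c : RootCond H (P.f (P.r - 1)) 0 l0 :=
      ⟨P.sg_f _ hlt, zero_left _ _, by rw [zero_left]; linear_combination hl0'⟩
    refine ⟨⟨_, root_mem c⟩, fun k hk => ?_, fun hmem => ?_⟩
    · show (root H _ 0 l0 c).1 (P.e k) = P.e k
      rw [root_apply, zero_right, show H.h (P.e k) (P.f (P.r - 1)) = 0 from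
        P.symm _ _ (P.ef k (P.r - 1) (by omega) hlt (by omega))]
      simp
    · have h1 : H.h ((root H _ 0 l0 c).1 (P.e (P.r - 1))) (P.e (P.r - 1)) = 0 :=
        P.mem_perp.1 (P.E_le_perp le_rfl le_rfl hmem) _ (P.e_mem hlt)
      have h2 : H.h (P.e (P.r - 1)) (P.e (P.r - 1)) = 0 := P.sg_e _ hlt
      have h3 : H.h (P.e (P.r - 1)) (P.f (P.r - 1)) ≠ 0 := P.pair _ hlt
      rw [root_apply, zero_right, H.add_left, H.add_left, HermSpace.smul_left, HermSpace.smul_left,
        zero_left, h2] at h1
      simp only [neg_zero, zero_add, mul_zero, mul_eq_zero] at h1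
      rcases h1 with (h1 | h1) | h1
      · exact hl0 h1
      · exact h3 h1
      · exact h3 (h_comm_zero _ h1)
  have main : Geo p (rootGen H ⧸ Subgroup.center (rootGen H)) rk exc := by
    rcases Nat.lt_or_ge n 6 with h6 | h6
    swap
    · exact hS.geo_three (show 3 ≤ n / 2 by omega) hmax hlast rk exc
    rcases Nat.lt_or_ge n 4 with h4 | h4
    · exact hS.geo_one (show n / 2 = 1 by omega) hmid hmax hlast (hrk (by omega)) exc
    have h2 : P.r = 2 := by omega
    refine hS.geo_apart h2.ge hmax hlast ?_ rk exc
    have hQ : Nat.card F = q ^ 2 := by rw [Nat.card_eq_fintype_card, hF]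
    have hq := two_le_of_card hF
    have hspan1 : P.E 1 = Submodule.span F {P.e 0} := by
      rw [P.E_succ, P.E_zero, bot_sup_eq]
    rcases Nat.lt_or_ge n 5 with h5 | h5
    · -- `n = 4`
      have hn4 : n = 4 := by omega
      set k := H.h (P.e 1) (P.f 1) with hkdef
      have hk : k ≠ 0 := P.pair 1 (by omega)
      let φ : F → Submodule F (Fin n → F) :=
        fun a => Submodule.span F {P.e 0, a • P.e 1 + P.f 1}
      let T : Finset F := Finset.univ.filter fun a => a * k + (a * k) ^ q = 0
      have hc4 : ∀ a : F, RootCond H (P.e 1) (a • P.f 0) 0 := by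
        intro a
        refine ⟨P.sg_e 1 (by omega), ?_, ?_⟩
        · rw [HermSpace.smul_left, show H.h (P.f 0) (P.e 1) = 0 from
            P.ef 1 0 (by omega) (by omega) (by omega), mul_zero]
        · rw [HermSpace.smul_left, HermSpace.smul_right,
            show H.h (P.f 0) (P.f 0) = 0 from P.sg_f 0 (by omega)]
          simp
      refine (hS.card_ne (P.E 2) (P.E 1) (q + 1) (insert (P.E 2) (T.image φ)) ?_ ?_
        (α := F) (fun a => ⟨root H (P.e 1) (a • P.f 0) 0 (hc4 a), root_mem _⟩) ?_ ?_ ?_).symm
      · refine (Finset.card_insert_le _ _).trans (Nat.add_le_add_right ?_ 1)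
        exact Finset.card_image_le.trans (card_skew_le hF k hk T fun x hx => (Finset.mem_filter.1 hx).2)
      · intro g hg
        have hge : P.ρ g (P.e 0) ∈ Submodule.span F {P.e 0} := by
          rw [← hspan1]; exact stab_apply_mem hg (P.e_mem (by omega))
        obtain ⟨a0, ha0⟩ := Submodule.mem_span_singleton.1 hge
        have ha00 : a0 ≠ 0 := by
          rintro rfl
          rw [zero_smul] at ha0
          exact P.pair 0 P.r_pos (by
            rw [(LinearEquiv.map_eq_zero_iff (P.ρ g)).1 ha0.symm, map_zero])
        set y := P.ρ g (P.e 1) with hy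
        have hy0 : H.h y (P.e 0) = 0 := by
          have h1 : H.h (P.ρ g (P.e 1)) (P.ρ g (P.e 0)) = 0 :=
            (P.isometry g (P.e 0) (P.e 1)).trans (P.ee 0 1 (by omega) (by omega))
          rw [← ha0, HermSpace.smul_right, mul_eq_zero, map_eq_zero] at h1
          exact h1.resolve_left ha00
        have hyy : H.h y y = 0 := P.sg_map g _ (P.sg_e 1 (by omega))
        set d := H.h y (P.e 1) / H.h (P.f 1) (P.e 1) with hd
        have hkf : H.h (P.f 1) (P.e 1) ≠ 0 := fun h => hk (h_comm_zero _ h)
        have hperp : y - d • P.f 1 ∈ P.perp (P.E P.r) := by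
          refine P.mem_perp_E.2 fun j hj => ?_
          show H.h (y - d • P.f 1) (P.e j) = 0
          rw [sub_left, HermSpace.smul_left]
          have hj' : j = 0 ∨ j = 1 := by omega
          rcases hj' with rfl | rfl
          · rw [hy0, show H.h (P.f 1) (P.e 0) = 0 from P.ef 0 1 (by omega) (by omega) (by omega)]
            simp
          · rw [hd, div_mul_cancel₀ _ hkf, sub_self]
        have hmem := polarU_decomp hF hlam hmu hne hn hperp
        rw [show uv F n (2 * (n / 2)) = 0 by rw [uv, dif_neg (by omega)], smul_zero, sub_zero,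
          show n / 2 = 2 by omega] at hmem
        obtain ⟨z, hz, b, hb⟩ := P.mem_E_succ hmem
        rw [hspan1, Submodule.mem_span_singleton] at hz
        obtain ⟨a, rfl⟩ := hz
        have hyv : y = a • P.e 0 + b • P.e 1 + d • P.f 1 := by rw [← hb]; abel
        have hmap : (P.E 2).map (P.ρ g).toLinearMap = Submodule.span F {P.e 0, y} := by
          rw [P.E_succ, hspan1, ← Submodule.span_union, Submodule.map_span, Set.image_union,
            Set.image_singleton, Set.image_singleton]
          show Submodule.span F ({P.ρ g (P.e 0)} ∪ {y}) = _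
          rw [← ha0, Submodule.span_union, Submodule.span_singleton_smul_eq (IsUnit.mk0 a0 ha00),
            ← Submodule.span_union]
          rfl
        rw [hmap]
        by_cases hd0 : d = 0
        · have hfr : Module.finrank F ((P.E 2).map (P.ρ g).toLinearMap) = Module.finrank F (P.E 2) :=
            LinearEquiv.finrank_map_eq _ _
          refine Finset.mem_insert.2 (Or.inl ?_)
          rw [hmap] at hfr
          refine Submodule.eq_of_le_of_finrank_eq (Submodule.span_le.2 ?_) hfr
          rintro w (rfl | rfl)
          · exact P.e_mem (by omega)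
          · rw [hyv, hd0, zero_smul, add_zero]
            exact Submodule.add_mem _ (Submodule.smul_mem _ _ (P.e_mem (by omega)))
              (Submodule.smul_mem _ _ (P.e_mem (by omega)))
        · refine Finset.mem_insert.2 (Or.inr (Finset.mem_image.2 ⟨b / d, ?_, ?_⟩))
          · refine Finset.mem_filter.2 ⟨Finset.mem_univ _, ?_⟩
            rw [hyv] at hyy
            simp only [H.add_left, add_right, HermSpace.smul_left, HermSpace.smul_right,
              show H.h (P.e 0) (P.e 0) = 0 from P.sg_e 0 (by omega),
              show H.h (P.e 1) (P.e 1) = 0 from P.sg_e 1 (by omega),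
              show H.h (P.f 1) (P.f 1) = 0 from P.sg_f 1 (by omega),
              show H.h (P.e 0) (P.e 1) = 0 from P.ee 1 0 (by omega) (by omega),
              show H.h (P.e 1) (P.e 0) = 0 from P.ee 0 1 (by omega) (by omega),
              show H.h (P.f 1) (P.e 0) = 0 from P.ef 0 1 (by omega) (by omega) (by omega),
              show H.h (P.e 0) (P.f 1) = 0 from
                P.symm _ _ (P.ef 0 1 (by omega) (by omega) (by omega)),
              ← hkdef, ← H.symm' (P.e 1) (P.f 1), mul_zero, add_zero, zero_add] at hyy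
            change b / d * k + H.conj (b / d * k) = 0
            have hdd : H.conj d ≠ 0 := conj_ne_zero _ hd0
            rw [map_mul, map_div₀]
            field_simp
            linear_combination hyy
          · show Submodule.span F {P.e 0, (b / d) • P.e 1 + P.f 1} = _
            refine le_antisymm (Submodule.span_le.2 ?_) (Submodule.span_le.2 ?_)
            · rintro w (rfl | rfl)
              · exact Submodule.subset_span (Or.inl rfl)
              · rw [show (b / d) • P.e 1 + P.f 1 = d⁻¹ • y - (d⁻¹ * a) • P.e 0 by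
                  rw [hyv, smul_add, smul_add, smul_smul, smul_smul, smul_smul,
                    inv_mul_cancel₀ hd0, one_smul, div_eq_inv_mul]
                  abel]
                exact Submodule.sub_mem _ (Submodule.smul_mem _ _ (Submodule.subset_span (Or.inr rfl)))
                  (Submodule.smul_mem _ _ (Submodule.subset_span (Or.inl rfl)))
            · rintro w (rfl | rfl)
              · exact Submodule.subset_span (Or.inl rfl)
              · rw [show y = a • P.e 0 + d • ((b / d) • P.e 1 + P.f 1) by
                  rw [hyv, smul_add, smul_smul, mul_div_cancel₀ _ hd0]; abel]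
                exact Submodule.add_mem _ (Submodule.smul_mem _ _ (Submodule.subset_span (Or.inl rfl)))
                  (Submodule.smul_mem _ _ (Submodule.subset_span (Or.inr rfl)))
      · intro a
        refine mem_stab_span ?_
        rintro _ ⟨j, hj, rfl⟩
        show (root H (P.e 1) (a • P.f 0) 0 (hc4 a)).1 (P.e j) ∈ P.E 2
        have hj2 : j < 2 := hj
        rw [root_apply, show H.h (P.e j) (P.e 1) = 0 from P.ee 1 j (by omega) (by omega)]
        simp only [zero_smul, add_zero, mul_zero]
        exact Submodule.add_mem _ (P.e_mem hj2) (Submodule.smul_mem _ _ (P.e_mem (by omega)))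
      · intro a a' haa
        set k0 := H.h (P.e 0) (P.f 0) with hk0def
        have hk0 : k0 ≠ 0 := P.pair 0 (by omega)
        have he : ∀ (c : F) (hc : RootCond H (P.e 1) (c • P.f 0) 0),
            (root H (P.e 1) (c • P.f 0) 0 hc).1 (P.e 0) = P.e 0 + (-(H.conj c * k0)) • P.e 1 := by
          intro c hc
          rw [root_apply, show H.h (P.e 0) (P.e 1) = 0 from P.ee 1 0 (by omega) (by omega),
            HermSpace.smul_right, ← hk0def]
          simp
        have hm : P.ρ (⟨root H (P.e 1) (a • P.f 0) 0 (hc4 a), root_mem _⟩ : rootGen H) (P.e 0) ∈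
            Submodule.span F {P.ρ (⟨root H (P.e 1) (a' • P.f 0) 0 (hc4 a'), root_mem _⟩ : rootGen H) (P.e 0)} := by
          have h' : (P.E 1).map _ = (P.E 1).map _ := haa
          simp only [hspan1, Submodule.map_span, Set.image_singleton] at h'
          exact (SetLike.ext_iff.1 h' _).1 (Submodule.mem_span_singleton_self _)
        obtain ⟨β, hβ⟩ := Submodule.mem_span_singleton.1 hm
        change β • (root H (P.e 1) (a' • P.f 0) 0 (hc4 a')).1 (P.e 0) =
          (root H (P.e 1) (a • P.f 0) 0 (hc4 a)).1 (P.e 0) at hβ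
        rw [he, he] at hβ
        have e1 := congrArg (P.L (P.f 0)) hβ
        have e2 := congrArg (P.L (P.f 1)) hβ
        simp only [map_add, map_smul, smul_eq_mul,
          P.symm _ _ (P.ef 1 0 (by omega) (by omega) (by omega)),
          P.symm _ _ (P.ef 0 1 (by omega) (by omega) (by omega)), mul_zero, add_zero, zero_add] at e1 e2
        have hβ1 : β = 1 := mul_right_cancel₀ (P.pair 0 (by omega)) (by rw [e1, one_mul])
        subst hβ1
        rw [one_mul] at e2
        have e3 := mul_right_cancel₀ (P.pair 1 (by omega)) e2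
        rw [neg_inj] at e3
        exact ((stdHerm hF n).conj.injective (mul_right_cancel₀ hk0 e3)).symm
      · rw [hQ]; nlinarith
    · -- `n = 5`
      have hn5 : n = 5 := by omega
      obtain ⟨S, hScard, hup⟩ := exists_lines (P := P) (by omega)
      obtain ⟨l0, hl0, hl0'⟩ := exists_skew H
      set v := uv F n 4 with hv
      have hvv : H.h v v = 1 := by
        rw [hv, h_uv_right, dif_pos (show 4 < n by omega), uv, dif_pos (show 4 < n by omega)]; simp
      have hvu : ∀ (c : F) (i : ℕ), i < 2 → H.h v (uIso n c i) = 0 := by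
        intro c i hi
        rw [h_uIso_right hF v c (by omega), hv, uv, dif_pos (show 4 < n by omega)]
        simp [Pi.single_apply, Fin.ext_iff, show (2 * i = 4) = False from eq_false (by omega),
          show (2 * i = 3) = False from eq_false (by omega)]
      choose t ht using fun w : F =>
        H.exists_trace (c := -(H.h (w • v) (w • v))) (by rw [map_neg, conj_diag])
      let L' : F × Bool → F := fun z => t z.1 + if z.2 then l0 else 0
      have hc : ∀ z : F × Bool, RootCond H (P.f 1) (z.1 • v) (L' z) := fun z =>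
        ⟨P.sg_f 1 (by omega), by
          rw [HermSpace.smul_left, show H.h v (P.f 1) = 0 from hvu _ 1 (by omega), mul_zero],
          by
            have := ht z.1
            show L' z + H.conj (L' z) + _ = 0
            simp only [L']
            split
            · rw [map_add]; linear_combination this + hl0'
            · rw [add_zero]; linear_combination this⟩
      have hroot : ∀ (z : F × Bool) x, (root H (P.f 1) (z.1 • v) (L' z) (hc z)).1 x =
          x + H.h x (P.f 1) • z.1 • v + (-(H.h x (z.1 • v)) + L' z * H.h x (P.f 1)) • P.f 1 :=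
        fun z x => root_apply _ x
      refine hS.card_ne (P.E 1) (P.E 2) _ S hScard hup (α := F × Bool)
        (fun z => ⟨_, root_mem (hc z)⟩) (fun z => ?_) (fun z z' hzz => ?_) ?_
      · refine mem_stab_span ?_
        rintro _ ⟨j, hj, rfl⟩
        have hj0 : j = 0 := by have : j < 1 := hj; omega
        subst hj0
        show (root H _ _ _ (hc z)).1 (P.e 0) ∈ P.E 1
        rw [hroot, show H.h (P.e 0) (P.f 1) = 0 from
          P.symm _ _ (P.ef 0 1 (by omega) (by omega) (by omega)), HermSpace.smul_right,
          h_comm_zero H (show H.h v (P.e 0) = 0 from hvu _ 0 (by omega))]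
        simpa using P.e_mem (by omega : 0 < 1)
      · set k := H.h (P.e 1) (P.f 1) with hkdef
        have hk : k ≠ 0 := P.pair 1 (by omega)
        have happ : ∀ z : F × Bool, P.ρ (⟨_, root_mem (hc z)⟩ : rootGen H) (P.e 1) =
            P.e 1 + (k * z.1) • v + (L' z * k) • P.f 1 := fun z => by
          show (root H _ _ _ (hc z)).1 (P.e 1) = _
          rw [hroot, HermSpace.smul_right,
            h_comm_zero H (show H.h v (P.e 1) = 0 from hvu _ 1 (by omega))]
          simp [smul_smul, hkdef]
        have h0 : ∀ z : F × Bool, P.ρ (⟨_, root_mem (hc z)⟩ : rootGen H) (P.e 0) = P.e 0 := fun z => by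
          show (root H _ _ _ (hc z)).1 (P.e 0) = _
          rw [hroot, show H.h (P.e 0) (P.f 1) = 0 from
            P.symm _ _ (P.ef 0 1 (by omega) (by omega) (by omega)), HermSpace.smul_right,
            h_comm_zero H (show H.h v (P.e 0) = 0 from hvu _ 0 (by omega))]
          simp
        have hm : P.ρ (⟨_, root_mem (hc z)⟩ : rootGen H) (P.e 1) ∈
            (P.E 2).map (P.ρ (⟨_, root_mem (hc z')⟩ : rootGen H)).toLinearMap :=
          (SetLike.ext_iff.1 hzz _).1 ⟨_, P.e_mem (by omega), rfl⟩
        obtain ⟨u, hu, hu'⟩ := hm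
        obtain ⟨a, ha, β, rfl⟩ := P.mem_E_succ hu
        rw [hspan1, Submodule.mem_span_singleton] at ha
        obtain ⟨α, rfl⟩ := ha
        change P.ρ _ (α • P.e 0 + β • P.e 1) = _ at hu'
        rw [map_add, map_smul, map_smul, h0, happ, happ] at hu'
        have e1 := congrArg (P.L (P.f 1)) hu'
        have e2 := congrArg (P.L v) hu'
        have e3 := congrArg (P.L (P.e 1)) hu'
        have hLv : ∀ i, i < 2 → ∀ c : F, P.L v (uIso n c i) = 0 := fun i hi c =>
          P.symm _ _ (show P.L (uIso n c i) v = 0 from hvu c i hi)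
        simp only [map_add, map_smul, smul_eq_mul,
          P.symm _ _ (P.ef 0 1 (by omega) (by omega) (by omega)),
          show P.L (P.f 1) v = 0 from hvu _ 1 (by omega), P.ff 1 1 (by omega) (by omega),
          mul_zero, add_zero, zero_add] at e1
        have hβ1 : β = 1 := mul_right_cancel₀ (P.pair 1 (by omega)) (by rw [e1, one_mul])
        subst hβ1
        simp only [map_add, map_smul, smul_eq_mul, show P.L v (P.e 0) = 0 from hLv 0 (by omega) _,
          show P.L v (P.e 1) = 0 from hLv 1 (by omega) _, show P.L v (P.f 1) = 0 from hLv 1 (by omega) _,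
          show P.L v v = 1 from hvv, mul_zero, add_zero, zero_add, mul_one, one_mul] at e2
        simp only [map_add, map_smul, smul_eq_mul, P.ee 1 0 (by omega) (by omega),
          P.ee 1 1 (by omega) (by omega), show P.L (P.e 1) v = 0 from hvu _ 1 (by omega),
          mul_zero, add_zero, zero_add, one_mul] at e3
        have hw : z'.1 = z.1 := mul_left_cancel₀ hk e2
        have hL : L' z' = L' z := mul_right_cancel₀ hk (mul_right_cancel₀
          (fun h => hk (P.symm _ _ h)) e3)
        obtain ⟨w, b⟩ := z
        obtain ⟨w', b'⟩ := z'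
        simp only at hw
        subst hw
        simp only [L', add_right_inj] at hL
        rcases b with _ | _ <;> rcases b' with _ | _ <;> simp_all
      · rw [Nat.card_prod, show Nat.card Bool = 2 by simp, hQ]
        nlinarith
  have hmap : (Subgroup.center (Cfsg.SU n F q)).map (suEquivRoot hF hn : Cfsg.SU n F q →* _) =
      Subgroup.center (rootGen H) := by
    ext b
    constructor
    · rintro ⟨a, ha, rfl⟩
      refine Subgroup.mem_center_iff.2 fun b => ?_
      obtain ⟨b', rfl⟩ := (suEquivRoot hF hn).surjective b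
      show suEquivRoot hF hn b' * suEquivRoot hF hn a = suEquivRoot hF hn a * suEquivRoot hF hn b'
      rw [← map_mul, ← map_mul, Subgroup.mem_center_iff.1 ha]
    · intro hb
      refine ⟨(suEquivRoot hF hn).symm b,
        Subgroup.mem_center_iff.2 fun a => (suEquivRoot hF hn).injective ?_,
        (suEquivRoot hF hn).apply_symm_apply b⟩
      rw [map_mul, map_mul, (suEquivRoot hF hn).apply_symm_apply]
      exact Subgroup.mem_center_iff.1 hb _
  exact main.of_mulEquiv (QuotientGroup.congr _ _ (suEquivRoot hF hn) hmap).symm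

end CfsgLib.PMinimalLie
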