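import Cfsg.Agent.Lib.PMinimalLie.ChevGeo
import Cfsg.Agent.Lib.PMinimalLie.TitsGeo
import Cfsg.Agent.Lib.PMinimalLie.Small
import Cfsg.Agent.Lib.PMinimalLie.Symp
import Cfsg.Agent.Lib.PMinimalLie.Unitary
import Cfsg.Agent.Lib.PMinimalLie.Linear
import Cfsg.Agent.Lib.PMinimalLie.Orth
import Cfsg.Agent.Lib.SylowOver.Main
import Cfsg.Agent.Lib.ReeF4Tits.Simple
import Cfsg.Agent.Lib.Linear.SympSimple
import Cfsg.Agent.Lib.Components.GenFitting
import Cfsg.Prelude.Def_AlmostLie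
import Cfsg.Prelude.Def_LocalEven

/-!
The simple groups of Lie type in characteristic `p` as socles of `p`-minimal groups.
-/

set_option autoImplicit false

namespace CfsgLib.PMinimalLie

open Cfsg CfsgLib.SylowOver CfsgLib.Classical.Quad

/-- What is used of a possible socle. -/
def Good (p : ℕ) (K : Type*) [Group K] (rk exc : Prop) : Prop :=
  IsSimpleGroup K ∧ (Geo p K rk exc ∨ ∃ U : Sylow p K, Split (U : Subgroup K))

theorem Good.of_mulEquiv {p : ℕ} [Fact p.Prime] {K H : Type*} [Group K] [Group H] [Finite H]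
    {rk exc : Prop} (e : H ≃* K) (h : Good p K rk exc) : Good p H rk exc := by
  have : Finite K := Finite.of_equiv _ e.toEquiv
  obtain ⟨hs, h⟩ := h
  refine ⟨e.isSimpleGroup_congr.2 hs, h.imp (fun g => g.of_mulEquiv e.symm) fun hsplit => ?_⟩
  obtain ⟨U⟩ := (inferInstance : Nonempty (Sylow p H))
  exact ⟨U, split_forall_sylow hsplit e.symm U⟩

theorem four_le_of_charTwo {F : Type*} [Field F] [Fintype F] [CharP F 2] (h : 3 ≤ Fintype.card F) :
    4 ≤ Fintype.card F := by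
  obtain ⟨⟨n, hn0⟩, -, hn⟩ := FiniteField.card F 2
  simp only [PNat.mk_coe] at hn
  rcases n with _ | _ | k
  · omega
  · simp at hn; omega
  · rw [hn, pow_succ, pow_succ]
    have := Nat.one_le_two_pow (n := k)
    omega

theorem exists_ne_zero_one {F : Type*} [Field F] [Fintype F] (h3 : 3 ≤ Fintype.card F) :
    ∃ x : F, x ≠ 0 ∧ x ≠ 1 := by
  classical
  have hc : ({0, 1} : Finset F).card < Fintype.card F :=
    (Finset.card_le_two).trans_lt h3
  obtain ⟨x, -, hx⟩ := Finset.exists_mem_notMem_of_card_lt_card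
    (s := ({0, 1} : Finset F)) (t := Finset.univ) (by simpa using hc)
  exact ⟨x, by simpa [not_or] using hx⟩

theorem geo_chev_checked {p : ℕ} [Fact p.Prime] {F : Type*} [Field F] [Fintype F] [CharP F p]
    (D : Lie.ChevalleyDatum)
    (hD : D ∈ [Lie.chevG2, Lie.chevB2, Lie.chevD4, Lie.chevF4, Lie.chevE6, Lie.chevE7, Lie.chevE8])
    (hs : IsSimpleGroup ↥(D.group F)) (i j : Fin D.rank)
    (h : (Finset.univ.filter fun r : Fin D.nroots => OutAt D i.val r.val).card ≠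
      (Finset.univ.filter fun r : Fin D.nroots => OutAt D j.val r.val).card) (rk exc : Prop) :
    Geo p ↥(D.group F) rk exc := by
  obtain ⟨T, hc, hcomm⟩ := CfsgLib.Chev.exists_checked' hD
  exact geo_chev_of_count hc hcomm hs i j h rk exc

theorem count_F4 : (Finset.univ.filter fun r : Fin Lie.chevF4.nroots => OutAt Lie.chevF4 0 r.val).card ≠
    (Finset.univ.filter fun r : Fin Lie.chevF4.nroots => OutAt Lie.chevF4 1 r.val).card := by
  decide +kernel

theorem count_E6 : (Finset.univ.filter fun r : Fin Lie.chevE6.nroots => OutAt Lie.chevE6 0 r.val).card ≠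
    (Finset.univ.filter fun r : Fin Lie.chevE6.nroots => OutAt Lie.chevE6 1 r.val).card := by
  decide +kernel

theorem count_E7 : (Finset.univ.filter fun r : Fin Lie.chevE7.nroots => OutAt Lie.chevE7 0 r.val).card ≠
    (Finset.univ.filter fun r : Fin Lie.chevE7.nroots => OutAt Lie.chevE7 1 r.val).card := by
  decide +kernel

theorem count_E8 : (Finset.univ.filter fun r : Fin Lie.chevE8.nroots => OutAt Lie.chevE8 0 r.val).card ≠
    (Finset.univ.filter fun r : Fin Lie.chevE8.nroots => OutAt Lie.chevE8 1 r.val).card := by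
  decide +kernel

theorem good_suzuki {F : Type*} [Field F] [Fintype F] {m : ℕ} [Fact (Nat.Prime 2)] (hm : 1 ≤ m)
    (hF : Fintype.card F = 2 ^ (2 * m + 1)) {rk : Prop} (hrk : rk) (exc : Prop) :
    Good 2 (Cfsg.Lie.Sz F (2 ^ (m + 1))) rk exc := by
  have h : CfsgLib.Suzuki.SzHyp F m := ⟨hm, hF⟩
  refine ⟨CfsgLib.SuzukiMatrix.isSimpleGroup_lieSz h, Or.inl ?_⟩
  refine Geo.of_mulEquiv (K := Cfsg.Sz F m) ?_ (CfsgLib.SuzukiMatrix.szEquiv h)
  obtain ⟨U⟩ := (inferInstance : Nonempty (Sylow 2 (Cfsg.Sz F m)))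
  obtain ⟨hmax, huniq⟩ := CfsgLib.Suzuki.sylow_unique_maximal h U
  have hfam : Family (U : Subgroup (Cfsg.Sz F m))
      fun _ : Unit => Subgroup.normalizer ((U : Subgroup (Cfsg.Sz F m)) : Set (Cfsg.Sz F m)) := by
    refine ⟨fun _ => Subgroup.le_normalizer, fun M hM hUM => ⟨(), ?_⟩, fun _ => ?_⟩
    · rcases eq_top_or_exists_le_coatom M with h0 | ⟨C, hC, hle⟩
      · exact absurd h0 hM
      · exact (huniq C hC (hUM.trans hle)) ▸ hle
    · obtain ⟨x, -, hx⟩ := SetLike.not_le_iff_exists.1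
        fun h : (⊤ : Subgroup (Cfsg.Sz F m)) ≤ _ => hmax.1 (top_le_iff.1 h)
      exact ⟨x, hx, fun j hj => absurd rfl hj⟩
  exact ⟨U, hfam.sep, Or.inr ⟨hfam.infLe fun x hx => hx (), Or.inl hrk⟩⟩

theorem good_ree {F : Type*} [Field F] [Fintype F] {m : ℕ} [Fact (Nat.Prime 3)] (hm : 1 ≤ m)
    (hK : Fintype.card F = 3 ^ (2 * m + 1)) {rk : Prop} (hrk : rk) (exc : Prop) :
    Good 3 ↥(Cfsg.Lie.twistedG2 F (3 ^ m)) rk exc := by
  obtain ⟨hchar, θ, hθ, hθe⟩ := CfsgLib.ReeG2.exists_theta hK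
  have := hchar
  have hq : 3 < Fintype.card F := by
    rw [hK]
    exact lt_self_pow₀ (by norm_num) (by omega)
  have hS := isSplit_pair hm hK hθ
  have hs := (CfsgLib.ReeG2.simple hθ hq).1
  have e := MulEquiv.subgroupCongr (CfsgLib.ReeG2.model hθ hθe)
  exact ⟨e.isSimpleGroup_congr.2 hs,
    Or.inl (Geo.of_mulEquiv (geo_of_rankOne hS hs (Set.singleton_nonempty _) hrk exc) e.symm)⟩

theorem good_tits [Fact (Nat.Prime 2)] (rk exc : Prop) :
    Good 2 Cfsg.Lie.TitsGroup rk exc := by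
  refine ⟨?_, Or.inl (geo_tits rk exc)⟩
  obtain ⟨σ, hσ⟩ := CfsgLib.ReeF4.exists_sigma (K := ZMod 2) (m := 0) (by simp)
  have h := CfsgLib.ReeF4Tits.derived_isSimple hσ
  have key : ∀ e : ℕ, e = 2 ^ 0 →
      IsSimpleGroup ↥(commutator ↥(Cfsg.Lie.twistedF4 (ZMod 2) e)) := by
    rintro e rfl
    exact h
  exact key 1 (pow_zero 2).symm

/-- The cases. -/
theorem good_of_isChevSimple {p : ℕ} [Fact p.Prime] {K : Type*} [Group K] [Finite K]
    (h : IsChevSimple p K) :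
    Good p K (IsLieRankOneChar p K) ((∃ (F : Type) (_ : Field F) (_ : Fintype F) (_ : CharP F 2),
        Nonempty (K ≃* Matrix.ProjectiveSpecialLinearGroup (Fin 3) F)) ∨
      (∃ (F : Type) (_ : Field F) (_ : Fintype F) (_ : CharP F 2), 4 ≤ Fintype.card F ∧
        Nonempty (K ≃* Cfsg.PSp 2 F)) ∨ Nonempty (K ≃* ↥(alternatingGroup (Fin 6)))) := by
  classical
  rcases h with h | ⟨rfl, h⟩ | ⟨rfl, F, iF, iT, hF, ⟨e⟩⟩
  · rcases h with ⟨F, iF, iT, iC, n, hn, hn2, ⟨e⟩⟩ | ⟨F, iF, iT, iC, m, hm, hm2, ⟨e⟩⟩ |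
      ⟨F, iF, iT, iC, n, q, hq, hn, hn3, ⟨e⟩⟩ | ⟨F, iF, iT, iC, m, hm, hodd, ⟨e⟩⟩ |
      ⟨F, iF, iT, iC, m, hm, ⟨e⟩⟩ | ⟨F, iF, iT, iC, m, a, b, hm, hab, ⟨e⟩⟩ | hex | htw |
      ⟨hp, F, iF, iT, m, hm, hq, ⟨e⟩⟩ | ⟨hp, F, iF, iT, m, hm, hq, ⟨e⟩⟩ |
      ⟨hp, F, iF, iT, m, hm, hq, ⟨e⟩⟩
    · refine Good.of_mulEquiv e ⟨CfsgLib.Linear.isSimpleGroup_PSL_fin n hn fun h2 => by
          rw [Nat.card_eq_fintype_card]; exact hn2 h2,
        Or.inl (geo_psl hn hn2 _ _ (fun h2 => ?_) fun h3 hp2 => ?_)⟩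
      · subst h2
        exact Or.inl ⟨F, iF, iT, iC, hn2 rfl, ⟨e⟩⟩
      · subst h3 hp2
        exact Or.inl ⟨F, iF, iT, iC, ⟨e⟩⟩
    · refine Good.of_mulEquiv e ⟨CfsgLib.Linear.Symp.isSimpleGroup_PSp (by omega) ?_,
        Or.inl (geo_psp hm hm2 _ _ fun h2 hp2 => ?_)⟩
      · rcases hm.eq_or_lt with h2 | h2
        · exact Or.inr (Or.inl ⟨h2.symm, hm2 h2.symm⟩)
        · exact Or.inl h2
      · subst h2 hp2
        exact Or.inr (Or.inl ⟨F, iF, iT, iC, four_le_of_charTwo (hm2 rfl), ⟨e⟩⟩)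
    · refine Good.of_mulEquiv e ⟨CfsgLib.Classical.Herm.isSimpleGroup_psu hq hn hn3,
        Or.inl (geo_psu hq hn hn3 (fun h3 => ?_) _)⟩
      subst h3
      exact Or.inr (Or.inl ⟨F, iF, iT, iC, q, hq, fun h => hn3 ⟨rfl, h⟩, ⟨e⟩⟩)
    · have h2 : (2 : F) ≠ 0 := by
        refine Ring.two_ne_zero ?_
        intro h2
        have := ringChar.charP F
        obtain ⟨k, -, hk⟩ := FiniteField.card F (ringChar F)
        rw [h2] at hk
        rw [hk, Nat.odd_pow_iff k.ne_zero] at hodd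
        exact Nat.not_odd_iff_even.2 even_two hodd
      refine Good.of_mulEquiv e ⟨?_, Or.inl (geo_pomega_odd hm h2 _ _)⟩
      have hnd := ndPolar_hypForm (ndPolar_lineForm h2) m
      let P₀ := hypFrameKernel (R := lineForm F) (m := m) (by omega) (fun _ => 1) (by simp [lineForm_apply])
      exact (pomegaEquiv (oddEquiv m F) (oddEquiv_spec m) hnd P₀).isSimpleGroup_congr.2
        (isSimpleGroup_siegel_quot hnd P₀)
    · refine Good.of_mulEquiv e ⟨?_, Or.inl (geo_pomega_plus hm _ _)⟩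
      have hnd := ndPolar_hypForm (ndPolar_zeroKernel (F := F)) m
      let P₀ := hypFrameThree (zeroKernel F) (m := m) (by omega)
      exact (pomegaEquiv (plusEquiv m F) (plusEquiv_spec m) hnd P₀).isSimpleGroup_congr.2
        (isSimpleGroup_siegel_quot hnd P₀)
    · refine Good.of_mulEquiv e ⟨?_, Or.inl (geo_pomega_minus hm hab _ _)⟩
      have hnd := ndPolar_hypForm (ndPolar_binForm hab) (m - 1)
      let P₀ := hypFrameKernel (R := binForm a b) (m := m - 1) (by omega) ![1, 0] (by simp [binForm_apply])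
      exact (pomegaEquiv (minusEquiv (m - 1) F) (minusEquiv_spec (m - 1) a b) hnd P₀).isSimpleGroup_congr.2
        (isSimpleGroup_siegel_quot hnd P₀)
    · have hsimp : ∀ (F : Type) [Field F] (D : Lie.ChevalleyDatum),
          D ∈ [Lie.chevF4, Lie.chevE6, Lie.chevE7, Lie.chevE8] → IsSimpleGroup ↥(D.group F) := by
        intro F _ D hD
        refine (CfsgLib.Chev.isSimple_group_of_cover D (List.mem_cons_of_mem _ (List.mem_cons_of_mem _
          (List.mem_cons_of_mem _ hD))) fun h => ?_).1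
        simp only [List.mem_cons, List.not_mem_nil, or_false] at h hD
        rcases hD with rfl | rfl | rfl | rfl <;> rcases h with h | h <;>
          exact absurd (congrArg (fun D : Lie.ChevalleyDatum => D.nroots) h) (by decide)
      obtain ⟨F, iF, iT, iC, ⟨h3, ⟨e⟩⟩ | ⟨⟨e⟩⟩ | ⟨⟨e⟩⟩ | ⟨⟨e⟩⟩ | ⟨⟨e⟩⟩⟩ := hex
      · have hs : IsSimpleGroup ↥(Lie.chevG2.group F) :=
          (CfsgLib.Chev.isSimple_group_of_cover Lie.chevG2 (by simp) fun _ => exists_ne_zero_one h3).1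
        obtain ⟨T, hc, hcomm⟩ := CfsgLib.Chev.exists_checked' (D := Lie.chevG2) (by simp)
        exact Good.of_mulEquiv e ⟨hs, Or.inl (geo_g2 hc hcomm hs _ _)⟩
      · exact Good.of_mulEquiv e ⟨hsimp F _ (by simp), Or.inl (geo_chev_checked _ (by simp)
          (hsimp F _ (by simp)) ⟨0, by decide +kernel⟩ ⟨1, by decide +kernel⟩ count_F4 _ _)⟩
      · exact Good.of_mulEquiv e ⟨hsimp F _ (by simp), Or.inl (geo_chev_checked _ (by simp)
          (hsimp F _ (by simp)) ⟨0, by decide +kernel⟩ ⟨1, by decide +kernel⟩ count_E6 _ _)⟩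
      · exact Good.of_mulEquiv e ⟨hsimp F _ (by simp), Or.inl (geo_chev_checked _ (by simp)
          (hsimp F _ (by simp)) ⟨0, by decide +kernel⟩ ⟨1, by decide +kernel⟩ count_E7 _ _)⟩
      · exact Good.of_mulEquiv e ⟨hsimp F _ (by simp), Or.inl (geo_chev_checked _ (by simp)
          (hsimp F _ (by simp)) ⟨0, by decide +kernel⟩ ⟨1, by decide +kernel⟩ count_E8 _ _)⟩
    · obtain ⟨F, iF, iT, iC, q, hpp, ⟨hq, ⟨e⟩⟩ | ⟨hq, ⟨e⟩⟩⟩ := htw
      · exact Good.of_mulEquiv e ⟨(CfsgLib.Twisted.E6.simple_group hpp hq).1,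
          Or.inl (geo_twistedE6 hpp hq _ _)⟩
      · exact Good.of_mulEquiv e ⟨(CfsgLib.Twisted.D4.simple_group hpp hq).1,
          Or.inl (geo_twistedD4 hpp hq _ _)⟩
    · subst hp
      exact Good.of_mulEquiv e (good_suzuki hm hq
        (Or.inr (Or.inr (Or.inl ⟨rfl, F, iF, iT, m, hm, hq, ⟨e⟩⟩))) _)
    · subst hp
      obtain ⟨σ, hσ⟩ := CfsgLib.ReeF4.exists_sigma hq
      exact Good.of_mulEquiv e ⟨(CfsgLib.ReeF4.simple_group hσ hm).1,
        Or.inl (geo_twistedF4 hm hq _ _)⟩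
    · subst hp
      exact Good.of_mulEquiv e (good_ree hm hq
        (Or.inr (Or.inr (Or.inr ⟨rfl, Or.inl ⟨F, iF, iT, m, hm, hq, ⟨e⟩⟩⟩))) _)
  · rcases h with ⟨⟨e⟩⟩ | ⟨F, iF, iT, hF, ⟨e⟩⟩ | ⟨⟨e⟩⟩
    · exact Good.of_mulEquiv e ⟨alternatingGroup.isSimpleGroup (by simp),
        Or.inl (geo_altSix _ (Or.inr (Or.inr ⟨e⟩)))⟩
    · exact Good.of_mulEquiv e ⟨CfsgLib.Classical.Herm.isSimpleGroup_psu (by rw [hF]; norm_num) le_rfl
        (by norm_num), Or.inr (split_psuThreeThree hF)⟩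
    · exact Good.of_mulEquiv (K := Cfsg.Lie.TitsGroup) e (good_tits _ _)
  · refine Good.of_mulEquiv e ⟨CfsgLib.Linear.isSimpleGroup_PSL_fin 2 le_rfl fun _ => by
        rw [Nat.card_eq_fintype_card, hF]; norm_num,
      Or.inl (geo_pslTwoEight hF ?_ _)⟩
    exact Or.inr (Or.inr (Or.inr ⟨rfl, Or.inr ⟨F, iF, iT, hF, ⟨e⟩⟩⟩))

/-- `p`-minimal groups whose socle is of Lie type in characteristic `p`. -/
theorem final {X : Type*} [Group X] [Finite X] {p : ℕ} [Fact p.Prime] (hX : Cfsg.IsPMinimal p X)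
    (hK : Cfsg.IsChevSimple p ↥(Cfsg.generalizedFittingSubgroup X))
    (U : Sylow p ↥(Cfsg.generalizedFittingSubgroup X)) :
    IsCoatom (Subgroup.normalizer (((U : Subgroup ↥(Cfsg.generalizedFittingSubgroup X)).map
        (Cfsg.generalizedFittingSubgroup X).subtype : Subgroup X) : Set X)) ∧
      (Cfsg.IsLieRankOneChar p ↥(Cfsg.generalizedFittingSubgroup X) ∨
        (p = 2 ∧ Cfsg.generalizedFittingSubgroup X ≠ ⊤ ∧
          ((∃ (F : Type) (_ : Field F) (_ : Fintype F) (_ : CharP F 2),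
              Nonempty (↥(Cfsg.generalizedFittingSubgroup X) ≃* Matrix.ProjectiveSpecialLinearGroup (Fin 3) F)) ∨
            (∃ (F : Type) (_ : Field F) (_ : Fintype F) (_ : CharP F 2), 4 ≤ Fintype.card F ∧
              Nonempty (↥(Cfsg.generalizedFittingSubgroup X) ≃* Cfsg.PSp 2 F)) ∨
            Nonempty (↥(Cfsg.generalizedFittingSubgroup X) ≃* ↥(alternatingGroup (Fin 6)))))) := by
  obtain ⟨hs, h⟩ := good_of_isChevSimple hK
  have hp : p ∣ Nat.card ↥(Cfsg.generalizedFittingSubgroup X) := by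
    by_contra hp
    have h0 : Cfsg.pCore p ↥(⊥ : Subgroup ↥(Cfsg.generalizedFittingSubgroup X)) = ⊥ :=
      CfsgLib.Solvable.pCore_eq_bot_iff.2 fun M _ _ => Subsingleton.elim _ _
    have h1 := noProperCoreFree_of_isChevSimple hK (⊥ : Subgroup ↥(Cfsg.generalizedFittingSubgroup X)) h0 (by rwa [Subgroup.index_bot])
    have := hs.toNontrivial
    exact bot_ne_top h1
  rcases h with h | h
  · obtain ⟨hsep, h'⟩ := h.forall_sylow (MulEquiv.refl _) U
    exact main hX _ hs hp U hsep h'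
  · exact (split_false hX _ hs hp U (split_forall_sylow h (MulEquiv.refl _) U)).elim

end CfsgLib.PMinimalLie
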