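import Cfsg.Agent.Lib.PMinimalLie.Family
import Cfsg.Agent.Lib.SylowOver.Radical
import Mathlib.LinearAlgebra.Dual.Lemmas
import Mathlib.FieldTheory.Finite.Basic

/-!
The polar geometries: the flag of totally singular subspaces fixed by a Sylow `p`-subgroup in
characteristic `p`, and the stabilisers over it.
-/

set_option autoImplicit false

namespace CfsgLib.PMinimalLie

open CfsgLib.SylowOver

/-- A classical group with a form and a flag of `r` totally singular subspaces. -/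
structure Polar (F V G : Type*) [Field F] [AddCommGroup V] [Module F V] [Group G] where
  ρ : G →* (V ≃ₗ[F] V)
  L : V → V →ₗ[F] F
  τ : F →+* F
  L_add : ∀ a b, L (a + b) = L a + L b
  L_smul : ∀ (c : F) a, L (c • a) = τ c • L a
  L_inj : ∀ a, L a = 0 → a = 0
  symm : ∀ a b, L a b = 0 → L b a = 0
  isometry : ∀ g a b, L (ρ g a) (ρ g b) = L a b
  Sg : V → Prop
  sg_smul : ∀ (c : F) a, Sg a → Sg (c • a)
  sg_add : ∀ a b, Sg a → Sg b → L a b = 0 → Sg (a + b)
  sg_self : ∀ a, Sg a → L a a = 0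
  sg_map : ∀ g a, Sg a → Sg (ρ g a)
  r : ℕ
  r_pos : 1 ≤ r
  e : ℕ → V
  f : ℕ → V
  sg_e : ∀ i, i < r → Sg (e i)
  sg_f : ∀ i, i < r → Sg (f i)
  ee : ∀ i j, i < r → j < r → L (e i) (e j) = 0
  ff : ∀ i j, i < r → j < r → L (f i) (f j) = 0
  ef : ∀ i j, i < r → j < r → i ≠ j → L (e i) (f j) = 0
  pair : ∀ i, i < r → L (f i) (e i) ≠ 0
  eich : ∀ u w, Sg u → L u w = 0 → ∃ (g : G) (t c : F), t ≠ 0 ∧
    ∀ x, ρ g x = x + (t * L w x) • u + L u x • w + (c * L u x) • u
  last : ∃ (g : G) (z : V) (s : F), s ≠ 0 ∧ (∀ i, i < r → L (e i) z = 0) ∧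
    (∀ x, ∃ a : F, ρ g x = x + a • e (r - 1) + (s * L (e (r - 1)) x) • z) ∧
    (∀ x, L (e (r - 1)) x = 0 → L z x = 0 → ρ g x = x) ∧
    (∀ x, L (e (r - 1)) x = 0 → ρ g x - x ∈ Submodule.span F {e (r - 1)}) ∧
    ((∀ a : F, a • e (r - 1) ≠ z) ∧ z ∉ Submodule.span F (e '' Set.Iio r) ∨
      (z = 0 ∧ ∀ x, L (e (r - 1)) x ≠ 0 → ρ g x ≠ x))

namespace Polar

variable {F V G : Type*} [Field F] [AddCommGroup V] [Module F V] [Group G] (P : Polar F V G)

/-- The members of the flag. -/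
def E (i : ℕ) : Submodule F V := Submodule.span F (P.e '' Set.Iio i)

/-- The perpendicular. -/
def perp (W : Submodule F V) : Submodule F V := perpOf P.L W

theorem mem_perp {W : Submodule F V} {x : V} : x ∈ P.perp W ↔ ∀ w ∈ W, P.L w x = 0 := mem_perpOf

theorem L_zero : P.L 0 = 0 := by
  have h := P.L_smul 0 0
  rwa [zero_smul, map_zero, zero_smul] at h

theorem mem_perp_E {i : ℕ} {x : V} : x ∈ P.perp (P.E i) ↔ ∀ j < i, P.L (P.e j) x = 0 := by
  refine ⟨fun h j hj => P.mem_perp.1 h _ (Submodule.subset_span ⟨j, hj, rfl⟩), fun h => ?_⟩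
  refine mem_perpOf_span (fun a b ha hb => ?_) (fun c a ha => ?_) ?_ ?_
  · rw [P.L_add, LinearMap.add_apply, ha, hb, add_zero]
  · rw [P.L_smul, LinearMap.smul_apply, ha, smul_zero]
  · rw [P.L_zero]; rfl
  · rintro _ ⟨j, hj, rfl⟩
    exact h j hj

theorem e_mem {i j : ℕ} (h : j < i) : P.e j ∈ P.E i := Submodule.subset_span ⟨j, h, rfl⟩

theorem E_zero : P.E 0 = ⊥ := by
  rw [E, Submodule.span_eq_bot]
  rintro x ⟨j, hj, -⟩
  exact absurd hj (Nat.not_lt_zero j)

theorem E_mono {i j : ℕ} (h : i ≤ j) : P.E i ≤ P.E j :=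
  Submodule.span_mono (Set.image_mono (Set.Iio_subset_Iio h))

theorem E_succ (i : ℕ) : P.E (i + 1) = P.E i ⊔ Submodule.span F {P.e i} := by
  rw [E, E, ← Submodule.span_union]
  congr 1
  ext x
  constructor
  · rintro ⟨j, hj, rfl⟩
    rcases Nat.lt_succ_iff_lt_or_eq.1 hj with h | h
    · exact Or.inl ⟨j, h, rfl⟩
    · exact Or.inr (by rw [h]; rfl)
  · rintro (⟨j, hj, rfl⟩ | h)
    · exact ⟨j, Nat.lt_succ_of_lt hj, rfl⟩
    · exact ⟨i, Nat.lt_succ_self i, h.symm⟩

theorem mem_E_succ {i : ℕ} {x : V} (hx : x ∈ P.E (i + 1)) :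
    ∃ a ∈ P.E i, ∃ c : F, x = a + c • P.e i := by
  rw [P.E_succ, Submodule.mem_sup] at hx
  obtain ⟨a, ha, b, hb, rfl⟩ := hx
  obtain ⟨c, rfl⟩ := Submodule.mem_span_singleton.1 hb
  exact ⟨a, ha, c, rfl⟩

theorem L_f_eq_zero {i j : ℕ} (hi : i < P.r) (hj : j ≤ i) {x : V} (hx : x ∈ P.E j) :
    P.L (P.f i) x = 0 := by
  have hle : P.E j ≤ LinearMap.ker (P.L (P.f i)) := by
    rw [E, Submodule.span_le]
    rintro _ ⟨k, hk, rfl⟩
    exact P.symm _ _ (P.ef k i (lt_of_lt_of_le hk (hj.trans hi.le)) hi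
      (Nat.ne_of_lt (lt_of_lt_of_le hk hj)))
  exact hle hx

theorem e_notMem {i : ℕ} (hi : i < P.r) : P.e i ∉ P.E i := fun h =>
  P.pair i hi (P.L_f_eq_zero hi le_rfl h)

theorem E_lt {i j : ℕ} (hij : i < j) (hj : j ≤ P.r) : P.E i < P.E j :=
  lt_of_le_not_ge (P.E_mono hij.le) fun h => P.e_notMem (hij.trans_le hj) (h (P.e_mem hij))

theorem E_le_perp {i j : ℕ} (hi : i ≤ P.r) (hj : j ≤ P.r) : P.E i ≤ P.perp (P.E j) := by
  rw [E, Submodule.span_le]
  rintro _ ⟨k, hk, rfl⟩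
  exact P.mem_perp_E.2 fun l hl => P.ee l k (lt_of_lt_of_le hl hj) (lt_of_lt_of_le hk hi)

theorem sg_zero : P.Sg 0 := by
  have h := P.sg_smul 0 _ (P.sg_e 0 P.r_pos)
  rwa [zero_smul] at h

/-- Totally singular subspaces. -/
def TS (W : Submodule F V) : Prop := W ≤ P.perp W ∧ ∀ x ∈ W, P.Sg x

theorem ts_E {i : ℕ} (hi : i ≤ P.r) : P.TS (P.E i) := by
  refine ⟨P.E_le_perp hi hi, fun x hx => ?_⟩
  induction i generalizing x with
  | zero =>
    rw [P.E_zero, Submodule.mem_bot] at hx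
    exact hx ▸ P.sg_zero
  | succ i ih =>
    obtain ⟨a, ha, c, rfl⟩ := P.mem_E_succ hx
    exact P.sg_add _ _ (ih (by omega) a ha) (P.sg_smul c _ (P.sg_e i hi))
      (P.mem_perp.1 (P.E_le_perp (i := i + 1) (j := i) hi (by omega)
        (Submodule.smul_mem _ c (P.e_mem (Nat.lt_succ_self i)))) a ha)

/-- Elements acting trivially on the factors of the chain. -/
def IsFlagUnip (g : G) : Prop :=
  (∀ i < P.r, ∀ x ∈ P.E (i + 1), P.ρ g x - x ∈ P.E i) ∧
  (∀ i < P.r, ∀ x ∈ P.perp (P.E i), P.ρ g x - x ∈ P.perp (P.E (i + 1))) ∧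
  ∀ x ∈ P.perp (P.E P.r), P.ρ g x - x ∈ P.E P.r

theorem isFlagUnip_mul {a b : G} (ha : P.IsFlagUnip a) (hb : P.IsFlagUnip b) :
    P.IsFlagUnip (a * b) := by
  have e : ∀ x, P.ρ (a * b) x - x = (P.ρ a (P.ρ b x - x) - (P.ρ b x - x)) + (P.ρ b x - x) +
      (P.ρ a x - x) := fun x => by
    rw [map_mul, LinearEquiv.mul_apply, map_sub]; abel
  refine ⟨fun i hi x hx => ?_, fun i hi x hx => ?_, fun x hx => ?_⟩
  · rw [e]
    refine Submodule.add_mem _ (Submodule.add_mem _ ?_ (hb.1 i hi x hx)) (ha.1 i hi x hx)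
    exact ha.1 i hi _ (P.E_mono (Nat.le_succ i) (hb.1 i hi x hx))
  · rw [e]
    refine Submodule.add_mem _ (Submodule.add_mem _ ?_ (hb.2.1 i hi x hx)) (ha.2.1 i hi x hx)
    refine ha.2.1 i hi _ (P.mem_perp_E.2 fun j hj => ?_)
    exact P.mem_perp_E.1 (hb.2.1 i hi x hx) j (Nat.lt_succ_of_lt hj)
  · rw [e]
    refine Submodule.add_mem _ (Submodule.add_mem _ ?_ (hb.2.2 x hx)) (ha.2.2 x hx)
    exact ha.2.2 _ (P.E_le_perp le_rfl le_rfl (hb.2.2 x hx))

theorem isFlagUnip_one : P.IsFlagUnip 1 := by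
  refine ⟨?_, ?_, ?_⟩ <;> intros <;> simp

variable [Finite G]

/-- The group of these elements. -/
def V₀ : Subgroup G where
  carrier := {g | P.IsFlagUnip g}
  mul_mem' := P.isFlagUnip_mul
  one_mem' := P.isFlagUnip_one
  inv_mem' := fun {a} ha => by
    have hpow : ∀ k : ℕ, P.IsFlagUnip (a ^ k) := by
      intro k
      induction k with
      | zero => rw [pow_zero]; exact P.isFlagUnip_one
      | succ k ih => rw [pow_succ]; exact P.isFlagUnip_mul ih ha
    have h := hpow (orderOf a - 1)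
    have e : a ^ (orderOf a - 1) = a⁻¹ := eq_inv_of_mul_eq_one_left (by
      rw [← pow_succ, Nat.sub_add_cancel (orderOf_pos a), pow_orderOf_eq_one])
    rwa [e] at h

variable {p : ℕ} [Fact p.Prime] [CharP F p]

theorem isPGroup_V₀ (hρ : Function.Injective P.ρ) : IsPGroup p P.V₀ := by
  rintro ⟨g, hg⟩
  rcases subsingleton_or_nontrivial V with hV | hV
  · exact ⟨0, Subtype.ext (hρ (LinearEquiv.ext fun _ => Subsingleton.elim _ _))⟩
  have : CharP (Module.End F V) p :=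
    charP_of_injective_algebraMap (FaithfulSMul.algebraMap_injective F _) p
  set n : Module.End F V := (P.ρ g).toLinearMap - 1 with hn
  have hnapp : ∀ x, n x = P.ρ g x - x := fun x => rfl
  have h1 : ∀ k, k ≤ P.r → ∀ x, (n ^ k) x ∈ P.perp (P.E k) := by
    intro k hk x
    induction k with
    | zero => exact P.mem_perp_E.2 fun j hj => absurd hj (Nat.not_lt_zero j)
    | succ k ih =>
      rw [pow_succ', Module.End.mul_apply, hnapp]
      exact hg.2.1 k hk _ (ih (by omega))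
  have h2 : ∀ k, k ≤ P.r → ∀ x, (n ^ (P.r + 1 + k)) x ∈ P.E (P.r - k) := by
    intro k hk x
    induction k with
    | zero =>
      rw [Nat.add_zero, pow_succ', Module.End.mul_apply, hnapp]
      exact hg.2.2 _ (h1 P.r le_rfl x)
    | succ k ih =>
      rw [← Nat.add_assoc, pow_succ', Module.End.mul_apply, hnapp]
      have h := ih (by omega)
      rw [show P.r - k = P.r - (k + 1) + 1 by omega] at h
      exact hg.1 _ (by omega) _ h
  have h0 : n ^ (P.r + 1 + P.r) = 0 := by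
    ext x
    have h := h2 P.r le_rfl x
    rw [Nat.sub_self, P.E_zero, Submodule.mem_bot] at h
    simpa using h
  refine ⟨P.r + 1 + P.r, Subtype.ext (hρ ?_)⟩
  have hz : n ^ (p ^ (P.r + 1 + P.r)) = 0 :=
    pow_eq_zero_of_le (Nat.lt_pow_self (Fact.out : p.Prime).one_lt).le h0
  rw [hn, sub_pow_char_pow_of_commute p _ (Commute.one_right _), one_pow, sub_eq_zero] at hz
  rw [SubmonoidClass.coe_pow, map_pow, OneMemClass.coe_one, map_one]
  refine LinearEquiv.ext fun x => ?_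
  have h := LinearMap.congr_fun hz x
  simpa [LinearEquiv.coe_pow, Module.End.coe_pow] using h

/-- Eichler elements of the flag lie in `V₀`. -/
theorem exists_V₀ {i : ℕ} (hi : i < P.r) {w : V} (hw : ∀ j ≤ i, P.L (P.e j) w = 0) :
    ∃ g ∈ P.V₀, ∃ t c : F, t ≠ 0 ∧ ∀ x, P.ρ g x =
      x + (t * P.L w x) • P.e i + P.L (P.e i) x • w + (c * P.L (P.e i) x) • P.e i := by
  obtain ⟨g, t, c, ht, hg⟩ := P.eich (P.e i) w (P.sg_e i hi) (hw i le_rfl)
  have hd : ∀ x, P.ρ g x - x =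
      (t * P.L w x + c * P.L (P.e i) x) • P.e i + P.L (P.e i) x • w := fun x => by
    rw [hg, add_smul]; abel
  refine ⟨g, ⟨fun j hj x hx => ?_, fun j hj x hx => ?_, fun x hx => ?_⟩, t, c, ht, hg⟩
  · have hu : P.L (P.e i) x = 0 :=
      P.mem_perp.1 (P.E_le_perp (i := j + 1) (j := i + 1) hj hi hx) _ (P.e_mem (Nat.lt_succ_self i))
    rw [hd, hu, mul_zero, add_zero, zero_smul, add_zero]
    rcases Nat.lt_or_ge i j with hij | hji
    · exact Submodule.smul_mem _ _ (P.e_mem hij)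
    · have hwx : P.L w x = 0 := by
        refine P.symm _ _ ?_
        have hle : P.E (i + 1) ≤ LinearMap.ker (P.L w) := by
          rw [E, Submodule.span_le]
          rintro _ ⟨k, hk, rfl⟩
          exact P.symm _ _ (hw k (Nat.lt_succ_iff.1 hk))
        exact P.symm _ _ (hle (P.E_mono (Nat.succ_le_succ hji) hx))
      rw [hwx, mul_zero, zero_smul]
      exact Submodule.zero_mem _
  · rw [hd]
    refine Submodule.add_mem _
      (Submodule.smul_mem _ _ (P.E_le_perp hi hj (P.e_mem (Nat.lt_succ_self i)))) ?_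
    rcases Nat.lt_or_ge i j with hij | hji
    · rw [P.mem_perp_E.1 hx i hij, zero_smul]
      exact Submodule.zero_mem _
    · exact Submodule.smul_mem _ _ (P.mem_perp_E.2 fun k hk => hw k (by omega))
  · rw [hd, P.mem_perp_E.1 hx i hi, mul_zero, add_zero, zero_smul, add_zero]
    exact Submodule.smul_mem _ _ (P.e_mem hi)

/-- The element at the end of the flag lies in `V₀`. -/
theorem exists_V₀_last : ∃ g ∈ P.V₀, ∃ (z : V) (s : F), s ≠ 0 ∧ (∀ i, i < P.r → P.L (P.e i) z = 0) ∧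
    (∀ x, ∃ a : F, P.ρ g x = x + a • P.e (P.r - 1) + (s * P.L (P.e (P.r - 1)) x) • z) ∧
    (z ∉ P.E P.r ∨ (z = 0 ∧ ∀ x, P.L (P.e (P.r - 1)) x ≠ 0 → P.ρ g x ≠ x)) := by
  obtain ⟨g, z, s, hs, hz, hg, hg0, hg1, hg2⟩ := P.last
  refine ⟨g, ⟨fun j hj x hx => ?_, fun j hj x hx => ?_, fun x hx => ?_⟩, z, s, hs, hz, hg,
    hg2.imp (fun h => h.2) id⟩
  · have hu : P.L (P.e (P.r - 1)) x = 0 :=
      P.mem_perp.1 (P.E_le_perp (i := j + 1) (j := P.r) hj le_rfl hx) _ (P.e_mem (by omega))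
    have hzx : P.L z x = 0 := by
      have hle : P.E (j + 1) ≤ LinearMap.ker (P.L z) := by
        rw [E, Submodule.span_le]
        rintro _ ⟨k, hk, rfl⟩
        exact P.symm _ _ (hz k (lt_of_lt_of_le hk hj))
      exact hle hx
    rw [hg0 x hu hzx, sub_self]
    exact Submodule.zero_mem _
  · obtain ⟨a, ha⟩ := hg x
    rw [ha, add_assoc, add_sub_cancel_left]
    exact Submodule.add_mem _
      (Submodule.smul_mem _ _ (P.E_le_perp le_rfl hj (P.e_mem (by omega))))
      (Submodule.smul_mem _ _ (P.mem_perp_E.2 fun k hk => hz k (by omega)))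
  · exact (Submodule.span_le.2 (Set.singleton_subset_iff.2 (P.e_mem (i := P.r) (by have := P.r_pos; omega))))
      (hg1 x (P.mem_perp_E.1 hx _ (by have := P.r_pos; omega)))

variable [Finite F] [Finite V]

omit [Finite G] in
theorem exists_perp {W : Submodule F V} {x : V} (hx : x ∉ W) :
    ∃ w ∈ P.perp W, P.L x w ≠ 0 := by
  let Φ : Submodule F (Module.Dual F V) :=
    { carrier := {φ | ∃ a ∈ W, P.L a = φ}
      add_mem' := by
        rintro _ _ ⟨a, ha, rfl⟩ ⟨b, hb, rfl⟩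
        exact ⟨a + b, W.add_mem ha hb, P.L_add a b⟩
      zero_mem' := ⟨0, W.zero_mem, P.L_zero⟩
      smul_mem' := by
        rintro c _ ⟨a, ha, rfl⟩
        obtain ⟨d, rfl⟩ := (Finite.injective_iff_surjective.1 P.τ.injective) c
        exact ⟨d • a, W.smul_mem d ha, P.L_smul d a⟩ }
  have hnot : P.L x ∉ Φ := by
    rintro ⟨a, ha, e⟩
    refine hx ?_
    have h0 : P.L (x + (-1 : F) • a) = 0 := by
      rw [P.L_add, P.L_smul, map_neg, map_one, e]
      module
    have h1 := P.L_inj _ h0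
    have : x = a := by
      rwa [neg_one_smul, ← sub_eq_add_neg, sub_eq_zero] at h1
    exact this ▸ ha
  obtain ⟨ψ, hψx, hψ⟩ := Submodule.exists_dual_map_eq_bot_of_notMem hnot inferInstance
  refine ⟨(Module.evalEquiv F V).symm ψ, P.mem_perp.2 fun a ha => ?_, ?_⟩
  · rw [Module.apply_evalEquiv_symm_apply]
    have : ψ (P.L a) ∈ Φ.map ψ := Submodule.mem_map_of_mem ⟨a, ha, rfl⟩
    rwa [hψ, Submodule.mem_bot] at this
  · rwa [Module.apply_evalEquiv_symm_apply]

omit [Finite G] [Finite F] [Finite V] in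
/-- Invariance. -/
def Inv (H : Subgroup G) (W : Submodule F V) : Prop := ∀ g ∈ H, ∀ x ∈ W, P.ρ g x ∈ W

/-- An invariant subspace between `E i` and its perpendicular contains `e i`. -/
theorem step {W : Submodule F V} (hW : P.Inv P.V₀ W) {i : ℕ} (hi : i < P.r) (hle : P.E i ≤ W)
    (hperp : W ≤ P.perp (P.E i)) (hne : W ≠ P.E i) : P.e i ∈ W := by
  have hdiff : ∀ g ∈ P.V₀, ∀ x ∈ W, P.ρ g x - x ∈ W := fun g hg x hx =>
    W.sub_mem (hW g hg x hx) hx
  have key : ∀ x ∈ W, x ∉ P.E i → P.L (P.e i) x = 0 → P.e i ∈ W := by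
    intro x hx hxi hxe
    by_cases hx1 : x ∈ P.E (i + 1)
    · obtain ⟨a, ha, c, rfl⟩ := P.mem_E_succ hx1
      have hc : c ≠ 0 := by
        rintro rfl
        rw [zero_smul, add_zero] at hxi
        exact hxi ha
      have h := W.sub_mem hx (hle ha)
      rw [add_sub_cancel_left] at h
      have h' := W.smul_mem c⁻¹ h
      rwa [smul_smul, inv_mul_cancel₀ hc, one_smul] at h'
    · obtain ⟨w, hw, hxw⟩ := P.exists_perp hx1
      obtain ⟨g, hg, t, c, ht, hgx⟩ :=
        P.exists_V₀ hi (w := w) fun j hj => P.mem_perp_E.1 hw j (by omega)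
      have h := hdiff g hg x hx
      rw [hgx, hxe, mul_zero, zero_smul, add_zero, zero_smul, add_zero,
        add_sub_cancel_left] at h
      have hwx : t * P.L w x ≠ 0 := mul_ne_zero ht fun h0 => hxw (P.symm _ _ h0)
      have h' := W.smul_mem (t * P.L w x)⁻¹ h
      rwa [smul_smul, inv_mul_cancel₀ hwx, one_smul] at h'
  obtain ⟨x, hx, hxi⟩ := SetLike.exists_of_lt (lt_of_le_of_ne hle hne.symm)
  by_cases hxe : P.L (P.e i) x = 0
  · exact key x hx hxi hxe
  rcases Nat.lt_or_ge (i + 1) P.r with hi1 | hi1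
  · obtain ⟨g, hg, t, c, ht, hgx⟩ :=
      P.exists_V₀ hi (w := P.e (i + 1)) fun j hj => P.ee j (i + 1) (by omega) hi1
    have h := hdiff g hg x hx
    rw [hgx, add_assoc, add_assoc, add_sub_cancel_left] at h
    refine key _ h (fun hmem => ?_) ?_
    · have h0 := P.L_f_eq_zero hi1 (by omega : i ≤ i + 1) hmem
      simp only [map_add, map_smul, smul_eq_mul] at h0
      rw [P.symm _ _ (P.ef i (i + 1) hi hi1 (by omega))] at h0
      simp only [mul_zero, zero_add, add_zero, mul_eq_zero] at h0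
      rcases h0 with h0 | h0
      · exact hxe h0
      · exact P.pair _ hi1 h0
    · simp only [map_add, map_smul, smul_eq_mul, P.ee i i hi hi, P.ee i (i + 1) hi hi1, mul_zero,
        add_zero]
  · obtain ⟨g, hg, z, s, hs, hz, hgx, hg2⟩ := P.exists_V₀_last
    have hir : i = P.r - 1 := by omega
    subst hir
    have h := hdiff g hg x hx
    obtain ⟨a, ha⟩ := hgx x
    rw [ha, add_assoc, add_sub_cancel_left] at h
    rcases hg2 with hz2 | ⟨rfl, hz2⟩
    · refine key _ h (fun hmem => hz2 ?_) ?_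
      · have h1 : (s * P.L (P.e (P.r - 1)) x) • z ∈ P.E P.r := by
          have h2 := (P.E P.r).sub_mem (P.E_mono (Nat.sub_le _ _) hmem)
            ((P.E P.r).smul_mem a (P.e_mem (i := P.r) (by omega : P.r - 1 < P.r)))
          rwa [add_sub_cancel_left] at h2
        have h2 := (P.E P.r).smul_mem (s * P.L (P.e (P.r - 1)) x)⁻¹ h1
        rwa [smul_smul, inv_mul_cancel₀ (mul_ne_zero hs hxe), one_smul] at h2
      · simp only [map_add, map_smul, smul_eq_mul, P.ee _ _ hi hi, hz _ hi, mul_zero, add_zero]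
    · rw [smul_zero, add_zero] at h
      have ha0 : a ≠ 0 := by
        intro h0
        rw [h0, zero_smul, add_zero, smul_zero, add_zero] at ha
        exact hz2 x hxe ha
      have h' := W.smul_mem a⁻¹ h
      rwa [smul_smul, inv_mul_cancel₀ ha0, one_smul] at h'

/-- The invariant totally singular subspaces. -/
theorem classify {W : Submodule F V} (hW : P.Inv P.V₀ W) (hts : P.TS W) :
    (∃ i ≤ P.r, W = P.E i) ∨ P.E P.r < W := by
  by_contra hno
  push Not at hno
  have key : ∀ i ≤ P.r, P.E i ≤ W := by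
    intro i hi
    induction i with
    | zero => rw [P.E_zero]; exact bot_le
    | succ i ih =>
      have h := ih (by omega)
      rw [P.E_succ]
      refine sup_le h ((Submodule.span_singleton_le_iff_mem _ _).2 ?_)
      refine P.step hW hi h ?_ (hno.1 i (by omega))
      exact fun x hx => P.mem_perp.2 fun a ha => P.mem_perp.1 (hts.1 hx) a (h ha)
  exact hno.2 (lt_of_le_of_ne (key P.r le_rfl) (hno.1 P.r le_rfl).symm)

end Polar

end CfsgLib.PMinimalLie
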