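import Cfsg.Agent.Lib.PMinimalLie.PolarOver

/-!
The maximal overgroups of a Sylow `p`-subgroup in the classical groups of a polar geometry.
-/

set_option autoImplicit false

namespace CfsgLib.PMinimalLie

open CfsgLib.SylowOver

variable {F V G K : Type*} [Field F] [AddCommGroup V] [Module F V] [Group G] [Group K]

/-- A classical simple group with its geometry. -/
structure Setting (p : ℕ) (P : Polar F V G) (π : G →* K) : Prop where
  inj : Function.Injective P.ρ
  surj : Function.Surjective π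
  scalar : ∀ z, π z = 1 → ∃ c : F, ∀ v, P.ρ z v = c • v
  noCore : NoProperCoreFree p K

variable {p : ℕ} {P : Polar F V G} {π : G →* K}

theorem Setting.ker_le_stab [Finite V] (h : Setting p P π) (W : Submodule F V) :
    π.ker ≤ stab P.ρ W := fun z hz => by
  obtain ⟨c, hc⟩ := h.scalar z hz
  exact mem_stab_of fun x hx => by rw [hc]; exact W.smul_mem c hx

theorem Setting.comap_map_stab [Finite V] (h : Setting p P π) (W : Submodule F V) :
    ((stab P.ρ W).map π).comap π = stab P.ρ W :=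
  Subgroup.comap_map_eq_self (h.ker_le_stab W)

theorem Setting.mem_map_stab [Finite V] (h : Setting p P π) {W : Submodule F V} {g : G} :
    π g ∈ (stab P.ρ W).map π ↔ g ∈ stab P.ρ W := by
  rw [← Subgroup.mem_comap, h.comap_map_stab]

variable [Finite G] [Finite F] [Finite V] [Fact p.Prime] [CharP F p]

/-- The family of stabilisers of given subspaces. -/
theorem Setting.family (h : Setting p P π) {ι : Type*} (Ws : ι → Submodule F V) (U : Sylow p G)
    (hU : P.V₀ ≤ (U : Subgroup G)) (hle : ∀ i, (U : Subgroup G) ≤ stab P.ρ (Ws i))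
    (hcov : ∀ W : Submodule F V, W ≠ ⊥ → P.TS W → P.Inv P.V₀ W → ∃ i, stab P.ρ W ≤ stab P.ρ (Ws i))
    (hav : ∀ i, ∃ g, g ∉ stab P.ρ (Ws i) ∧ ∀ j, j ≠ i → g ∈ stab P.ρ (Ws j)) :
    Family ((U : Subgroup G).map π) fun i => (stab P.ρ (Ws i)).map π := by
  refine ⟨fun i => Subgroup.map_mono (hle i), fun M hM hUM => ?_, fun i => ?_⟩
  · obtain ⟨W, hne, hts, hinv, hMW⟩ :=
      P.exists_invariant π h.inj h.surj h.scalar h.noCore U hU M hM hUM
    obtain ⟨i, hi⟩ := hcov W hne hts hinv
    exact ⟨i, hMW.trans (Subgroup.map_mono hi)⟩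
  · obtain ⟨g, hg, hg'⟩ := hav i
    exact ⟨π g, fun hm => hg (h.mem_map_stab.1 hm), fun j hj => Subgroup.mem_map_of_mem π (hg' j hj)⟩

/-- The members of the flag as an indexed family. -/
def flag (P : Polar F V G) (i : Fin P.r) : Submodule F V := P.E (i.val + 1)

omit [Finite G] [Finite F] in
/-- An element moving exactly one member of the flag below the top. -/
theorem exists_move {b : ℕ} (hb : b + 1 < P.r) :
    ∃ g, g ∉ stab P.ρ (P.E (b + 1)) ∧ (∀ j, j ≠ b + 1 → j ≤ P.r → g ∈ stab P.ρ (P.E j)) ∧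
      ∀ x, P.L (P.f b) x = 0 → P.L (P.e (b + 1)) x = 0 → P.ρ g x = x := by
  have hbr : b < P.r := by omega
  obtain ⟨g, t, c, ht, hg⟩ := P.eich (P.e (b + 1)) (P.f b) (P.sg_e _ hb)
    (P.ef _ _ hb hbr (by omega))
  have hfix : ∀ x, P.L (P.f b) x = 0 → P.L (P.e (b + 1)) x = 0 → P.ρ g x = x := fun x h1 h2 => by
    rw [hg, h1, h2]; simp
  refine ⟨g, fun hm => ?_, fun j hj hjr => ?_, hfix⟩
  · have h1 := stab_apply_mem hm (P.e_mem (Nat.lt_succ_self b))
    rw [hg, P.ee _ _ hb hbr] at h1
    simp only [mul_zero, zero_smul, add_zero] at h1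
    have h2 := (P.E (b + 1)).sub_mem h1 (P.e_mem (Nat.lt_succ_self b))
    rw [add_sub_cancel_left] at h2
    have h3 := (P.E (b + 1)).smul_mem (t * P.L (P.f b) (P.e b))⁻¹ h2
    rw [smul_smul, inv_mul_cancel₀ (mul_ne_zero ht (P.pair b hbr)), one_smul] at h3
    exact P.e_notMem hb h3
  · refine mem_stab_span ?_
    rintro _ ⟨k, hk, rfl⟩
    have hkr : k < P.r := lt_of_lt_of_le hk hjr
    rw [hg, P.ee _ _ hb hkr]
    simp only [mul_zero, zero_smul, add_zero]
    refine Submodule.add_mem _ (P.e_mem hk) ?_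
    by_cases hkb : k = b
    · subst hkb
      exact Submodule.smul_mem _ _ (P.e_mem (by have : k < j := hk; omega))
    · rw [P.symm _ _ (P.ef k b hkr hbr hkb), mul_zero, zero_smul]
      exact Submodule.zero_mem _

/-- The family of flag stabilisers, when the flag is maximal. -/
theorem Setting.flag_family (h : Setting p P π)
    (hmax : ∀ x ∈ P.perp (P.E P.r), P.Sg x → x ∈ P.E P.r)
    (hlast : ∃ g, (∀ k, k < P.r - 1 → P.ρ g (P.e k) = P.e k) ∧ P.ρ g (P.e (P.r - 1)) ∉ P.E P.r) :
    ∃ U : Sylow p G, P.V₀ ≤ (U : Subgroup G) ∧ (U : Subgroup G) ≤ P.B₀ ∧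
      Family ((U : Subgroup G).map π) fun i => (stab P.ρ (flag P i)).map π := by
  obtain ⟨U, hU, hUB⟩ := P.exists_sylow h.inj
  refine ⟨U, hU, hUB, h.family (flag P) U hU
    (fun i => hUB.trans fun g hg => P.mem_B₀.1 hg _ i.2) ?_ ?_⟩
  · intro W hne hts hinv
    rcases P.classify hinv hts with ⟨i, hi, rfl⟩ | hlt
    · rcases Nat.eq_zero_or_pos i with rfl | hpos
      · exact absurd P.E_zero hne
      · refine ⟨⟨i - 1, by omega⟩, ?_⟩
        show stab P.ρ (P.E i) ≤ stab P.ρ (P.E (i - 1 + 1))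
        rw [Nat.sub_add_cancel hpos]
    · obtain ⟨x, hx, hxE⟩ := SetLike.exists_of_lt hlt
      exact absurd (hmax x (P.mem_perp.2 fun a ha => P.mem_perp.1 (hts.1 hx) a (hlt.le ha))
        (hts.2 x hx)) hxE
  · rintro ⟨i, hi⟩
    rcases Nat.lt_or_ge (i + 1) P.r with h1 | h1
    · obtain ⟨g, hg, hg', -⟩ := exists_move (P := P) h1
      exact ⟨g, hg, fun j hj => hg' _ (fun e => hj (Fin.ext (by simp at e; omega))) j.2⟩
    · obtain ⟨g, hg, hg'⟩ := hlast
      have hir : i = P.r - 1 := by omega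
      subst hir
      refine ⟨g, fun hm => hg' ?_, fun j hj => ?_⟩
      · have h2 := stab_apply_mem hm (P.e_mem (Nat.lt_succ_self (P.r - 1)))
        exact P.E_mono (by omega) h2
      · have hjl : j.val < P.r - 1 := by
          have : j.val ≠ P.r - 1 := fun e => hj (Fin.ext e)
          omega
        refine mem_stab_span ?_
        rintro _ ⟨k, hk, rfl⟩
        rw [hg k (by have : k < j.val + 1 := hk; omega)]
        exact Submodule.subset_span ⟨k, hk, rfl⟩

omit [Fact p.Prime] [CharP F p] in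
/-- Comparison of two stabilisers by orbit lengths. -/
theorem card_ne_of_orbits (ρ : G →* (V ≃ₗ[F] V)) (π : G →* K) (A B : Submodule F V)
    (hkA : π.ker ≤ stab ρ A) (hkB : π.ker ≤ stab ρ B) (n : ℕ) (S : Finset (Submodule F V))
    (hS : S.card ≤ n) (hup : ∀ g ∈ stab ρ B, A.map (ρ g).toLinearMap ∈ S)
    {α : Type*} (φ : α → G) (hφ : ∀ a, φ a ∈ stab ρ A)
    (hinj : Function.Injective fun a => B.map (ρ (φ a)).toLinearMap) (hn : n < Nat.card α) :
    Nat.card ((stab ρ A).map π) ≠ Nat.card ((stab ρ B).map π) := by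
  intro heq
  have hcard : Nat.card (stab ρ A) = Nat.card (stab ρ B) := by
    rw [← card_map_mul_card_ker hkA, ← card_map_mul_card_ker hkB, heq]
  have hfib : ∀ W : Submodule F V, ∀ a b : G,
      W.map (ρ a).toLinearMap = W.map (ρ b).toLinearMap ↔ a⁻¹ * b ∈ stab ρ W := by
    intro W a b
    have e : ∀ x y : G, (ρ (x * y)).toLinearMap = (ρ x).toLinearMap.comp (ρ y).toLinearMap :=
      fun x y => by rw [map_mul]; rfl
    rw [mem_stab, e, Submodule.map_comp]
    constructor
    · intro hh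
      rw [← hh, ← Submodule.map_comp, ← e, inv_mul_cancel, map_one]
      exact Submodule.map_id W
    · intro hh
      conv_lhs => rw [← hh]
      rw [← Submodule.map_comp, ← e, mul_inv_cancel, map_one]
      exact Submodule.map_id _
  set D := stab ρ A ⊓ stab ρ B
  have h1 := card_eq_card_mul_range (stab ρ A) D inf_le_left
    (fun g => B.map (ρ (g : G)).toLinearMap) (fun a b => by
      rw [hfib]
      exact ⟨fun hh => ⟨Subgroup.mul_mem _ (Subgroup.inv_mem _ a.2) b.2, hh⟩, fun hh => hh.2⟩)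
  have h2 := card_eq_card_mul_range (stab ρ B) D inf_le_right
    (fun g => A.map (ρ (g : G)).toLinearMap) (fun a b => by
      rw [hfib]
      exact ⟨fun hh => ⟨hh, Subgroup.mul_mem _ (Subgroup.inv_mem _ a.2) b.2⟩, fun hh => hh.1⟩)
  have h3 : Nat.card (Set.range fun g : stab ρ B => A.map (ρ (g : G)).toLinearMap) ≤ n := by
    refine le_trans ?_ hS
    rw [← Nat.card_eq_finsetCard S]
    refine Nat.card_le_card_of_injective (fun x => ⟨x.1, ?_⟩) fun x y hxy => Subtype.ext ?_
    · obtain ⟨g, hg⟩ := x.2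
      exact hg ▸ hup g g.2
    · have h' := congrArg (fun z : {x // x ∈ S} => (z : Submodule F V)) hxy
      exact h'
  have h4 : Nat.card α ≤ Nat.card (Set.range fun g : stab ρ A => B.map (ρ (g : G)).toLinearMap) := by
    have : Finite (Set.range fun g : stab ρ A => B.map (ρ (g : G)).toLinearMap) :=
      Set.finite_range _ |>.to_subtype
    refine Nat.card_le_card_of_injective (fun a => ⟨_, ⟨φ a, hφ a⟩, rfl⟩) fun x y hxy => hinj ?_
    exact congrArg Subtype.val hxy
  have hpos : 0 < Nat.card D := Nat.card_pos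
  rw [h1, h2] at hcard
  have := Nat.eq_of_mul_eq_mul_left hpos hcard
  omega

omit [Fact p.Prime] [CharP F p] in
/-- Comparison of two stabilisers by orbit lengths. -/
theorem Setting.card_ne (h : Setting p P π) (A B : Submodule F V) (n : ℕ) (S : Finset (Submodule F V))
    (hS : S.card ≤ n) (hup : ∀ g ∈ stab P.ρ B, A.map (P.ρ g).toLinearMap ∈ S)
    {α : Type*} (φ : α → G) (hφ : ∀ a, φ a ∈ stab P.ρ A)
    (hinj : Function.Injective fun a => B.map (P.ρ (φ a)).toLinearMap) (hn : n < Nat.card α) :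
    Nat.card ((stab P.ρ A).map π) ≠ Nat.card ((stab P.ρ B).map π) :=
  card_ne_of_orbits P.ρ π A B (h.ker_le_stab A) (h.ker_le_stab B) n S hS hup φ hφ hinj hn

omit [Finite G] [Fact p.Prime] [CharP F p] in
/-- The lines in the second member of the flag. -/
theorem exists_lines (h2 : 2 ≤ P.r) :
    ∃ S : Finset (Submodule F V), S.card ≤ Nat.card F + 1 ∧
      ∀ g ∈ stab P.ρ (P.E 2), (P.E 1).map (P.ρ g).toLinearMap ∈ S := by
  classical
  cases nonempty_fintype F
  let φ : Option F → Submodule F V := fun o =>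
    o.elim (Submodule.span F {P.e 0}) fun c => Submodule.span F {P.e 1 + c • P.e 0}
  refine ⟨Finset.univ.image φ, ?_, fun g hg => ?_⟩
  · refine Finset.card_image_le.trans ?_
    rw [Finset.card_univ, Fintype.card_option, Nat.card_eq_fintype_card]
  · have hE : P.E 1 = Submodule.span F {P.e 0} := by
      rw [P.E_succ, P.E_zero, bot_sup_eq]
    have hx : P.ρ g (P.e 0) ∈ P.E 2 := stab_apply_mem hg (P.e_mem (by omega))
    obtain ⟨a, ha, b, hb⟩ := P.mem_E_succ hx
    rw [hE, Submodule.mem_span_singleton] at ha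
    obtain ⟨a, rfl⟩ := ha
    refine Finset.mem_image.2 ?_
    have hmap : (P.E 1).map (P.ρ g).toLinearMap = Submodule.span F {P.ρ g (P.e 0)} := by
      rw [hE, Submodule.map_span, Set.image_singleton]; rfl
    rw [hmap, hb]
    by_cases hb0 : b = 0
    · refine ⟨none, Finset.mem_univ _, ?_⟩
      have ha0 : a ≠ 0 := by
        rintro rfl
        rw [hb0, zero_smul, zero_smul, add_zero, LinearEquiv.map_eq_zero_iff] at hb
        exact P.pair 0 P.r_pos (by rw [hb, map_zero])
      rw [hb0, zero_smul, add_zero]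
      exact (Submodule.span_singleton_smul_eq (IsUnit.mk0 a ha0) _).symm
    · refine ⟨some (b⁻¹ * a), Finset.mem_univ _, ?_⟩
      show Submodule.span F {P.e 1 + (b⁻¹ * a) • P.e 0} = _
      rw [← Submodule.span_singleton_smul_eq (IsUnit.mk0 b hb0) (P.e 1 + (b⁻¹ * a) • P.e 0),
        smul_add, smul_smul, ← mul_assoc, mul_inv_cancel₀ hb0, one_mul, add_comm]

omit [Fact p.Prime] [CharP F p] in
/-- In rank at least three the stabilisers of a point and of a line have different orders. -/
theorem Setting.card_point_ne_line (h : Setting p P π) (h3 : 3 ≤ P.r) :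
    Nat.card ((stab P.ρ (P.E 1)).map π) ≠ Nat.card ((stab P.ρ (P.E 2)).map π) := by
  obtain ⟨S, hS, hup⟩ := exists_lines (P := P) (by omega)
  have hw : ∀ x : F × F, P.L (P.f 1) (x.1 • P.e 2 + x.2 • P.f 2) = 0 := fun x => by
    rw [map_add, map_smul, map_smul, P.symm _ _ (P.ef 2 1 (by omega) (by omega) (by omega)),
      P.ff 1 2 (by omega) (by omega)]
    simp
  choose φ t c ht hφ using fun x => P.eich (P.f 1) _ (P.sg_f 1 (by omega)) (hw x)
  have h0 : ∀ x : F × F, P.ρ (φ x) (P.e 0) = P.e 0 := fun x => by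
    have h1 : P.L (P.f 1) (P.e 0) = 0 := P.symm _ _ (P.ef 0 1 (by omega) (by omega) (by omega))
    have h2 : P.L (x.1 • P.e 2 + x.2 • P.f 2) (P.e 0) = 0 := by
      rw [P.L_add, P.L_smul, P.L_smul, LinearMap.add_apply, LinearMap.smul_apply,
        LinearMap.smul_apply, P.ee 2 0 (by omega) (by omega),
        P.symm _ _ (P.ef 0 2 (by omega) (by omega) (by omega))]
      simp
    rw [hφ, h1, h2]; simp
  refine h.card_ne (P.E 1) (P.E 2) _ S hS hup φ (fun x => mem_stab_span ?_) (fun x y hxy => ?_) ?_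
  · rintro _ ⟨k, hk, rfl⟩
    have : k = 0 := by have : k < 1 := hk; omega
    subst this
    rw [h0]
    exact Submodule.subset_span ⟨0, hk, rfl⟩
  · set k := P.L (P.f 1) (P.e 1) with hk
    have hk0 : k ≠ 0 := P.pair 1 (by omega)
    have happ : ∀ z : F × F, P.ρ (φ z) (P.e 1) =
        P.e 1 + k • (z.1 • P.e 2 + z.2 • P.f 2) + (c z * k) • P.f 1 := fun z => by
      have h2 : P.L (z.1 • P.e 2 + z.2 • P.f 2) (P.e 1) = 0 := by
        rw [P.L_add, P.L_smul, P.L_smul, LinearMap.add_apply, LinearMap.smul_apply,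
          LinearMap.smul_apply, P.ee 2 1 (by omega) (by omega),
          P.symm _ _ (P.ef 1 2 (by omega) (by omega) (by omega))]
        simp
      rw [hφ, h2]; simp [hk]
    have hxy' : (P.E 2).map (P.ρ (φ x)).toLinearMap = (P.E 2).map (P.ρ (φ y)).toLinearMap := hxy
    have hmem : P.ρ (φ x) (P.e 1) ∈ (P.E 2).map (P.ρ (φ y)).toLinearMap :=
      hxy' ▸ ⟨_, P.e_mem (by omega), rfl⟩
    obtain ⟨u, hu, hu'⟩ := hmem
    obtain ⟨a, ha, β, rfl⟩ := P.mem_E_succ hu
    rw [P.E_succ, P.E_zero, bot_sup_eq, Submodule.mem_span_singleton] at ha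
    obtain ⟨α, rfl⟩ := ha
    have e0 : α • P.e 0 + β • (P.e 1 + k • (y.1 • P.e 2 + y.2 • P.f 2) + (c y * k) • P.f 1) =
        P.e 1 + k • (x.1 • P.e 2 + x.2 • P.f 2) + (c x * k) • P.f 1 := by
      have h2 : P.ρ (φ y) (α • P.e 0 + β • P.e 1) = P.ρ (φ x) (P.e 1) := hu'
      rwa [map_add, map_smul, map_smul, h0, happ, happ] at h2
    have e1 := congrArg (P.L (P.f 1)) e0
    have e2 := congrArg (P.L (P.e 2)) e0
    have e3 := congrArg (P.L (P.f 2)) e0
    simp only [map_add, map_smul, smul_eq_mul, ← hk,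
      P.symm _ _ (P.ef 0 1 (by omega) (by omega) (by omega)),
      P.symm _ _ (P.ef 2 1 (by omega) (by omega) (by omega)),
      P.ff 1 2 (by omega) (by omega), P.ff 1 1 (by omega) (by omega),
      mul_zero, zero_add, add_zero] at e1
    have hβ : β = 1 := mul_right_cancel₀ hk0 (by rw [e1, one_mul])
    subst hβ
    simp only [map_add, map_smul, smul_eq_mul, P.ee 2 0 (by omega) (by omega),
      P.ee 2 1 (by omega) (by omega), P.ee 2 2 (by omega) (by omega),
      P.ef 2 1 (by omega) (by omega) (by omega), mul_zero, zero_add, add_zero, one_mul] at e2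
    simp only [map_add, map_smul, smul_eq_mul,
      P.symm _ _ (P.ef 0 2 (by omega) (by omega) (by omega)),
      P.symm _ _ (P.ef 1 2 (by omega) (by omega) (by omega)),
      P.ff 2 2 (by omega) (by omega), P.ff 2 1 (by omega) (by omega),
      mul_zero, zero_add, add_zero, one_mul] at e3
    have hp2 : P.L (P.f 2) (P.e 2) ≠ 0 := P.pair 2 (by omega)
    have hp2' : P.L (P.e 2) (P.f 2) ≠ 0 := fun h' => hp2 (P.symm _ _ h')
    have r1 : x.1 = y.1 := by
      have : (x.1 - y.1) * (k * P.L (P.f 2) (P.e 2)) = 0 := by linear_combination -e3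
      exact sub_eq_zero.1 ((mul_eq_zero.1 this).resolve_right (mul_ne_zero hk0 hp2))
    have r2 : x.2 = y.2 := by
      have : (x.2 - y.2) * (k * P.L (P.e 2) (P.f 2)) = 0 := by linear_combination -e2
      exact sub_eq_zero.1 ((mul_eq_zero.1 this).resolve_right (mul_ne_zero hk0 hp2'))
    exact Prod.ext r1 r2
  · rw [Nat.card_prod]
    have : 2 ≤ Nat.card F := Finite.one_lt_card
    nlinarith

end CfsgLib.PMinimalLie
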