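import Cfsg.Agent.Lib.PMinimalLie.Polar

/-!
Sylow `p`-subgroups and their overgroups in the polar geometries in characteristic `p`.
-/

set_option autoImplicit false

namespace CfsgLib.PMinimalLie

open CfsgLib.SylowOver

section Stab

variable {F V G : Type*} [Field F] [AddCommGroup V] [Module F V] [Group G]

/-- The stabiliser of a subspace. -/
def stab (ρ : G →* (V ≃ₗ[F] V)) (W : Submodule F V) : Subgroup G where
  carrier := {g | W.map (ρ g).toLinearMap = W}
  mul_mem' {a b} ha hb := by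
    show W.map (ρ (a * b)).toLinearMap = W
    rw [map_mul, show ((ρ a * ρ b : V ≃ₗ[F] V)).toLinearMap =
      (ρ a).toLinearMap.comp (ρ b).toLinearMap from rfl, Submodule.map_comp, hb, ha]
  one_mem' := by
    show W.map (ρ 1).toLinearMap = W
    rw [map_one]
    exact Submodule.map_id W
  inv_mem' {a} ha := by
    show W.map (ρ a⁻¹).toLinearMap = W
    conv_lhs => rw [← ha]
    rw [← Submodule.map_comp, show (ρ a⁻¹).toLinearMap.comp (ρ a).toLinearMap =
      ((ρ a⁻¹ * ρ a : V ≃ₗ[F] V)).toLinearMap from rfl, ← map_mul, inv_mul_cancel, map_one]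
    exact Submodule.map_id W

theorem mem_stab {ρ : G →* (V ≃ₗ[F] V)} {W : Submodule F V} {g : G} :
    g ∈ stab ρ W ↔ W.map (ρ g).toLinearMap = W := Iff.rfl

theorem stab_apply_mem {ρ : G →* (V ≃ₗ[F] V)} {W : Submodule F V} {g : G} (hg : g ∈ stab ρ W)
    {x : V} (hx : x ∈ W) : ρ g x ∈ W := by
  rw [← mem_stab.1 hg]
  exact ⟨x, hx, rfl⟩

theorem mem_stab_of [Finite V] {ρ : G →* (V ≃ₗ[F] V)} {W : Submodule F V} {g : G}
    (h : ∀ x ∈ W, ρ g x ∈ W) : g ∈ stab ρ W := by
  have hle : W.map (ρ g).toLinearMap ≤ W := by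
    rintro _ ⟨x, hx, rfl⟩
    exact h x hx
  refine Submodule.eq_of_le_of_finrank_eq hle ?_
  exact LinearEquiv.finrank_map_eq (ρ g) W

theorem mem_stab_span [Finite V] {ρ : G →* (V ≃ₗ[F] V)} {S : Set V} {g : G}
    (h : ∀ x ∈ S, ρ g x ∈ Submodule.span F S) : g ∈ stab ρ (Submodule.span F S) := by
  refine mem_stab_of fun x hx => ?_
  have hle : Submodule.span F S ≤ (Submodule.span F S).comap (ρ g).toLinearMap :=
    Submodule.span_le.2 h
  exact hle hx

end Stab

section Fixed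

variable {F V G K : Type*} [Field F] [AddCommGroup V] [Module F V] [Group G] [Group K]
variable [Finite G] [Finite F] [Finite V] [Nontrivial V] {p : ℕ} [Fact p.Prime] [CharP F p]

omit [Finite F] in
/-- A proper overgroup of a Sylow subgroup stabilises the fixed space of its `p`-core. -/
theorem exists_fixed (ρ : G →* (V ≃ₗ[F] V)) (π : G →* K) (hρ : Function.Injective ρ)
    (hπ : Function.Surjective π)
    (hker : ∀ z, π z = 1 → ∃ c : F, ∀ v, ρ z v = c • v) (hN : NoProperCoreFree p K)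
    (U : Sylow p G) (M : Subgroup K) (hM : M ≠ ⊤)
    (hUM : (U : Subgroup G).map π ≤ M) :
    ∃ C : Submodule F V, C ≠ ⊥ ∧ C ≠ ⊤ ∧ ∀ m ∈ M.comap π, ∀ x ∈ C, ρ m x ∈ C := by
  have : Finite K := Finite.of_surjective π hπ
  set M' := M.comap π
  have hUM' : (U : Subgroup G) ≤ M' := Subgroup.map_le_iff_le_comap.1 hUM
  obtain ⟨v₀, hv₀⟩ := exists_ne (0 : V)
  have hidx : ¬ p ∣ M.index := by
    intro hd
    rw [← Subgroup.index_comap_of_surjective _ hπ] at hd
    exact U.not_dvd_index (hd.trans (Subgroup.index_dvd_of_le hUM'))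
  have hcore : Cfsg.pCore p ↥M ≠ ⊥ := fun h => hM (hN M h hidx)
  set R := (Cfsg.pCore p ↥M).map M.subtype
  have hRp : IsPGroup p R := (CfsgLib.Solvable.pCore_isPGroup p M).map _
  have hRn : ∀ m ∈ M, ∀ x ∈ R, m * x * m⁻¹ ∈ R := by
    rintro m hm _ ⟨x, hx, rfl⟩
    have hn : (Cfsg.pCore p ↥M).Normal := inferInstance
    exact ⟨_, hn.conj_mem x hx ⟨m, hm⟩, rfl⟩
  set H := R.comap π
  obtain ⟨S⟩ := (inferInstance : Nonempty (Sylow p H))
  set S' := (S : Subgroup H).map H.subtype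
  have hS' : IsPGroup p S' := S.isPGroup'.map _
  have hscalar : ∀ z, π z = 1 → (∃ k : ℕ, z ^ p ^ k = 1) → z = 1 := by
    intro z hz hzk
    obtain ⟨c, hc⟩ := hker z hz
    obtain ⟨k, hk⟩ := hzk
    have hpow : ∀ (j : ℕ) (v : V), ρ (z ^ j) v = c ^ j • v := by
      intro j
      induction j with
      | zero => intro v; simp
      | succ j ih =>
        intro v
        rw [pow_succ, map_mul, LinearEquiv.mul_apply, hc, map_smul, ih, smul_smul, ← pow_succ']
    refine hρ ?_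
    rw [map_one]
    refine LinearEquiv.ext fun v => ?_
    show ρ z v = v
    have h0 := hpow (p ^ k) v₀
    rw [hk, map_one] at h0
    have he0 : v₀ ≠ 0 := hv₀
    have h1 : c ^ (p ^ k) = 1 := by
      have h2 : (c ^ (p ^ k) - 1) • v₀ = 0 := by
        rw [sub_smul, one_smul, ← h0]
        simp
      exact sub_eq_zero.1 ((smul_eq_zero.1 h2).resolve_right he0)
    have hc1 : c = 1 := by
      have h3 : (c - 1) ^ (p ^ k) = 0 := by
        rw [sub_pow_char_pow, h1, one_pow, sub_self]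
      exact sub_eq_zero.1 (pow_eq_zero_iff (pow_ne_zero _ (Fact.out : p.Prime).ne_zero) |>.1 h3)
    rw [hc, hc1, one_smul]
  -- the `p`-elements of `H`
  have hall : ∀ h ∈ H, (∃ k : ℕ, h ^ p ^ k = 1) → h ∈ S' := by
    intro h hh ⟨k, hk⟩
    let φ : H →* R := (π.comp H.subtype).codRestrict R fun x => x.2
    have hφ : Function.Surjective φ := by
      rintro ⟨y, hy⟩
      obtain ⟨x, rfl⟩ := hπ y
      exact ⟨⟨x, hy⟩, rfl⟩
    have hmap : (S : Subgroup H).map φ = ⊤ := by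
      rw [← Subgroup.index_eq_one]
      have hd : ((S : Subgroup H).map φ).index ∣ (S : Subgroup H).index :=
        Subgroup.index_map_dvd _ hφ
      obtain ⟨j, hj⟩ := IsPGroup.index hRp ((S : Subgroup H).map φ)
      rw [hj]
      rcases Nat.eq_zero_or_pos j with h0 | h0
      · rw [h0, pow_zero]
      · exact absurd ((dvd_pow_self p h0.ne').trans (hj ▸ hd)) S.not_dvd_index
    obtain ⟨a, ha, hab⟩ : φ ⟨h, hh⟩ ∈ (S : Subgroup H).map φ := hmap ▸ Subgroup.mem_top _
    have hker' : π ((a : G)⁻¹ * h) = 1 := by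
      have : π (a : G) = π h := congrArg Subtype.val hab
      rw [map_mul, map_inv, this, inv_mul_cancel]
    have hcomm : Commute ((a : G)⁻¹ * h) (a : G) := by
      obtain ⟨c, hc⟩ := hker _ hker'
      refine hρ ?_
      rw [map_mul, map_mul (f := ρ) _ ((a : G)⁻¹ * h)]
      exact LinearEquiv.ext fun v => by
        rw [LinearEquiv.mul_apply, LinearEquiv.mul_apply, hc, hc, map_smul]
    obtain ⟨l, hl⟩ := hS' ⟨(a : G), ⟨a, ha, rfl⟩⟩
    have hl' : (a : G) ^ p ^ l = 1 := congrArg Subtype.val hl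
    have hz : (a : G)⁻¹ * h = 1 := by
      refine hscalar _ hker' ⟨k + l, ?_⟩
      have hh' : h = ((a : G)⁻¹ * h) * (a : G) := by rw [hcomm.eq, mul_inv_cancel_left]
      have h1 : h ^ p ^ (k + l) = 1 := by rw [pow_add, pow_mul, hk, one_pow]
      rw [hh', hcomm.mul_pow] at h1
      have h2 : (a : G) ^ p ^ (k + l) = 1 := by
        rw [pow_add, mul_comm, pow_mul, hl', one_pow]
      rwa [h2, mul_one] at h1
    exact ⟨a, ha, inv_mul_eq_one.1 hz⟩
  -- fixed space
  let C : Submodule F V :=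
    { carrier := {v | ∀ g ∈ S', ρ g v = v}
      add_mem' := fun {a b} ha hb g hg => by rw [map_add, ha g hg, hb g hg]
      zero_mem' := fun g _ => map_zero _
      smul_mem' := fun c a ha g hg => by rw [map_smul, ha g hg] }
  have hCinv : ∀ m ∈ M', ∀ x ∈ C, ρ m x ∈ C := by
    intro m hm v hv g hg
    have hmem : m⁻¹ * g * m ∈ S' := by
      refine hall _ ?_ ?_
      · show π (m⁻¹ * g * m) ∈ R
        have hgR : π g ∈ R := by
          obtain ⟨a, -, rfl⟩ := hg
          exact a.2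
        have h := hRn (π m)⁻¹ (inv_mem hm) (π g) hgR
        simpa using h
      · obtain ⟨k, hk⟩ := hS' ⟨g, hg⟩
        refine ⟨k, ?_⟩
        have hk' : g ^ p ^ k = 1 := congrArg Subtype.val hk
        rw [show m⁻¹ * g * m = m⁻¹ * g * m⁻¹⁻¹ by group, conj_pow, hk']
        group
    have := hv _ hmem
    simp only [map_mul, LinearEquiv.mul_apply] at this
    have h2 := congrArg (ρ m) this
    rwa [← LinearEquiv.mul_apply, ← map_mul, mul_inv_cancel, map_one] at h2
  have hCne : C ≠ ⊥ := by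
    cases nonempty_fintype V
    let : MulAction S' V :=
      { smul := fun g v => ρ (g : G) v
        one_smul := fun v => by show ρ ((1 : S') : G) v = v; simp
        mul_smul := fun a b v => by
          show ρ ((a * b : S') : G) v = ρ (a : G) (ρ (b : G) v)
          simp }
    have hpV : p ∣ Nat.card V := by
      have he0 : v₀ ≠ 0 := hv₀
      have h1 : addOrderOf v₀ ∣ Nat.card V := addOrderOf_dvd_natCard _
      have h2 : p • v₀ = 0 := by
        rw [← Nat.cast_smul_eq_nsmul F, CharP.cast_eq_zero, zero_smul]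
      rcases (Nat.dvd_prime (Fact.out : p.Prime)).1 (addOrderOf_dvd_of_nsmul_eq_zero h2) with h | h
      · exact absurd (AddMonoid.addOrderOf_eq_one_iff.1 h) he0
      · rwa [h] at h1
    obtain ⟨v, hv, hv0⟩ :=
      hS'.exists_fixed_point_of_prime_dvd_card_of_fixed_point V hpV (a := (0 : V)) fun g => map_zero _
    exact fun h => hv0 ((Submodule.mem_bot F).1 (h ▸ fun g hg => hv ⟨g, hg⟩)).symm
  have hCtop : C ≠ ⊤ := by
    intro h
    refine hcore ?_
    rw [Subgroup.eq_bot_iff_forall]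
    intro x hx
    obtain ⟨g, hg⟩ := hπ (x : K)
    let φ : H →* R := (π.comp H.subtype).codRestrict R fun x => x.2
    have hgH : g ∈ H := by show π g ∈ R; rw [hg]; exact ⟨x, hx, rfl⟩
    obtain ⟨j, hj⟩ := (IsPGroup.iff_card).1 hRp
    have hSmap : ∃ a ∈ S', π a = x := by
      have hφ : Function.Surjective φ := by
        rintro ⟨y, hy⟩
        obtain ⟨z, rfl⟩ := hπ y
        exact ⟨⟨z, hy⟩, rfl⟩
      have hmap : (S : Subgroup H).map φ = ⊤ := by
        rw [← Subgroup.index_eq_one]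
        obtain ⟨i, hi⟩ := IsPGroup.index hRp ((S : Subgroup H).map φ)
        rw [hi]
        rcases Nat.eq_zero_or_pos i with h0 | h0
        · rw [h0, pow_zero]
        · exact absurd ((dvd_pow_self p h0.ne').trans (hi ▸ Subgroup.index_map_dvd _ hφ))
            S.not_dvd_index
      obtain ⟨a, ha, hab⟩ : φ ⟨g, hgH⟩ ∈ (S : Subgroup H).map φ := hmap ▸ Subgroup.mem_top _
      exact ⟨a, ⟨a, ha, rfl⟩, (congrArg Subtype.val hab).trans hg⟩
    obtain ⟨a, ha, hax⟩ := hSmap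
    have : a = 1 := hρ (by
      rw [map_one]
      exact LinearEquiv.ext fun v => (show v ∈ C from h ▸ Submodule.mem_top) a ha)
    exact Subtype.ext (by rw [← hax, this, map_one]; rfl)
  exact ⟨C, hCne, hCtop, hCinv⟩

end Fixed

namespace Polar

variable {F V G : Type*} [Field F] [AddCommGroup V] [Module F V] [Group G] (P : Polar F V G)

theorem inv_map_eq {g : G} (x : V) : P.ρ g (P.ρ g⁻¹ x) = x := by
  rw [← LinearEquiv.mul_apply, ← map_mul, mul_inv_cancel, map_one]; rfl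

theorem inv_perp {H : Subgroup G} {W : Submodule F V} (hW : P.Inv H W) : P.Inv H (P.perp W) := by
  intro g hg x hx
  refine P.mem_perp.2 fun a ha => ?_
  rw [← P.isometry g⁻¹]
  have : P.ρ g⁻¹ (P.ρ g x) = x := by
    rw [← LinearEquiv.mul_apply, ← map_mul, inv_mul_cancel, map_one]; rfl
  rw [this]
  exact P.mem_perp.1 hx _ (hW _ (inv_mem hg) a ha)

theorem ts_map {W : Submodule F V} (hW : P.TS W) (g : G) : P.TS (W.map (P.ρ g).toLinearMap) := by
  refine ⟨?_, ?_⟩
  · rintro _ ⟨x, hx, rfl⟩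
    refine P.mem_perp.2 ?_
    rintro _ ⟨a, ha, rfl⟩
    show P.L (P.ρ g a) (P.ρ g x) = 0
    rw [P.isometry]
    exact P.mem_perp.1 (hW.1 hx) a ha
  · rintro _ ⟨x, hx, rfl⟩
    exact P.sg_map g x (hW.2 x hx)

variable [Finite G] [Finite F] [Finite V]

/-- A non-zero invariant subspace contains `e 0`. -/
theorem e₀_mem {W : Submodule F V} (hW : P.Inv P.V₀ W) (hne : W ≠ ⊥) : P.e 0 ∈ W :=
  P.step hW P.r_pos (by rw [P.E_zero]; exact bot_le)
    (fun x _ => P.mem_perp_E.2 fun j hj => absurd hj (Nat.not_lt_zero j))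
    (by rwa [P.E_zero])

omit [Finite G] [Finite F] in
theorem finrank_E_lt {i j : ℕ} (hij : i < j) (hj : j ≤ P.r) :
    Module.finrank F (P.E i) < Module.finrank F (P.E j) :=
  Submodule.finrank_lt_finrank_of_lt (P.E_lt hij hj)

/-- The flag stabiliser. -/
def B₀ : Subgroup G := ⨅ i ∈ Set.Iic P.r, stab P.ρ (P.E i)

omit [Finite G] [Finite F] [Finite V] in
theorem mem_B₀ {g : G} : g ∈ P.B₀ ↔ ∀ i ≤ P.r, g ∈ stab P.ρ (P.E i) := by
  simp [B₀, Subgroup.mem_iInf]

theorem V₀_le_B₀ : P.V₀ ≤ P.B₀ := fun g hg => P.mem_B₀.2 fun i hi => mem_stab_of fun x hx => by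
  rcases Nat.eq_zero_or_pos i with h0 | h0
  · subst h0
    rw [P.E_zero, Submodule.mem_bot] at hx
    rw [hx, map_zero]
    exact Submodule.zero_mem _
  · obtain ⟨k, rfl⟩ : ∃ k, i = k + 1 := ⟨i - 1, by omega⟩
    have h := P.E_mono (Nat.le_succ k) (hg.1 k hi x hx)
    simpa using (P.E (k + 1)).add_mem h hx

variable {p : ℕ} [Fact p.Prime] [CharP F p]

/-- A Sylow subgroup inside the flag stabiliser. -/
theorem exists_sylow (hρ : Function.Injective P.ρ) :
    ∃ U : Sylow p G, P.V₀ ≤ (U : Subgroup G) ∧ (U : Subgroup G) ≤ P.B₀ := by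
  have hV : IsPGroup p (P.V₀.subgroupOf P.B₀) :=
    (P.isPGroup_V₀ hρ).comap_of_injective _ P.B₀.subtype_injective
  obtain ⟨U₀, hU₀⟩ := hV.exists_le_sylow
  set U₁ := (U₀ : Subgroup P.B₀).map P.B₀.subtype with hU₁
  have hU₁p : IsPGroup p U₁ := U₀.isPGroup'.map _
  have hle : U₁ ≤ P.B₀ := Subgroup.map_subtype_le _
  have hVU : P.V₀ ≤ U₁ := fun g hg => ⟨⟨g, P.V₀_le_B₀ hg⟩, hU₀ hg, rfl⟩
  obtain ⟨S, hS⟩ := hU₁p.exists_le_sylow
  refine ⟨S, hVU.trans hS, fun s hs => ?_⟩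
  suffices heq : (S : Subgroup G) ≤ U₁ from hle (heq hs)
  by_contra hlt
  have hnil : Group.IsNilpotent (S : Subgroup G) := S.isPGroup'.isNilpotent
  have hne : U₁.subgroupOf (S : Subgroup G) ≠ ⊤ := fun h =>
    hlt (Subgroup.subgroupOf_eq_top.1 h)
  have hN := normalizerCondition_of_isNilpotent (U₁.subgroupOf (S : Subgroup G)) hne.lt_top
  obtain ⟨g, hg, hgU⟩ := SetLike.exists_of_lt hN
  have hnorm : ∀ u ∈ U₁, (g : G)⁻¹ * u * g ∈ U₁ := by
    intro u hu
    have h := (Subgroup.mem_normalizer_iff.1 (inv_mem hg) ⟨u, hS hu⟩).1 hu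
    simpa [Subgroup.mem_subgroupOf] using h
  have hgB : (g : G) ∈ P.B₀ := by
    refine P.mem_B₀.2 fun i hi => ?_
    set W := (P.E i).map (P.ρ (g : G)).toLinearMap with hW
    have hinv : P.Inv P.V₀ W := by
      rintro v hv _ ⟨x, hx, rfl⟩
      refine ⟨P.ρ ((g : G)⁻¹ * v * g) x, stab_apply_mem (P.mem_B₀.1 (hle (hnorm v (hVU hv))) i hi) hx,
        ?_⟩
      show P.ρ (g : G) (P.ρ ((g : G)⁻¹ * v * g) x) = P.ρ v (P.ρ (g : G) x)
      simp only [← LinearEquiv.mul_apply, ← map_mul]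
      congr 2
      group
    have hrank : Module.finrank F W = Module.finrank F (P.E i) :=
      LinearEquiv.finrank_map_eq (P.ρ (g : G)) (P.E i)
    rcases P.classify hinv (P.ts_map (P.ts_E hi) _) with ⟨j, hj, hj'⟩ | hlt'
    · rcases Nat.lt_trichotomy j i with h | h | h
      · have := P.finrank_E_lt h hi
        rw [hj'] at hrank; omega
      · rw [mem_stab, ← hW, hj', h]
      · have := P.finrank_E_lt h hj
        rw [hj'] at hrank; omega
    · have h1 := Submodule.finrank_lt_finrank_of_lt hlt'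
      have h2 := Submodule.finrank_mono (P.E_mono hi)
      omega
  have hU' : IsPGroup p (((S : Subgroup G) ⊓ P.B₀).subgroupOf P.B₀) :=
    (S.isPGroup'.to_le inf_le_left).comap_of_injective _ P.B₀.subtype_injective
  have hle' : (U₀ : Subgroup P.B₀) ≤ ((S : Subgroup G) ⊓ P.B₀).subgroupOf P.B₀ := fun u hu =>
    ⟨hS ⟨u, hu, rfl⟩, u.2⟩
  have h' := U₀.is_maximal' hU' hle'
  refine hgU ?_
  rw [Subgroup.mem_subgroupOf]
  refine ⟨⟨g, hgB⟩, ?_, rfl⟩
  show (⟨g, hgB⟩ : P.B₀) ∈ (U₀ : Subgroup P.B₀)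
  rw [← h']
  exact ⟨g.2, hgB⟩

variable {K : Type*} [Group K] (π : G →* K)

/-- A proper overgroup stabilises an invariant totally singular subspace. -/
theorem exists_invariant (hρ : Function.Injective P.ρ) (hπ : Function.Surjective π)
    (hker : ∀ z, π z = 1 → ∃ c : F, ∀ v, P.ρ z v = c • v) (hN : NoProperCoreFree p K)
    (U : Sylow p G) (hU : P.V₀ ≤ (U : Subgroup G)) (M : Subgroup K) (hM : M ≠ ⊤)
    (hUM : (U : Subgroup G).map π ≤ M) :
    ∃ W : Submodule F V, W ≠ ⊥ ∧ P.TS W ∧ P.Inv P.V₀ W ∧ M ≤ (stab P.ρ W).map π := by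
  have : Finite K := Finite.of_surjective π hπ
  set M' := M.comap π
  have hUM' : (U : Subgroup G) ≤ M' := Subgroup.map_le_iff_le_comap.1 hUM
  have : Nontrivial V := ⟨P.e 0, 0, fun h => P.pair 0 P.r_pos (by rw [h, map_zero])⟩
  obtain ⟨C, hCne, hCtop, hCinv⟩ := exists_fixed P.ρ π hρ hπ hker hN U M hM hUM
  have hV0 : ∀ {W : Submodule F V}, P.Inv M' W → P.Inv P.V₀ W := fun h g hg x hx =>
    h g (hUM' (hU hg)) x hx
  have hperp : P.perp C ≠ ⊥ := by
    obtain ⟨x, -, hx⟩ := SetLike.exists_of_lt hCtop.lt_top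
    obtain ⟨w, hw, hxw⟩ := P.exists_perp hx
    refine fun h => hxw ?_
    rw [h, Submodule.mem_bot] at hw
    rw [hw, map_zero]
  let W : Submodule F V :=
    { carrier := {x | (x ∈ C ∧ x ∈ P.perp C) ∧ P.Sg x}
      add_mem' := fun {a b} ha hb => ⟨⟨C.add_mem ha.1.1 hb.1.1, (P.perp C).add_mem ha.1.2 hb.1.2⟩,
        P.sg_add a b ha.2 hb.2 (P.mem_perp.1 hb.1.2 a ha.1.1)⟩
      zero_mem' := ⟨⟨C.zero_mem, (P.perp C).zero_mem⟩, P.sg_zero⟩
      smul_mem' := fun c a ha => ⟨⟨C.smul_mem c ha.1.1, (P.perp C).smul_mem c ha.1.2⟩,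
        P.sg_smul c a ha.2⟩ }
  have hWinv : P.Inv M' W := fun g hg x hx =>
    ⟨⟨hCinv g hg x hx.1.1, P.inv_perp hCinv g hg x hx.1.2⟩, P.sg_map g x hx.2⟩
  refine ⟨W, fun h => ?_, ⟨fun x hx => P.mem_perp.2 fun a ha => P.mem_perp.1 hx.1.2 a ha.1.1,
    fun x hx => hx.2⟩, hV0 hWinv, fun y hy => ?_⟩
  · have he : P.e 0 ∈ W := ⟨⟨P.e₀_mem (hV0 hCinv) hCne,
      P.e₀_mem (hV0 (P.inv_perp hCinv)) hperp⟩, P.sg_e 0 P.r_pos⟩
    rw [h, Submodule.mem_bot] at he
    exact P.pair 0 P.r_pos (by rw [he, map_zero])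
  · obtain ⟨m, rfl⟩ := hπ y
    exact ⟨m, mem_stab_of (hWinv m hy), rfl⟩

end Polar

end CfsgLib.PMinimalLie
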