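import Cfsg.Agent.Lib.PMinimalLie.PolarGeo

/-!
The data for the polar groups: rank at least three, and small rank with a middle of dimension at
most one.
-/

set_option autoImplicit false

namespace CfsgLib.PMinimalLie

open CfsgLib.SylowOver

variable {F V G K : Type*} [Field F] [AddCommGroup V] [Module F V] [Group G] [Group K]
variable {p : ℕ} {P : Polar F V G} {π : G →* K}
variable [Finite G] [Finite F] [Finite V] [Fact p.Prime] [CharP F p]

omit [Fact p.Prime] [CharP F p] [Finite G] in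
/-- A power of order dividing `|F| - 1` acts trivially on a one-dimensional factor. -/
theorem layer {A B : Submodule F V} {a : V} (hB : B ≤ A ⊔ Submodule.span F {a}) (hAB : A ≤ B)
    {u : G} (hA : ∀ x ∈ A, P.ρ u x ∈ A) (hBu : ∀ x ∈ B, P.ρ u x ∈ B) :
    ∀ x ∈ B, P.ρ (u ^ (Nat.card F - 1)) x - x ∈ A := by
  cases nonempty_fintype F
  by_cases hBA : B ≤ A
  · intro x hx
    refine A.sub_mem ?_ (hBA hx)
    induction (Nat.card F - 1) with
    | zero => simpa using hBA hx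
    | succ n ih =>
      rw [pow_succ', map_mul, LinearEquiv.mul_apply]
      exact hA _ ih
  obtain ⟨b, hb, hbA⟩ := SetLike.not_le_iff_exists.1 hBA
  have hspan : ∀ x ∈ B, ∃ y ∈ A, ∃ d : F, x = y + d • b := by
    intro x hx
    obtain ⟨y, hy, z, hz, rfl⟩ := Submodule.mem_sup.1 (hB hx)
    obtain ⟨d, rfl⟩ := Submodule.mem_span_singleton.1 hz
    obtain ⟨y', hy', z', hz', hb'⟩ := Submodule.mem_sup.1 (hB hb)
    obtain ⟨d', rfl⟩ := Submodule.mem_span_singleton.1 hz'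
    have hd' : d' ≠ 0 := by
      rintro rfl
      rw [zero_smul, add_zero] at hb'
      exact hbA (hb' ▸ hy')
    refine ⟨y - (d * d'⁻¹) • y', A.sub_mem hy (A.smul_mem _ hy'), d * d'⁻¹, ?_⟩
    rw [← hb', smul_add, smul_smul, mul_assoc, inv_mul_cancel₀ hd', mul_one]
    abel
  obtain ⟨y, hy, c, hc⟩ := hspan _ (hBu b hb)
  have hc0 : c ≠ 0 := by
    rintro rfl
    rw [zero_smul, add_zero] at hc
    refine hbA ?_
    have hle : A.map (P.ρ u).toLinearMap ≤ A := by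
      rintro _ ⟨x, hx, rfl⟩
      exact hA x hx
    have heq : A.map (P.ρ u).toLinearMap = A :=
      Submodule.eq_of_le_of_finrank_eq hle (LinearEquiv.finrank_map_eq (P.ρ u) A)
    obtain ⟨x, hx, hxe⟩ : P.ρ u b ∈ A.map (P.ρ u).toLinearMap := by rw [heq, hc]; exact hy
    exact (P.ρ u).injective hxe ▸ hx
  have hpow : ∀ n : ℕ, P.ρ (u ^ n) b - c ^ n • b ∈ A := by
    intro n
    induction n with
    | zero => simp
    | succ n ih =>
      have e : P.ρ (u ^ (n + 1)) b - c ^ (n + 1) • b =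
          P.ρ u (P.ρ (u ^ n) b - c ^ n • b) + c ^ n • y := by
        rw [pow_succ', map_mul, LinearEquiv.mul_apply, map_sub, map_smul, hc, smul_add, smul_smul,
          ← pow_succ]
        abel
      rw [e]
      exact A.add_mem (hA _ ih) (A.smul_mem _ hy)
  intro x hx
  obtain ⟨y', hy', d, rfl⟩ := hspan x hx
  have hAn : ∀ n : ℕ, P.ρ (u ^ n) y' ∈ A := by
    intro n
    induction n with
    | zero => simpa using hy'
    | succ n ih =>
      rw [pow_succ', map_mul, LinearEquiv.mul_apply]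
      exact hA _ ih
  have h1 : c ^ (Nat.card F - 1) = 1 := by
    rw [Nat.card_eq_fintype_card]; exact FiniteField.pow_card_sub_one_eq_one c hc0
  have h2 := hpow (Nat.card F - 1)
  rw [h1, one_smul] at h2
  rw [map_add, map_smul, show ∀ w z : V, w + d • z - (y' + d • b) = (w - y') + d • (z - b) from
    fun w z => by rw [smul_sub]; abel]
  exact A.add_mem (A.sub_mem (hAn _) hy') (A.smul_mem _ h2)

omit [Fact p.Prime] [CharP F p] in
/-- With a middle of dimension at most one, a power of a flag stabiliser element is in `V₀`. -/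
theorem pow_mem_V₀ (hmid : ∃ a, P.perp (P.E P.r) ≤ P.E P.r ⊔ Submodule.span F {a})
    {u : G} (hu : u ∈ P.B₀) : u ^ (Nat.card F - 1) ∈ P.V₀ := by
  have hE : ∀ i ≤ P.r, ∀ x ∈ P.E i, P.ρ u x ∈ P.E i := fun i hi x hx =>
    stab_apply_mem (P.mem_B₀.1 hu i hi) hx
  have hperp : ∀ i ≤ P.r, ∀ x ∈ P.perp (P.E i), P.ρ u x ∈ P.perp (P.E i) := fun i hi =>
    P.inv_perp (H := stab P.ρ (P.E i)) (fun g hg x hx => stab_apply_mem hg hx) u
      (P.mem_B₀.1 hu i hi)
  refine ⟨fun i hi x hx => ?_, fun i hi x hx => ?_, fun x hx => ?_⟩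
  · exact layer (A := P.E i) (B := P.E (i + 1)) (a := P.e i) (P.E_succ i).le
      (P.E_mono (Nat.le_succ i)) (hE i hi.le) (hE (i + 1) hi) x hx
  · refine layer (A := P.perp (P.E (i + 1))) (B := P.perp (P.E i)) (a := P.f i) ?_ ?_
      (hperp (i + 1) hi) (hperp i hi.le) x hx
    · intro y hy
      set d := P.L (P.e i) y / P.L (P.e i) (P.f i)
      have hd : P.L (P.e i) (P.f i) ≠ 0 := fun h => P.pair i hi (P.symm _ _ h)
      refine Submodule.mem_sup.2 ⟨y - d • P.f i, P.mem_perp_E.2 fun j hj => ?_, d • P.f i,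
        Submodule.smul_mem _ _ (Submodule.mem_span_singleton_self _), sub_add_cancel _ _⟩
      rw [map_sub, map_smul, smul_eq_mul]
      rcases Nat.lt_succ_iff_lt_or_eq.1 hj with h | h
      · rw [P.mem_perp_E.1 hy j h, P.ef j i (by omega) hi (by omega)]
        simp
      · subst h
        rw [div_mul_cancel₀ _ hd, sub_self]
    · exact fun y hy => P.mem_perp_E.2 fun j hj => P.mem_perp_E.1 hy j (by omega)
  · obtain ⟨a, ha⟩ := hmid
    exact layer ha (P.E_le_perp le_rfl le_rfl) (hE P.r le_rfl) (hperp P.r le_rfl) x hx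

omit [Finite V] [Finite F] in
theorem isFlagUnip_conj {g n : G} (hg : g ∈ P.B₀) (hn : n ∈ P.V₀) : g * n * g⁻¹ ∈ P.V₀ := by
  obtain ⟨h1, h2, h3⟩ := hn
  have key : ∀ (A B : Submodule F V), (∀ x ∈ A, P.ρ g x ∈ A) → (∀ x ∈ B, P.ρ g⁻¹ x ∈ B) →
      (∀ x ∈ B, P.ρ n x - x ∈ A) → ∀ x ∈ B, P.ρ (g * n * g⁻¹) x - x ∈ A := by
    intro A B hA hB hn x hx
    have e : P.ρ (g * n * g⁻¹) x - x = P.ρ g (P.ρ n (P.ρ g⁻¹ x) - P.ρ g⁻¹ x) := by
      rw [map_mul, map_mul, LinearEquiv.mul_apply, LinearEquiv.mul_apply, map_sub, P.inv_map_eq]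
    rw [e]
    exact hA _ (hn _ (hB x hx))
  have hE : ∀ a ∈ P.B₀, ∀ i ≤ P.r, ∀ x ∈ P.E i, P.ρ a x ∈ P.E i := fun a ha i hi x hx =>
    stab_apply_mem (P.mem_B₀.1 ha i hi) hx
  have hperp : ∀ a ∈ P.B₀, ∀ i ≤ P.r, ∀ x ∈ P.perp (P.E i), P.ρ a x ∈ P.perp (P.E i) :=
    fun a ha i hi => P.inv_perp (H := stab P.ρ (P.E i)) (fun g hg x hx => stab_apply_mem hg hx) a
      (P.mem_B₀.1 ha i hi)
  exact ⟨fun i hi => key _ _ (hE g hg i hi.le) (hE _ (inv_mem hg) (i + 1) hi) (h1 i hi),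
    fun i hi => key _ _ (hperp g hg (i + 1) hi) (hperp _ (inv_mem hg) i hi.le) (h2 i hi),
    key _ _ (hE g hg P.r le_rfl) (hperp _ (inv_mem hg) P.r le_rfl) h3⟩

theorem Setting.infLe (h : Setting p P π)
    (hmid : ∃ a, P.perp (P.E P.r) ≤ P.E P.r ⊔ Submodule.span F {a})
    (U : Sylow p G) (hU : P.V₀ ≤ (U : Subgroup G)) (hUB : (U : Subgroup G) ≤ P.B₀)
    (hfam : Family ((U : Subgroup G).map π) fun i => (stab P.ρ (flag P i)).map π) :
    InfLe ((U : Subgroup G).map π) := by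
  cases nonempty_fintype F
  have hUV : (U : Subgroup G) = P.V₀ := by
    refine le_antisymm (fun u hu => ?_) hU
    obtain ⟨k, hk⟩ := U.isPGroup' ⟨u, hu⟩
    have hk' : u ^ p ^ k = 1 := congrArg Subtype.val hk
    have hcop : (Nat.card F - 1).Coprime (orderOf u) := by
      refine Nat.Coprime.coprime_dvd_right (orderOf_dvd_of_pow_eq_one hk') (Nat.Coprime.pow_right _ ?_)
      refine ((Fact.out : p.Prime).coprime_iff_not_dvd.2 fun hd => ?_).symm
      obtain ⟨n, -, hn⟩ := FiniteField.card F p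
      have h1 : p ∣ Nat.card F := by
        rw [Nat.card_eq_fintype_card, hn]; exact dvd_pow_self p n.ne_zero
      have h2 := Nat.dvd_sub h1 hd
      rw [Nat.sub_sub_self Finite.card_pos] at h2
      exact (Fact.out : p.Prime).not_dvd_one h2
    obtain ⟨m, hm⟩ := exists_pow_eq_self_of_coprime hcop
    rw [← hm]
    exact P.V₀.pow_mem (pow_mem_V₀ hmid (hUB hu)) m
  refine hfam.infLe fun x hx => ?_
  obtain ⟨g, rfl⟩ := h.surj x
  have hg : g ∈ P.B₀ := by
    refine P.mem_B₀.2 fun i hi => ?_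
    rcases Nat.eq_zero_or_pos i with rfl | hpos
    · rw [P.E_zero]
      exact mem_stab_of fun x hx => by
        rw [Submodule.mem_bot] at hx
        rw [hx, map_zero]
        exact Submodule.zero_mem _
    · have h1 := h.mem_map_stab.1 (hx ⟨i - 1, by omega⟩)
      rw [show flag P ⟨i - 1, by omega⟩ = P.E i by
        show P.E (i - 1 + 1) = P.E i
        rw [Nat.sub_add_cancel hpos]] at h1
      exact h1
  refine Subgroup.le_normalizer_map π ⟨g, ?_, rfl⟩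
  rw [hUV, SetLike.mem_coe, Subgroup.mem_normalizer_iff]
  refine fun n => ⟨fun hn => isFlagUnip_conj hg hn, fun hn => ?_⟩
  simpa [mul_assoc] using isFlagUnip_conj (inv_mem hg) hn

/-- The image Sylow subgroup. -/
theorem Setting.exists_image (h : Setting p P π) (U : Sylow p G) :
    ∃ U' : Sylow p K, (U' : Subgroup K) = (U : Subgroup G).map π :=
  ⟨U.mapSurjective h.surj, rfl⟩

theorem Setting.geo_three (h : Setting p P π) (h3 : 3 ≤ P.r)
    (hmax : ∀ x ∈ P.perp (P.E P.r), P.Sg x → x ∈ P.E P.r)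
    (hlast : ∃ g, (∀ k, k < P.r - 1 → P.ρ g (P.e k) = P.e k) ∧ P.ρ g (P.e (P.r - 1)) ∉ P.E P.r)
    (rk exc : Prop) : Geo p K rk exc := by
  obtain ⟨U, hU, hUB, hfam⟩ := h.flag_family hmax hlast
  obtain ⟨U', hU'⟩ := h.exists_image U
  have : Nonempty (Fin P.r) := ⟨⟨0, by omega⟩⟩
  refine ⟨U', hU' ▸ hfam.sep, Or.inl (hU' ▸ ?_)⟩
  refine hfam.apart (i := ⟨0, by omega⟩) (j := ⟨1, by omega⟩) ?_
  exact h.card_point_ne_line h3

theorem Setting.geo_one (h : Setting p P π) (h1 : P.r = 1)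
    (hmid : ∃ a, P.perp (P.E P.r) ≤ P.E P.r ⊔ Submodule.span F {a})
    (hmax : ∀ x ∈ P.perp (P.E P.r), P.Sg x → x ∈ P.E P.r)
    (hlast : ∃ g, (∀ k, k < P.r - 1 → P.ρ g (P.e k) = P.e k) ∧ P.ρ g (P.e (P.r - 1)) ∉ P.E P.r)
    {rk : Prop} (hrk : rk) (exc : Prop) : Geo p K rk exc := by
  obtain ⟨U, hU, hUB, hfam⟩ := h.flag_family hmax hlast
  obtain ⟨U', hU'⟩ := h.exists_image U
  have : Nonempty (Fin P.r) := ⟨⟨0, by omega⟩⟩
  exact ⟨U', hU' ▸ hfam.sep, Or.inr ⟨hU' ▸ h.infLe hmid U hU hUB hfam, Or.inl hrk⟩⟩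

theorem Setting.geo_two (h : Setting p P π) (h2 : P.r = 2)
    (hmid : ∃ a, P.perp (P.E P.r) ≤ P.E P.r ⊔ Submodule.span F {a})
    (hmax : ∀ x ∈ P.perp (P.E P.r), P.Sg x → x ∈ P.E P.r)
    (hlast : ∃ g, (∀ k, k < P.r - 1 → P.ρ g (P.e k) = P.e k) ∧ P.ρ g (P.e (P.r - 1)) ∉ P.E P.r)
    (rk : Prop) {exc : Prop} (hexc : p = 2 → exc) : Geo p K rk exc := by
  obtain ⟨U, hU, hUB, hfam⟩ := h.flag_family hmax hlast
  obtain ⟨U', hU'⟩ := h.exists_image U
  have : Nonempty (Fin P.r) := ⟨⟨0, by omega⟩⟩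
  refine ⟨U', hU' ▸ hfam.sep, Or.inr ⟨hU' ▸ h.infLe hmid U hU hUB hfam, Or.inr ⟨hU' ▸ ?_, hexc⟩⟩⟩
  refine hfam.twoOver (a := ⟨0, by omega⟩) (b := ⟨1, by omega⟩) (by simp) fun i => ?_
  rcases i with ⟨i, hi⟩
  simp only [Fin.mk.injEq]
  omega

theorem Setting.geo_apart (h : Setting p P π) (h2 : 2 ≤ P.r)
    (hmax : ∀ x ∈ P.perp (P.E P.r), P.Sg x → x ∈ P.E P.r)
    (hlast : ∃ g, (∀ k, k < P.r - 1 → P.ρ g (P.e k) = P.e k) ∧ P.ρ g (P.e (P.r - 1)) ∉ P.E P.r)
    (hne : Nat.card ((stab P.ρ (P.E 1)).map π) ≠ Nat.card ((stab P.ρ (P.E 2)).map π))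
    (rk exc : Prop) : Geo p K rk exc := by
  obtain ⟨U, hU, hUB, hfam⟩ := h.flag_family hmax hlast
  obtain ⟨U', hU'⟩ := h.exists_image U
  have : Nonempty (Fin P.r) := ⟨⟨0, by omega⟩⟩
  refine ⟨U', hU' ▸ hfam.sep, Or.inl (hU' ▸ ?_)⟩
  exact hfam.apart (i := ⟨0, by omega⟩) (j := ⟨1, by omega⟩) hne

end CfsgLib.PMinimalLie
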