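import Cfsg.Agent.Lib.PMinimalLie.BN
import Cfsg.Agent.Lib.SylowOver.Twisted
import Cfsg.Agent.Lib.SylowOver.ReeF4
import Cfsg.Agent.Lib.Twisted.WeylCount
import Cfsg.Agent.Lib.Twisted.D4U
import Cfsg.Agent.Lib.Twisted.E6U

/-!
The twisted groups of rank at least two `³D₄(q)`, `²E₆(q)`, `²F₄(q)`: the root groups of two orbits
of nodes have different orders, so two maximal parabolic subgroups are not exchanged.
-/

set_option autoImplicit false

namespace CfsgLib.PMinimalLie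

open Cfsg.Lie CfsgLib.Chev CfsgLib.Twisted CfsgLib.SylowOver

/-- `U` is a product of `X` and its part kept by `n`. -/
theorem card_mul_card_keep {G : Type*} [Group G] {U X : Subgroup G} {n : G} (hXU : X ≤ U)
    (hX : ∀ x ∈ X, n⁻¹ * x * n ∈ U → x = 1)
    (hsp : ∀ u ∈ U, ∃ a ∈ X, n⁻¹ * (a⁻¹ * u) * n ∈ U) :
    Nat.card X * Nat.card {u : U // n⁻¹ * u * n ∈ U} = Nat.card U := by
  rw [← Nat.card_prod]
  refine Nat.card_congr (Equiv.ofBijective
    (fun p : X × {u : U // n⁻¹ * u * n ∈ U} =>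
      (⟨p.1.1 * p.2.1.1, mul_mem (hXU p.1.2) p.2.1.2⟩ : U)) ⟨?_, ?_⟩)
  · rintro ⟨⟨a, ha⟩, ⟨⟨r, hr⟩, hr'⟩⟩ ⟨⟨b, hb⟩, ⟨⟨t, ht⟩, ht'⟩⟩ e
    have e' : a * r = b * t := congrArg Subtype.val e
    have h1 : b⁻¹ * a = 1 := by
      refine hX _ (mul_mem (inv_mem hb) ha) ?_
      rw [show b⁻¹ * a = t * r⁻¹ by rw [inv_mul_eq_iff_eq_mul, ← mul_assoc, ← e', mul_inv_cancel_right],
        show n⁻¹ * (t * r⁻¹) * n = n⁻¹ * t * n * (n⁻¹ * r * n)⁻¹ by group]
      exact mul_mem ht' (inv_mem hr')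
    obtain rfl : b = a := inv_mul_eq_one.1 h1
    obtain rfl : r = t := mul_left_cancel e'
    rfl
  · rintro ⟨u, hu⟩
    obtain ⟨a, ha, h⟩ := hsp u hu
    exact ⟨(⟨a, ha⟩, ⟨⟨a⁻¹ * u, mul_mem (inv_mem (hXU ha)) hu⟩, h⟩),
      Subtype.ext (mul_inv_cancel_left a u)⟩

section

variable {D : ChevalleyDatum} {T : Tabs} {S : TwistSym D} {H : List ℤ}
variable {K : Type*} [Field K] [Fintype K] {p : ℕ} [Fact p.Prime] [CharP K p]

/-- The positive roots made negative by the reflection of an orbit of nodes. -/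
abbrev orbInv (S : TwistSym D) (i : ℕ) : ℕ :=
  ((List.range D.nroots).filter fun r =>
    decide (D.nroots / 2 ≤ r) && decide (S.wO i r < D.nroots / 2)).length

omit [Fintype K] [Fact p.Prime] [CharP K p] in
theorem nOrb_eq_nProd (hc : Checked D T) (hS : S.test = true) (φ : K ≃+* K) (i : Fin D.rank) :
    nOrb hS φ i.val = nProd D K (nodeWord hS i) := by
  rw [nOrb, orbProd, nodeWord, nProd, List.map_map]
  congr 1
  refine List.map_congr_left fun k _ => ?_
  rw [iter_elN_simple hc hS φ i.2, Function.comp_apply, iterNode_val]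

omit [Fintype K] [Fact p.Prime] [CharP K p] in
theorem card_invSet_nodeWord (hc : Checked D T) (hS : S.test = true) (i : Fin D.rank) :
    (invSet D (wfun D T (nodeWord hS i))).card = orbInv S i.val := by
  classical
  rw [orbInv, ← List.toFinset_card_of_nodup (List.nodup_range.filter _),
    ← Finset.card_map Fin.valEmbedding]
  congr 1
  ext v
  simp only [Finset.mem_map, Fin.valEmbedding_apply, List.mem_toFinset, List.mem_filter,
    List.mem_range, Bool.and_eq_true, decide_eq_true_eq]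
  constructor
  · rintro ⟨r, hr, rfl⟩
    rw [mem_invSet, sigs_nodeWord hc hS i r.2] at hr
    exact ⟨r.2, hr⟩
  · rintro ⟨hv, h1, h2⟩
    exact ⟨⟨v, hv⟩, mem_invSet.2 ⟨h1, by rw [sigs_nodeWord hc hS i hv]; exact h2⟩, rfl⟩

theorem geo_twist (hc : Checked D T) (hS : S.test = true) (φ : K ≃+* K)
    (hO : S.orbitTest T = true) (hN : S.nodeTest H = true) (hT : S.bnTest = true)
    (hcomm : CommOne D T) {q : ℕ} (hq : 1 < q)
    (hpar : ∀ r ∈ S.repList, Nat.card {t : K // IsPar S φ r t} = q ^ S.olen r)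
    {G : Subgroup (GL D.Idx K)} (hG : G = twistGrp hS φ) (hs : IsSimpleGroup ↥G)
    {i j : Fin D.rank} (hi : i.val ∈ S.repNodes) (hj : j.val ∈ S.repNodes)
    (hne : orbInv S i.val ≠ orbInv S j.val) (rk exc : Prop) : Geo p ↥G rk exc := by
  classical
  have : Finite (GL D.Idx K) := inferInstance
  obtain ⟨P, hsplit, hPS⟩ := exists_isSplit_twist (p := p) hc hS φ hO hN hT hcomm hG
  subst hG
  set U : Subgroup ↥(twistGrp hS φ) := (D.posUnipotent K).subgroupOf (twistGrp hS φ)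
  have hpos : D.posUnipotent K = uGen D K (fun r => D.nroots / 2 ≤ r) := posUnipotent_eq hc
  have hmem : ∀ k : Fin D.rank, k.val ∈ S.repNodes →
      (⟨nOrb hS φ k, nOrb_mem hc hS φ hN k.2⟩ : ↥(twistGrp hS φ)) ∈ P.S := fun k hk => by
    rw [hPS]; exact ⟨k, hk, rfl⟩
  have key : ∀ k : Fin D.rank, q ^ orbInv S k.val *
      Nat.card {u : U // (⟨nOrb hS φ k, nOrb_mem hc hS φ hN k.2⟩ : ↥(twistGrp hS φ))⁻¹ * u *
        ⟨nOrb hS φ k, nOrb_mem hc hS φ hN k.2⟩ ∈ U} = Nat.card U := by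
    intro k
    set L := nodeWord hS k with hL
    set n : ↥(twistGrp hS φ) := ⟨nOrb hS φ k, nOrb_mem hc hS φ hN k.2⟩
    have hn : (n : GL D.Idx K) = nProd D K L := nOrb_eq_nProd hc hS φ k
    have hst : StableWord D T S L := fun r hr =>
      simple_img_image hc hS φ (one_mem _) (by
        rw [one_mul, ← hn]; exact nOrb_fixed hc hS φ hN k.2) hr
    obtain ⟨hcard, hdec⟩ := fixed_split hc hcomm hS hO φ (zero_lt_one.trans hq) hpar hst
    have hsq : (n : GL D.Idx K) * n ∈ D.diagonalSubgroup K := (nOrb_sq hc hS φ hN k.2).1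
    have hconj : ∀ x : ↥(twistGrp hS φ), n⁻¹ * x * n ∈ U ↔
        (n : GL D.Idx K) * x * (n : GL D.Idx K)⁻¹ ∈ uGen D K (fun r => D.nroots / 2 ≤ r) := by
      intro x
      show ((n⁻¹ * x * n : ↥(twistGrp hS φ)) : GL D.Idx K) ∈ D.posUnipotent K ↔ _
      rw [hpos, Subgroup.coe_mul, Subgroup.coe_mul, Subgroup.coe_inv]
      constructor
      · intro h
        have h1 := diag_conj_mem hc _ hsq h
        convert h1 using 1
        group
      · intro h
        have h1 := diag_conj_mem' hc _ hsq h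
        convert h1 using 1
        group
    have hle : uInv D T K L ⊓ fixedSub S hS φ ≤ twistGrp hS φ := by
      refine le_trans (inf_le_inf_right _ ?_) (posU_fixed_le hc hcomm hS hO φ hN)
      rw [hpos]
      exact uInv_le_pos hc L
    set X := (uInv D T K L ⊓ fixedSub S hS φ).subgroupOf (twistGrp hS φ) with hX
    have hXcard : Nat.card X = q ^ orbInv S k.val := by
      rw [hX, Nat.card_congr (Subgroup.subgroupOfEquivOfLe hle).toEquiv, hcard,
        card_invSet_nodeWord hc hS k]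
    rw [← hXcard]
    refine card_mul_card_keep (fun x hx => ?_) (fun x hx h => ?_) (fun u hu => ?_)
    · show (x : GL D.Idx K) ∈ D.posUnipotent K
      rw [hpos]
      exact uInv_le_pos hc L hx.1
    · have h1 := (hconj x).1 h
      rw [hn] at h1
      have h2 := borel_inf_neg hc (pos_le_borel hc h1) (nProd_conj_uInv hc L hx.1)
      exact Subtype.ext (conj_eq_one_iff.1 h2)
    · have hu' : (u : GL D.Idx K)⁻¹ ∈ D.posUnipotent K ⊓ fixedSub S hS φ :=
        inv_mem ⟨hu, twistGrp_le_fixed hc hS φ u.2⟩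
      obtain ⟨a, ha, v, hv, e⟩ := hdec _ hu'
      have hvG : v⁻¹ ∈ twistGrp hS φ := inv_mem (hle hv)
      refine ⟨⟨v⁻¹, hvG⟩, inv_mem (s := uInv D T K L ⊓ fixedSub S hS φ) hv, (hconj _).2 ?_⟩
      show (n : GL D.Idx K) * ((v⁻¹)⁻¹ * (u : GL D.Idx K)) * (n : GL D.Idx K)⁻¹ ∈ _
      rw [hn, inv_inv, show (u : GL D.Idx K) = v⁻¹ * a⁻¹ by rw [← mul_inv_rev, ← e, inv_inv],
        mul_inv_cancel_left]
      exact nProd_conj_keep hc L (inv_mem ha.1)
  refine geo_of_apart hsplit hs ⟨_, hmem i hi⟩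
    (apart_of_node hsplit hs (s := ⟨_, hmem i hi⟩) (t := ⟨_, hmem j hj⟩) fun e => ?_) rk exc
  have h1 := key i
  rw [e, ← key j] at h1
  exact hne (Nat.pow_right_injective hq (Nat.eq_of_mul_eq_mul_right
    (Nat.pos_of_ne_zero fun h0 => (Nat.card_pos (α := U)).ne' (by rw [← key j, h0, mul_zero])) h1))

theorem geo_twistedD4 {q : ℕ} (hq : IsPrimePow q) (hK : Fintype.card K = q ^ 3) (rk exc : Prop) :
    Geo p ↥(twistedD4 K q) rk exc := by
  obtain ⟨φ, hφ⟩ := exists_frob hq three_ne_zero hK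
  exact geo_twist CfsgLib.Chev.D4.checked D4.sym_test φ D4.orbit_ok D4.sym_nodeTest D4.sym_bnTest
    D4.comm_one hq.one_lt (D4.card_par hq hK φ hφ) (D4.twistedD4_eq hK φ hφ) (D4.simple_group hq hK).1
    (i := ⟨1, by decide +kernel⟩) (j := ⟨3, by decide +kernel⟩) (by decide +kernel) (by decide +kernel)
    (by decide +kernel) rk exc

theorem geo_twistedE6 {q : ℕ} (hq : IsPrimePow q) (hK : Fintype.card K = q ^ 2) (rk exc : Prop) :
    Geo p ↥(twistedE6 K q) rk exc := by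
  obtain ⟨φ, hφ⟩ := exists_frob hq two_ne_zero hK
  exact geo_twist CfsgLib.Chev.E6.checked E6.sym_test φ E6.orbit_ok E6.sym_nodeTest E6.sym_bnTest
    E6.comm_one hq.one_lt (E6.card_par hq hK φ hφ) (E6.twistedE6_eq hK φ hφ) (E6.simple_group hq hK).1
    (i := ⟨1, by decide +kernel⟩) (j := ⟨4, by decide +kernel⟩) (by decide +kernel) (by decide +kernel)
    (by decide +kernel) rk exc

end

open CfsgLib.ReeF4 CfsgLib.ReeF4Out in
theorem geo_twistedF4 {K : Type*} [Field K] [Fintype K] {m : ℕ} (hm : 1 ≤ m)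
    (hK : Fintype.card K = 2 ^ (2 * m + 1)) (rk exc : Prop) :
    Geo 2 ↥(twistedF4 K (2 ^ m)) rk exc := by
  classical
  have : Fact (Nat.Prime 2) := ⟨Nat.prime_two⟩
  obtain ⟨σ, hσ⟩ := exists_sigma hK
  obtain ⟨P, hP⟩ := exists_hasBN hσ
  have hsplit := isSplit_G1 hP
  have hs := (ReeF4.simple_group hσ hm).1
  have hmem : ∀ b : Bool, ng hσ b ∈ P.S := fun b => hP.S ▸ ⟨b, rfl⟩
  have key : ∀ b : Bool, Fintype.card K ^ (cond b 2 1) *
      Nat.card {u : Uw K m // (ng hσ b)⁻¹ * u * ng hσ b ∈ Uw K m} = Nat.card (Uw K m) := by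
    intro b
    have hX : Nat.card (Xs σ m b) = Fintype.card K ^ (cond b 2 1) := by
      rw [Nat.card_congr (Subgroup.subgroupOfEquivOfLe (base_spec hσ b).1).toEquiv, (base_spec hσ b).2]
    rw [← hX]
    refine card_mul_card_keep (Xs_le_U hσ b) (fun x hx h => ?_) (fun u hu => ?_)
    · have h1 := B_conj_U hσ (H_le_B hσ (ng_sq hσ b)) h
      rw [show ng hσ b * ng hσ b * ((ng hσ b)⁻¹ * x * ng hσ b) * (ng hσ b * ng hσ b)⁻¹ =
        ng hσ b * x * (ng hσ b)⁻¹ by group] at h1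
      exact conj_eq_one_iff.1 (U_inf_V hσ h1 (ng_conj_Xs hσ hx))
    · obtain ⟨a, ha, r, hr, rfl, hrn⟩ := U_split hσ b hu
      exact ⟨a, ha, by rwa [inv_mul_cancel_left]⟩
  refine geo_of_apart hsplit hs ⟨_, hmem true⟩
    (apart_of_node hsplit hs (s := ⟨_, hmem true⟩) (t := ⟨_, hmem false⟩) fun e => ?_) rk exc
  have h1 := key true
  rw [e, ← key false] at h1
  have h2 := Nat.eq_of_mul_eq_mul_right
    (Nat.pos_of_ne_zero fun h0 => (Nat.card_pos (α := Uw K m)).ne' (by rw [← key false, h0, mul_zero])) h1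
  exact absurd (Nat.pow_right_injective Fintype.one_lt_card h2) (by decide)

end CfsgLib.PMinimalLie
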